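import Cfsg.Agent.L4Q.Ex1

/-! # The case that `-1` is a square -/

set_option autoImplicit false
set_option linter.unusedSectionVars false

namespace Cfsg.Agent.L4Q

open Matrix Cfsg.Agent.RootSub Subgroup Cfsg.Agent.PLocal.Amb Cfsg.Agent.Lyons Equiv

variable {F : Type*} [Field F] {G : Type*} [Group G] [Finite G]

namespace CE

/-- the diagonal unipotent elements -/
def uu (e : F) : HK F := i1 (xx e) * i2 (xx e)

theorem uu_mem (e : F) : uu e ∈ PU := ⟨e, e, rfl⟩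

theorem uu_inv : (uu 1 : HK F)⁻¹ = uu (-1) := inv_eq_of_mul_eq_one_right (by ext1 <;> simp [uu, mm])

theorem tri {a : M2 F} (ha : a.det ≠ 0) {l e : F} (h : a * (xx 1).1 = l • ((xx e).1 * a)) :
    ∃ c f, c ≠ 0 ∧ a = !![e * c, f; 0, c] := by
  obtain ⟨p, q, r, s, rfl⟩ := ent a
  simp only [mm] at *
  exact ⟨s, q, by grind, by grind⟩

theorem shape {k : HK F} {e : F} (h : Sc (k * uu 1) (uu e * k)) :
    ∃ c f d g, c ≠ 0 ∧ d ≠ 0 ∧ k.a = !![e * c, f; 0, c] ∧ k.b = !![e * d, g; 0, d] := by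
  obtain ⟨l, h1, h2, -⟩ := h
  obtain ⟨c, f, a, b⟩ := tri (l := l) (e := e) k.da (by simpa [uu] using h1)
  obtain ⟨d, g, a', b'⟩ := tri (l := l) (e := e) k.db (by simpa [uu] using h2)
  exact ⟨c, f, d, g, a, a', b, b'⟩

theorem comm_t2 {k : HK F} {e : F} (h : Sc (k * uu 1) (uu e * k)) : k * t2 * k⁻¹ * t2⁻¹ ∈ PU := by
  obtain ⟨c, f, d, g, hc, hd, a, b⟩ := shape h
  refine ⟨2 * f / c, 2 * g / d, (mul_inv_eq_iff_eq_mul.2 (mul_inv_eq_iff_eq_mul.2 ?_)).symm⟩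
  ext1 <;> simp [a, b, mm] <;> grind

theorem t2_inv {k : HK F} (hk : k ∈ PU) : t2 * k * t2⁻¹ = k⁻¹ := by
  obtain ⟨a, b, rfl⟩ := hk
  rw [inv_eq_of_mul_eq_one_right t2_t2]
  exact eq_inv_of_mul_eq_one_left (by ext1 <;> simp [mm])

theorem ws_uu : (ws * uu 1 : HK F) = uu 1 * ws := by ext1 <;> simp [uu]

/-- the elements centralising or inverting `y` -/
def Ec (y : G) : Subgroup G where
  carrier := {x | x * y * x⁻¹ = y ∨ x * y * x⁻¹ = y⁻¹}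
  one_mem' := Or.inl (by simp)
  mul_mem' := by
    have e : ∀ a b c : G, a * b * c * (a * b)⁻¹ = a * (b * c * b⁻¹) * a⁻¹ := fun a b c => by group
    rintro a b (ha | ha) (hb | hb) <;> simp only [Set.mem_ofPred_eq, e, hb, ha, ← conj_inv, inv_inv, true_or,
      or_true]
  inv_mem' := by
    rintro a (ha | ha)
    · exact Or.inl (by conv_lhs => rw [← ha]
                       group)
    · exact Or.inr (by rw [← _root_.inv_inj, conj_inv, inv_inv y, ← ha]; group)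

theorem mem_Ec {x y : G} : x ∈ Ec y ↔ x * y * x⁻¹ = y ∨ x * y * x⁻¹ = y⁻¹ := Iff.rfl

theorem Ec_of {x y : G} (h : Commute x y) : x ∈ Ec y := Or.inl (cj_eq h)

theorem comm_cj {x y d : G} (hd : d ∈ Ec y) (h : Commute x y) : Commute (d * x * d⁻¹) y := by
  rcases hd with e | e
  · exact e ▸ cj_comm h d
  · exact Commute.inv_right_iff.1 (e ▸ cj_comm h d)

theorem inv_cj {x y d : G} (hd : d ∈ Ec y) (h : x * y * x⁻¹ = y⁻¹) :
    d * x * d⁻¹ * y * (d * x * d⁻¹)⁻¹ = y⁻¹ := by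
  have e : ∀ z, d * x * d⁻¹ * (d * z * d⁻¹) * (d * x * d⁻¹)⁻¹ = d * (x * z * x⁻¹) * d⁻¹ := fun z => by group
  rcases hd with e1 | e1
  · have := e y
    rwa [h, ← conj_inv, e1] at this
  · have := e y⁻¹
    rwa [← conj_inv (a := y), ← conj_inv (a := y), h, e1, inv_inv, e1] at this

variable {φ : HK F →* G} {V : G → Perm (Fin 4) → Prop} (h : Fr φ V) [Finite F]
include h

local notation "y" => φ (uu 1)
local notation "t" => φ t0
local notation "s" => φ L4Q.t2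

theorem sc1 {k : HK F} (hk : Commute (φ k) y) : Sc (k * uu 1) (uu 1 * k) := h.comm_iff.1 hk

theorem sc {k : HK F} (hk : φ k ∈ Ec y) : ∃ e, Sc (k * uu 1) (uu e * k) := by
  rcases hk with e | e
  · exact ⟨1, sc1 h (comm_of_cj e)⟩
  · rw [← map_inv φ (uu 1), uu_inv, mul_inv_eq_iff_eq_mul, ← map_mul, ← map_mul, h.eq] at e
    exact ⟨_, e⟩

theorem yP : y ∈ PU.map φ := ⟨_, uu_mem 1, rfl⟩

theorem inv0 {k : HK F} (hk : Commute (φ k) y) (k2 : φ k * φ k = 1) (hs : k.s = false) :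
    φ k = 1 ∨ φ k = t := by
  obtain ⟨c, f, d, g, hc, hd, a, b⟩ := shape (sc1 h hk)
  obtain ⟨m, h1, h2, -⟩ := h.sq_iff.1 k2
  have := h.two
  simp only [HK.mul_a, HK.mul_b, hs, cond, a, b, HK.one_a, HK.one_b, mm] at h1 h2
  have : c = d ∨ c = -d := by grind
  rcases this with e | e
  · exact Or.inl (h.one_iff.2 ⟨d, by simp only [a, b, hs, HK.one_a, HK.one_b, HK.one_s, mm]; grind⟩)
  · exact Or.inr ((h.eq _ _).2 ⟨d, by simp only [a, b, hs, t0_a, t0_b, t0_s, mm]; grind⟩)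

theorem ttype (h1 : IsSquare (-1 : F)) {z : G} (hy : Commute z y) (ht : Commute z t) (z2 : z * z = 1)
    (z1 : z ≠ 1) : IsConj t z := by
  obtain ⟨k, rfl⟩ := h.cent z ht
  cases hs : k.s
  · exact (inv0 h hy z2 hs).resolve_left z1 ▸ IsConj.refl _
  · obtain ⟨c, f, d, g, -, -, a, -⟩ := shape (sc1 h hy)
    have w2 : φ ws * φ ws = 1 := by rw [← map_mul, ws_ws, map_one]
    obtain ⟨x, e⟩ := h.swap_or (k := ws) rfl hs w2 z2 ⟨c, by simp [a, mm]⟩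
    obtain ⟨x', e'⟩ := h.swap_t h1 (k := ws) rfl w2
    rcases e with e | e
    · exact h.wt.trans (isConj_iff.2 ⟨_, e⟩).symm
    · exact h.wt.trans ((isConj_iff.2 ⟨_, e⟩).trans (isConj_iff.2 ⟨_, e'⟩)).symm

theorem loc_s (h1 : IsSquare (-1 : F)) {x : G} (hx : x ∈ Ec y) (ht : Commute x t) (hs : Commute x s) :
    x ∈ loc φ H0 s := by
  obtain ⟨k, rfl, hk⟩ := h.cE ht hs
  obtain ⟨e, he⟩ := sc h hx
  obtain ⟨c, f, d, g, hc, hd, a, b⟩ := shape he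
  rcases hk with e | e | e | e
  · exact h.tor_H2 e
  · exact (hc (by simpa [a, mm] using (mem_Tor'.1 e).2.1)).elim
  · exact (iff_loc (map_mul φ _ _ ▸ h.tor_H2 e)).1 (h.ws_H2 h1)
  · exact (hd (by simpa [b, mm] using (mem_Tor'.1 e).2.1)).elim

theorem s_inv {x : G} (hx : x ∈ PU.map φ) : s * x * s⁻¹ = x⁻¹ := by
  obtain ⟨k, hk, rfl⟩ := hx
  rw [← map_inv, ← map_mul, ← map_mul, t2_inv hk, map_inv]

theorem s_Ec : s ∈ Ec y := Or.inr (s_inv h (yP h))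

variable (H : ∀ d ∈ 𝐂[PU.map φ], Commute d (φ t0))
include H

theorem conj_t {r : G} (hr : IsConj t r) (hy : Commute r y) : ∃ d, Commute d y ∧ d * r * d⁻¹ = t := by
  have := Fact.mk (CharP.char_is_prime F (ringChar F))
  obtain ⟨g, x, rfl, e⟩ := exists_cj hr y
  have S := h.syl_P H
  have Pt : PU.map φ ≤ 𝐳[t] := by rintro _ ⟨k, -, rfl⟩; exact mem_cent.2 (h.comm k).symm
  have Py : ∀ {u}, u ∈ PU.map φ → PU.map φ ≤ 𝐳[u] := fun hu v hv => mem_cent.2 (h.P_comm hu hv)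
  obtain ⟨c, hc, e1⟩ := (S.mono Pt le_top).exists_cj_le (R := zpowers x)
    (isPGroup_zpowers ⟨1, by rw [pow_one, ← conj_eq_one_iff (a := g), ← conj_pow, e, h.P_p (yP h)]⟩)
    (zpowers_le.2 (mem_cent.2 (by simpa [← e, mul_assoc] using cj_comm hy g⁻¹)))
  have e2 := Py (e1 (conj_mem_cj c (mem_zpowers x)))
  obtain ⟨d, hd, e3⟩ := (S.mono (Py (yP h)) le_top).exists_cj_eq (T' := cj(g * c⁻¹, PU.map φ))
    ((S.cj_of_mem (mem_top _)).mono (by
      rw [← e, show g * x * g⁻¹ = g * c⁻¹ * (c * x * c⁻¹) * (g * c⁻¹)⁻¹ by group,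
        centralizer_singleton_conj]
      exact cj_mono _ e2) le_top)
  rw [← cj_mul, cj_eq_iff] at e3
  refine ⟨d, (mem_cent.1 hd).symm, ?_⟩
  calc _ = d * (g * c⁻¹) * (c * t * c⁻¹) * (d * (g * c⁻¹))⁻¹ := by group
    _ = _ := by rw [cj_eq (mem_cent.1 hc).symm, cj_eq (h.norm_P H e3)]

theorem syl (h1 : IsSquare (-1 : F)) : ∃ S, IsSyl 2 S (Ec y ⊓ 𝐳[s]) ∧ S ≤ 𝐳[t] := by
  have tE : t ∈ Ec y := Ec_of (h.comm _).symm
  obtain ⟨S, hS, hs⟩ := exists_isSyl_ge (L := Ec y ⊓ 𝐳[t]) (pg_two (h.sq_of h.conj_t2))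
    (zpowers_le.2 ⟨s_Ec h, mem_cent.2 (h.comm _).symm⟩)
  have tS : t ∈ S := hS.le_of_normalizes (pg_two h.tt) (zpowers_le.2 ⟨tE, mem_cent.2 (Commute.refl _)⟩)
    (zpowers_le.2 (centralizer_le_normalizer' _ (mem_centralizer_iff.2 fun x hx =>
      (mem_cent.1 (hS.le hx).2).symm))) (mem_zpowers _)
  have sS := hs (mem_zpowers _)
  have le : S ≤ Ec y ⊓ 𝐳[s] := fun x hx => ⟨(hS.le hx).1, by
    obtain ⟨k, rfl⟩ := h.cent x (mem_cent.1 (hS.le hx).2).symm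
    obtain ⟨e, he⟩ := sc h (hS.le hx).1
    have := eq_one_of_odd hS.pgrp (mul_mem (mul_mem (mul_mem hx sS) (inv_mem hx)) (inv_mem sS))
      (h.odd_p (h.P_p ⟨_, comm_t2 he, by simp⟩))
    exact mem_cent.2 (comm_of_cj (mul_inv_eq_one.1 this)).symm⟩
  obtain ⟨R, hR, SR⟩ := exists_isSyl_ge hS.pgrp le
  obtain ⟨z, ⟨⟨z1, z2⟩, z3⟩, z4, z5⟩ : ∃ z ∈ R ⊓ 𝐳[y] ⊓ 𝐂[R], z ≠ 1 ∧ z * z = 1 := by
    have := inf_centralizer_ne_bot hR.pgrp (hR.pgrp.to_le (inf_le_left : R ⊓ 𝐳[y] ≤ R))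
      (fun r hr => mem_normalizer_of_cj_le (cj_le_iff_forall.2 fun x hx =>
        ⟨R.mul_mem (R.mul_mem hr hx.1) (inv_mem hr),
          mem_cent.2 (comm_cj (hR.le hr).1 (mem_cent.1 hx.2).symm).symm⟩))
      fun e => h.t1 (mem_bot.1 (e ▸ (⟨SR tS, mem_cent.2 (h.comm _)⟩ : t ∈ R ⊓ 𝐳[y])))
    have p : IsPGroup 2 ↥(R ⊓ 𝐳[y] ⊓ 𝐂[R]) := hR.pgrp.to_le (inf_le_left.trans inf_le_left)
    obtain ⟨n, hn⟩ := p.exists_card_eq
    obtain ⟨z, hz⟩ := exists_prime_orderOf_dvd_card' (G := ↥(R ⊓ 𝐳[y] ⊓ 𝐂[R])) 2 (by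
      rw [hn]; exact dvd_pow_self 2 fun e => this (by rwa [e, pow_zero, card_eq_one] at hn))
    rw [← orderOf_coe] at hz
    exact ⟨z, z.2, fun e => by simp [e] at hz, by rw [← pow_two, ← hz, pow_orderOf_eq_one]⟩
  have zR : ∀ r ∈ R, Commute r z := mem_centralizer_iff.1 z3
  obtain ⟨d, hd, e⟩ := conj_t h H (ttype h h1 (mem_cent.1 z2).symm (zR _ (SR tS)).symm z5 z4)
    (mem_cent.1 z2).symm
  have := hS.card_le (isPGroup_cj d hR.pgrp) (cj_le_iff_forall.2 fun x hx =>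
    ⟨(Ec y).mul_mem (mul_mem (Ec_of hd) (hR.le hx).1) (inv_mem (Ec_of hd)),
      mem_cent.2 (e ▸ cj_comm (zR x hx) d).symm⟩)
  rw [card_cj] at this
  exact ⟨S, hR.of_card_ge hS.pgrp le this, hS.le.trans inf_le_right⟩

theorem iso (h1 : IsSquare (-1 : F)) {d : G} (hd : d ∈ Ec y) (c : Commute s (d * s * d⁻¹)) :
    d * s * d⁻¹ = s := by
  obtain ⟨S, hS, St⟩ := syl h H h1
  have into : ∀ x ∈ Ec y, x * x = 1 → Commute s x → ∃ e ∈ Ec y, Commute e s ∧ Commute (e * x * e⁻¹) t :=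
    fun x hx x2 c => by
      obtain ⟨e, he, e1⟩ := exists_conj_mem hS (⟨hx, mem_cent.2 c⟩ : x ∈ Ec y ⊓ 𝐳[s]) (k := 1) (by simpa [pow_two] using x2)
      exact ⟨e, he.1, (mem_cent.1 he.2).symm, (mem_cent.1 (St e1)).symm⟩
  have good : ∀ d ∈ Ec y, ∀ x ∈ Ec y, x * x = 1 → Commute (d * s * d⁻¹) x → x ∈ loc φ H0 (d * s * d⁻¹) :=
    fun d hd x hx x2 c => by
      obtain ⟨x, rfl⟩ : ∃ x', d * x' * d⁻¹ = x := ⟨d⁻¹ * x * d, by group⟩
      have hx : x ∈ Ec y := by simpa [mul_assoc] using mul_mem (mul_mem (inv_mem hd) hx) hd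
      have c : Commute s x := by simpa [mul_assoc] using cj_comm c d⁻¹
      obtain ⟨e, he, e1, e2⟩ := into x hx (by simpa using x2) c
      rw [loc_conj_iff, ← loc_conj_iff e, cj_eq e1]
      exact loc_s h h1 (mul_mem (mul_mem he hx) (inv_mem he)) e2 (cj_eq e1 ▸ cj_comm c.symm e)
  have s2 := h.sq_of h.conj_t2
  obtain ⟨e, he, e1, e2⟩ := into _ (mul_mem (mul_mem hd (s_Ec h)) (inv_mem hd)) (Inv.conj_mul_self s2 d) c
  have c' := cj_comm c e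
  rw [cj_eq e1] at c'
  suffices e * (d * s * d⁻¹) * e⁻¹ = s from
    mul_left_cancel (mul_right_cancel (this.trans (cj_eq e1).symm))
  rw [show e * (d * s * d⁻¹) * e⁻¹ = e * d * s * (e * d)⁻¹ by group] at e2 c' ⊢
  have hd := mul_mem he hd
  generalize e * d = d at *
  have cs := h.conj_t2.trans (isConj_cj d s)
  have m := h.symm cs (IsConj.refl _) (good d hd t (Ec_of (h.comm _).symm) h.tt e2)
  obtain ⟨k, ek⟩ := h.cent _ e2
  have k0 : k.s = false := (h.loc_t sat_H0).1 (ek ▸ m)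
  rcases inv0 h (k := k * L4Q.t2) (by
    refine comm_of_cj ?_
    rw [map_mul, show ∀ a b c : G, a * b * c * (a * b)⁻¹ = a * (b * c * b⁻¹) * a⁻¹ from fun a b c => by group,
      s_inv h (yP h), ← conj_inv, ek, inv_cj hd (s_inv h (yP h)), inv_inv]) (by
    rw [map_mul, ek, c'.mul_mul_mul_comm, h.sq_of cs, s2, one_mul]) (by simp [k0]) with e3 | e3 <;>
    rw [map_mul, ek] at e3
  · rw [eq_inv_of_mul_eq_one_left e3, inv_eq_of_mul_eq_one_right s2]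
  · have e4 : d * s * d⁻¹ = s * t := by
      rw [← e3, ← mul_assoc, c'.eq, mul_assoc (d * s * d⁻¹), s2, mul_one]
    refine (((h.two_of h.wt (h.comm _) h.ws_c2 (h.notH rfl)).1 (h.ws_H2 h1)) (e4 ▸ good d hd _
      (Ec_of (Commute.map ws_uu φ)) (h.sq_of h.wt) ?_)).elim
    rw [e4]
    exact (h.ws_c2.mul_right (h.comm _)).symm

end CE

open CE in
theorem Fr.caseE {φ : HK F →* G} {V : G → Perm (Fin 4) → Prop} (h : Fr φ V) [Finite F]
    (h1 : IsSquare (-1 : F)) (H : ∀ d ∈ 𝐂[PU.map φ], Commute d (φ t0)) : False := by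
  have := Fact.mk (CharP.char_is_prime F (ringChar F))
  have le : PU.map φ ≤ oc (Ec (φ (uu 1))) := fun x hx => h.mem_oc (s_Ec h)
    (Inv.orderOf_eq_two_of_mul_self (h.ne_of h.conj_t2) (h.sq_of h.conj_t2))
    (fun d hd c => iso h H h1 hd c) (Ec_of (h.P_comm hx (yP h))) (h.P_p hx) (s_inv h hx)
  obtain ⟨d, hd, e⟩ := conj_t h H h.wt (Commute.map ws_uu φ)
  obtain ⟨n, hn, o, ho, rfl⟩ := ((h.syl_P H).mono le le_top).frattini' (le_norm_oc _ (Ec_of hd))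
  have e1 : o * φ ws * o⁻¹ = φ t0 := by
    rw [← cj_eq (h.norm_P H hn).inv_left, ← e]; group
  have m : φ ws * φ t0 ∈ oc (Ec (φ (uu 1))) := by
    have := mul_mem (conj_mem_of_mem_normalizer (le_norm_oc _ (Ec_of (Commute.map ws_uu φ))) ho) (inv_mem ho)
    rwa [inv_eq_of_mul_eq_one_right (h.sq_of h.wt), mul_assoc, mul_assoc, ← mul_assoc o, e1] at this
  have e2 := eq_one_of_odd (pg_two (x := φ ws * φ t0) (by
    rw [(h.comm ws).symm.mul_mul_mul_comm, h.sq_of h.wt, h.tt, one_mul])) (mem_zpowers _)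
    (odd_orderOf (odd_oc _) m)
  rw [← map_mul, h.one_iff] at e2
  simpa using e2.choose_spec.2.2

end Cfsg.Agent.L4Q
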