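import Cfsg.Agent.L4Q.ExF3

/-! # The case `q = 3` -/

set_option autoImplicit false
set_option linter.unusedSectionVars false

namespace Cfsg.Agent.L4Q

open Matrix Cfsg.Agent.RootSub Subgroup Cfsg.Agent.PLocal.Amb Cfsg.Agent.Lyons Equiv

variable {G : Type*} [Group G] [Finite G]

local notation "F3" => ZMod 3

theorem two_inv {a b x : G} (ea : a * x * a⁻¹ = x⁻¹) (eb : b * x * b⁻¹ = x⁻¹) : Commute x (a * b) :=
  (comm_of_cj (by
    rw [show a * b * x * (a * b)⁻¹ = a * (b * x * b⁻¹) * a⁻¹ by group, eb, ← conj_inv, ea, inv_inv])).symm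

theorem inv_two {a b x : G} (ea : a * b * x * (a * b)⁻¹ = x⁻¹) (eb : b * x * b⁻¹ = x⁻¹) : Commute a x := by
  rw [show a * b * x * (a * b)⁻¹ = a * (b * x * b⁻¹) * a⁻¹ by group, eb, ← conj_inv, _root_.inv_inj] at ea
  exact comm_of_cj ea

namespace Fr

variable {φ : HK F3 →* G} {V : G → Perm (Fin 4) → Prop} (h : Fr φ V)
include h

variable {y b₁ b₂ τ : G} (c : Cf (φ t0) (φ L4Q.t2) (φ t0) y b₁ b₂ τ)
include c

theorem cf_bt : b₂ * φ t0 * b₂⁻¹ = b₁ * φ t0 := by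
  rw [mul_inv_eq_iff_eq_mul, mul_assoc, mul_inv_eq_iff_eq_mul.1 c.tc, ← mul_assoc, ← mul_assoc, c.bb,
    one_mul]

theorem cf_nH : b₁ ∉ loc φ H0 (φ t0) := fun m => by
  rcases h.ty0 nsq3 (IsConj.refl _) m c.bb with e | e | e | e
  exacts [c.ns (by simpa [e] using h.conj_t2), c.nb (e ▸ IsConj.refl _), c.nb e.1,
    e.2.1 (h.cf_bt c ▸ isConj_cj _ _)]

theorem cf_star {u : G} (uy : Commute y u) (us : Commute (φ L4Q.t2) u) (u2 : u * u = 1) :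
    u = 1 ∨ ¬ IsConj (φ t0) (u * φ L4Q.t2) ∨
      ∃ a, Commute y a ∧ Commute (φ L4Q.t2) a ∧ a * u * a⁻¹ = φ t0 := by
  have hB := fun x => PLocal.mem_four_iff (x := x) c.bb c.cc c.bc
  have tB : zpowers (φ t0) ≤ 𝐍[zpowers b₁ ⊔ zpowers b₂] := zpowers_le.2 (mem_normalizer_of_cj_le
    (cj_le_iff_forall.2 fun x hx => by
      rcases (hB x).1 hx with e | e | e | e <;> rw [e, hB]
      · simp
      · simp [cj_eq c.bt.symm]
      · simp [c.tc]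
      · rw [← conj_mul, c.tc, cj_eq c.bt.symm, ← mul_assoc b₁, c.bb]; simp))
  have n3 : ¬ IsConj (φ t0) (b₁ * b₂) ∧ ¬ IsConj (φ t0) (b₁ * b₂ * φ L4Q.t2) := by
    rw [← c.ub, ← cj_eq c.su.symm, conj_mul, isConj_cj_iff, isConj_cj_iff]; exact ⟨c.nb, c.ns⟩
  have n2 : ¬ IsConj (φ t0) b₂ ∧ ¬ IsConj (φ t0) (b₂ * φ L4Q.t2) := by
    rwa [← c.tc, ← cj_eq (h.comm L4Q.t2).symm, conj_mul, isConj_cj_iff, isConj_cj_iff] at n3
  have n1 : b₁ ≠ 1 := fun e => c.ns (by simpa [e] using h.conj_t2)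
  set S := (zpowers b₁ ⊔ zpowers b₂) ⊔ zpowers (φ t0)
  have el : ∀ x ∈ S, x * x = 1 → x = 1 ∨ (¬ IsConj (φ t0) x ∧ ¬ IsConj (φ t0) (x * φ L4Q.t2)) ∨
      x = φ t0 ∨ b₂ * x * b₂⁻¹ = φ t0 := fun x hx x2 => by
    obtain ⟨v, hv, w, hw, rfl⟩ := (mem_sup_of_le_normalizer_left tB).1 hx
    have e : ∀ v, v * φ t0 * (v * φ t0) = v * (φ t0 * v * (φ t0)⁻¹) := fun v => by
      rw [inv_eq_of_mul_eq_one_right h.tt]; group
    have hw := (PLocal.mem_four_iff h.tt h.tt rfl).1 (mem_sup_left hw)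
    rw [h.tt] at hw
    obtain rfl | rfl : w = 1 ∨ w = φ t0 := by tauto
    · rcases (hB v).1 hv with f | f | f | f <;> rw [mul_one, f]
      exacts [.inl rfl, .inr (.inl ⟨c.nb, c.ns⟩), .inr (.inl n2), .inr (.inl n3)]
    · rcases (hB v).1 hv with f | f | f | f <;> rw [f] at x2 ⊢
      · simp
      · simp [← h.cf_bt c, ← mul_assoc, c.cc, inv_eq_of_mul_eq_one_right c.cc, mul_assoc _ b₂ b₂]
      · rw [e, c.tc, ← mul_assoc, ← c.bc.eq, mul_assoc, c.cc, mul_one] at x2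
        exact (n1 x2).elim
      · rw [e, ← conj_mul, c.tc, cj_eq c.bt.symm, ← mul_assoc b₁ b₁, c.bb, one_mul, mul_assoc, c.cc,
          mul_one] at x2
        exact (n1 x2).elim
  have m1 : b₁ ∈ S := mem_sup_left (mem_sup_left (mem_zpowers _))
  have m2 : b₂ ∈ S := mem_sup_left (mem_sup_right (mem_zpowers _))
  have mt : φ t0 ∈ S := mem_sup_right (mem_zpowers _)
  have ce : ∀ e, Commute y e → Commute (φ L4Q.t2) e → Commute e (φ t0) → e ∈ S := by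
    have : ∀ e, Commute y e → Commute (φ L4Q.t2) e → e ∈ loc φ H0 (φ t0) → e ∈ S := fun e a b m => by
      rcases h.eq_of_pel nsq3 (IsConj.refl _) m (h.cE3 (h.comm_of_loc (IsConj.refl _) m) b.symm).1.1
        (rch3.symm ▸ c.y3) c.y1 c.yt a with rfl | rfl
      exacts [one_mem _, mt]
    intro e a b d
    by_cases m : e ∈ loc φ H0 (φ t0)
    · exact this e a b m
    · exact (mul_mem_cancel_right m1).1 (this _ (a.mul_right c.yb) (b.mul_right c.sb)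
        (h.mul_loc (IsConj.refl _) d c.bt m (h.cf_nH c)))
  have le : S ≤ 𝐳[y] ⊓ 𝐳[φ L4Q.t2] := by
    simp only [S, sup_le_iff, zpowers_le, mem_inf, mem_cent]
    exact ⟨⟨⟨c.yb, c.sb⟩, c.yc, c.sc⟩, c.yt, h.comm _⟩
  have hS : IsSyl 2 S (𝐳[y] ⊓ 𝐳[φ L4Q.t2]) := isSyl_of_isSyl_normalizer ⟨le_inf le le_normalizer,
    (isPGroup_sup (pg_two h.tt) (isPGroup_sup (pg_two c.bb) (pg_two c.cc) (zpowers_le.2 (norm_zp (by
      rw [cj_eq c.bc]; exact mem_zpowers _)))) tB).of_equiv (MulEquiv.subgroupCongr (sup_comm ..)),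
    fun R _ _ hR n hn => by
      obtain ⟨⟨a, b⟩, d⟩ := hR hn
      replace a := mem_cent.1 a
      replace b := mem_cent.1 b
      rcases el _ (conj_mem_of_mem_normalizer d mt) (h.sq_of (isConj_cj _ _)) with e | e | e | e
      · exact (h.ne_of (isConj_cj _ _) e).elim
      · exact (e.1 (isConj_cj _ _)).elim
      · exact ce n a b (comm_of_cj e)
      · exact (mul_mem_cancel_left m2).1 (ce _ (c.yc.mul_right a) (c.sc.mul_right b)
          (comm_of_cj (Eq.trans (by group) e)))⟩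
  obtain ⟨a, ⟨a1, a2⟩, m⟩ := exists_conj_mem hS (t := u) ⟨mem_cent.2 uy, mem_cent.2 us⟩ (k := 1)
    (by simpa [pow_two] using u2)
  replace a1 := mem_cent.1 a1
  replace a2 := mem_cent.1 a2
  rcases el _ m (by simp [u2]) with e | e | e | e
  · exact Or.inl (by simpa using e)
  · exact Or.inr (Or.inl fun f => e.2 (by rwa [← cj_eq a2.symm, conj_mul, isConj_cj_iff]))
  · exact Or.inr (Or.inr ⟨a, a1, a2, e⟩)
  · exact Or.inr (Or.inr ⟨b₂ * a, c.yc.mul_right a1, c.sc.mul_right a2, by rw [← e]; group⟩)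

theorem cf_iso : ∀ d ∈ Char.BS.centInv y, Commute (φ L4Q.t2) (d * φ L4Q.t2 * d⁻¹) →
    d * φ L4Q.t2 * d⁻¹ = φ L4Q.t2 := fun d hd cm => by
  have ss := h.sq_of h.conj_t2
  have cy : ∀ d ∈ Char.BS.centInv y, ∀ x, Commute y x → Commute y (d⁻¹ * x * d) := fun d hd x e => by
    have := cj_comm e d⁻¹
    rcases (inv_mem hd : _ ∨ _) with f | f <;> rw [f] at this <;> simpa using this
  have iy : d * φ L4Q.t2 * d⁻¹ * y * (d * φ L4Q.t2 * d⁻¹)⁻¹ = y⁻¹ := by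
    have := cj3 c.sy d
    rcases (hd : _ ∨ _) with f | f <;> rw [← conj_inv (b := d) (a := y), f] at this
    · exact this
    · rwa [← conj_inv, _root_.inv_inj] at this
  rcases h.cf_star c (two_inv iy c.sy) (cm.mul_right rfl) (by
      rw [mul_assoc, ← mul_assoc (φ L4Q.t2), cm.eq, mul_assoc _ (φ L4Q.t2) (φ L4Q.t2), ss]; simp [ss]) with
    e | e | ⟨a, a1, a2, e⟩
  · rw [eq_inv_of_mul_eq_one_left e, inv_eq_of_mul_eq_one_right ss]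
  · exact (e (by rw [mul_assoc, ss, mul_one, isConj_cj_iff]; exact h.conj_t2)).elim
  have e1 : a * d * φ L4Q.t2 * (a * d)⁻¹ = φ t0 * φ L4Q.t2 := by
    rw [← e, ← cj_eq a2.symm, conj_mul, cj_eq a2.symm, mul_assoc _ (φ L4Q.t2) (φ L4Q.t2), ss]; group
  have e2 : a * d * ((a * d)⁻¹ * b₁ * (a * d)) * (a * d)⁻¹ = b₁ := by group
  rcases h.cf_star c (cy (a * d) (mul_mem (Or.inl (cj_eq a1.symm)) hd) b₁ c.yb) (by
      simpa [← e1, mul_assoc] using cj_comm (c.bt.symm.mul_left c.sb) (a * d)⁻¹) (by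
      rw [← inv_inv (a * d), inv_inv (a * d)⁻¹, conj_mul, c.bb]; group) with f | f | ⟨x, -, -, f⟩
  · exact (c.ns (by rw [← e2, f]; simpa using h.conj_t2)).elim
  · refine (f ?_).elim
    rw [← isConj_cj_iff (a * d), ← conj_mul, e1, e2, ← mul_assoc, ← h.cf_bt c, ← cj_eq c.sc.symm,
      conj_mul, isConj_cj_iff, ← (h.comm _).eq]
    exact h.conj_t3
  · exact (c.nb (by rw [← e2, isConj_cj_iff, ← isConj_cj_iff x, f])).elim

theorem cf_inv {x : G} (hx : x ∈ oc (Char.BS.centInv y)) : φ L4Q.t2 * x * (φ L4Q.t2)⁻¹ = x⁻¹ := by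
  have no := fun d hd x hx => conj_mem_of_mem_normalizer (g := d) (x := x)
    (le_norm_oc (Char.BS.centInv y) hd) hx
  refine Loc3.inv_of_fpf (h.sq_of h.conj_t2) (no _ (Or.inr c.sy)) (fun u hu us => by_contra fun u1 => ?_) hx
  have it : ∀ a, Commute y a → Commute (φ L4Q.t2) a → a * φ t0 * a⁻¹ * u * (a * φ t0 * a⁻¹)⁻¹ = u⁻¹ :=
    fun a a1 a2 => by
      have := Loc3.inv_of_fpf (K := oc (Char.BS.centInv y) ⊓ 𝐳[φ L4Q.t2]) h.tt (fun k hk =>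
        ⟨no _ (Or.inl (cj_eq c.yt.symm)) _ hk.1, mem_cent.2 (by
          simpa [cj_eq (h.comm L4Q.t2).symm] using cj_comm (mem_cent.1 hk.2) (φ t0))⟩)
        (fun k hk e => Inv.eq_one_of_mul_self_of_odd (h.cE3 e (mem_cent.1 hk.2).symm).1.1
          (odd_orderOf (odd_oc _) hk.1)) (k := a⁻¹ * u * a⁻¹⁻¹) ⟨no _ (Or.inl (cj_eq a1.symm.inv_left)) _ hu,
          mem_cent.2 (by simpa only [cj_eq a2.symm.inv_left] using cj_comm us.symm a⁻¹)⟩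
      simpa [mul_assoc] using cj3 this a
  have i1 := it 1 (Commute.one_right _) (Commute.one_right _)
  have i2 := it b₂ c.yc c.sc
  rw [one_mul, inv_one, mul_one] at i1
  rw [h.cf_bt c] at i2
  rcases h.ty0 nsq3 h.conj_t2 (by_contra fun n => c.nb ((h.ty1 nsq3 h.conj_t2 c.sb.symm n c.bb).2 c.ns))
    c.bb with e | e | e | e
  · exact c.ns (by simpa [e] using h.conj_t2)
  · exact c.nb (e ▸ h.conj_t2)
  · exact c.nb e.1
  · rcases h.eq_of_LL h.conj_t2 e.2.2 c.bb (rch3.symm ▸ h.cube3 h.conj_t2 us (odd_orderOf (odd_oc _) hu))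
      u1 us (inv_two i2 i1).symm with e | e
    exacts [c.ns (by simpa [e] using h.conj_t2), c.nb (e ▸ h.conj_t2)]

theorem cf_rc : RC φ V := by
  set O := oc (Char.BS.centInv y)
  have no := fun d (hd : Commute y d) x (hx : x ∈ O) => conj_mem_of_mem_normalizer
    (le_norm_oc (Char.BS.centInv y) (Or.inl (cj_eq hd.symm))) hx
  have ab := fun x hx z hz => Loc3.comm_of_inv (k := x) (l := z) (fun k hk => h.cf_inv c hk) hx hz
  have p3 : ∀ x : G, x ^ 3 = 1 → ∀ s, Commute x s → s * x * s⁻¹ = x⁻¹ → x = 1 := fun x p s a b =>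
    h.eq_one (rch3.symm ▸ p) a b
  have nr : ∀ x, Ro φ x → ¬ Commute b₁ x := fun x r e => h.cf_nH c (h.ro_H0 r c.bt e)
  obtain ⟨f, g, u, v, e⟩ := h.pel3 c.y3 c.yt c.sy
  have u0 : u ≠ 0 := fun u0 => nr y ⟨g, v, fun v0 => c.y1 (by cases f <;> cases g <;> simp [e, u0, v0, ur, xx_zero, yy_zero]),
    Or.inr (by cases f <;> simp [e, u0, ur, xx_zero, yy_zero])⟩ c.yb.symm
  have v0 : v ≠ 0 := fun v0 => nr y ⟨f, u, u0, Or.inl (by cases g <;> simp [e, v0, ur, xx_zero, yy_zero])⟩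
    c.yb.symm
  have mo : ∀ x, Commute x y → x ^ 3 = 1 → φ L4Q.t2 * x * (φ L4Q.t2)⁻¹ = x⁻¹ → x ∈ O := fun x a b d =>
    h.mem_oc (Or.inr c.sy) (Inv.orderOf_eq_two_of_mul_self (h.ne_of h.conj_t2) (h.sq_of h.conj_t2))
      (h.cf_iso c) (Or.inl (cj_eq a)) (rch3.symm ▸ b) d
  have y0 := mo y rfl c.y3 c.sy
  have x3 : φ (i1 (ur f u)) ^ 3 = 1 := by
    simpa only [rch3] using h.rt_p (by cases f <;> decide) (h.u1 f u)
  have x0 := mo _ (by rw [e, map_mul]; exact (Commute.refl _).mul_right ((i_comm _ _).map φ)) x3 (by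
    rw [eq_inv_iff_mul_eq_one, inv_eq_of_mul_eq_one_right (h.sq_of h.conj_t2), ← map_mul, ← map_mul,
      ← map_mul, h.one_iff]
    generalize f = f, u = u; revert f u; decide +kernel)
  have y2 : φ (i2 (ur g v)) ∈ O := (mul_mem_cancel_left x0).1 (map_mul φ _ _ ▸ e ▸ y0)
  have xb := nr _ ⟨f, u, u0, Or.inl rfl⟩
  have xt := h.comm (i1 (ur f u))
  suffices ∃ a b, ¬ Bl a b ∧ ∃ x ∈ O, x ≠ 1 ∧ x ∈ rt φ V a b by
    obtain ⟨a, b, n, x, m, x1, r⟩ := this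
    exact h.rc3 n r x1 u0 v0 (ab _ m _ x0) (ab _ m _ y2)
  generalize φ (i1 (ur f u)) = X at x0 x3 xb xt
  -- `A` : the elements of `O` of order dividing `3`
  let A : Subgroup G := ⟨⟨⟨{x | x ∈ O ∧ x ^ 3 = 1}, fun a b => ⟨mul_mem a.1 b.1, by
    rw [(ab _ a.1 _ b.1).mul_pow, a.2, b.2, one_mul]⟩⟩, one_mem _, one_pow _⟩,
    fun a => ⟨inv_mem a.1, by rw [inv_pow, a.2, inv_one]⟩⟩
  have nA : ∀ d, Commute y d → ∀ x ∈ A, d * x * d⁻¹ ∈ A := fun d hd x hx =>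
    ⟨no d hd x hx.1, by simp [hx.2]⟩
  have df : ∀ d, Commute y d → d * d = 1 → ∀ x ∈ A, x * (d * x * d⁻¹)⁻¹ ∈ A ∧
      d * (x * (d * x * d⁻¹)⁻¹) * d⁻¹ = (x * (d * x * d⁻¹)⁻¹)⁻¹ ∧
      (x * (d * x * d⁻¹)⁻¹ = 1 → Commute d x) ∧
      (∀ z, Commute z d → Commute z x → Commute z (x * (d * x * d⁻¹)⁻¹)) ∧
      ∀ z, Commute z d → z * x * z⁻¹ = x⁻¹ → z * (x * (d * x * d⁻¹)⁻¹) * z⁻¹ = (x * (d * x * d⁻¹)⁻¹)⁻¹ :=
    fun d hd d2 x hx => ⟨mul_mem hx (inv_mem (nA d hd x hx)), by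
      simp [inv_eq_of_mul_eq_one_right d2, mul_assoc, d2],
      fun e => comm_of_cj (mul_inv_eq_one.1 e).symm,
      fun z a b => b.mul_right ((a.mul_right b).mul_right a.inv_right).inv_right, fun z a b => by
        rw [← conj_mul, ← conj_inv (b := z), ← cj3 (rfl : d * x * d⁻¹ = _) z, cj_eq a, b,
          ← conj_inv (b := d), inv_inv, _root_.mul_inv_rev x, inv_inv,
          (ab _ (inv_mem hx.1) _ (nA d hd x hx).1).eq]⟩
  obtain ⟨z0, z1, z2, z3, -⟩ := df b₁ c.yb c.bb X ⟨x0, x3⟩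
  replace z2 := mt z2 xb
  replace z3 := z3 _ c.bt.symm xt.symm
  generalize X * (b₁ * X * b₁⁻¹)⁻¹ = ζ at z0 z1 z2 z3
  have w0 := nA b₂ c.yc ζ z0
  have w1 := cj3 z1 b₂
  rw [cj_eq c.bc.symm, ← conj_inv (a := ζ)] at w1
  have w2 : b₂ * ζ * b₂⁻¹ ≠ 1 := by simpa using z2
  have w3 : φ t0 * (b₂ * ζ * b₂⁻¹) * (φ t0)⁻¹ = (b₂ * ζ * b₂⁻¹)⁻¹ := by
    rw [← cj3 (rfl : b₂ * ζ * b₂⁻¹ = _), c.tc, cj_eq z3, ← w1]; group
  obtain ⟨q0, q1, q2, -, q3⟩ := df b₂ c.yc c.cc ζ z0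
  replace q2 := mt q2 fun e => w2 (p3 _ w0.2 _ (by rw [cj_eq e]; exact z3.symm) w3)
  replace q3 := cj3 (q3 _ c.bc z1) τ
  replace q1 := cj3 q1 τ
  replace q0 := nA τ c.yu _ q0
  replace q2 : τ * (ζ * (b₂ * ζ * b₂⁻¹)⁻¹) * τ⁻¹ ≠ 1 := by simpa only [Ne, conj_eq_one_iff] using q2
  rw [cj_eq c.uc, ← conj_inv (b := τ)] at q1
  rw [c.ub, ← conj_inv (b := τ)] at q3
  generalize τ * (ζ * (b₂ * ζ * b₂⁻¹)⁻¹) * τ⁻¹ = η at q0 q1 q2 q3
  replace q3 := inv_two q3 q1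
  obtain ⟨r0, r1, r2, r3, -⟩ := df _ c.yt h.tt η q0
  replace r3 := r3 _ c.bt q3
  replace r2 := mt r2 fun e => by
    obtain ⟨x, m, r⟩ := h.two3 (O := 𝐳[b₁]) (mem_cent.2 c.yb.symm) (mem_cent.2 q3) c.y3 q0.2 c.yt e.symm
      c.sy (h.cf_inv c q0.1) (ab _ y0 _ q0.1) c.y1 q2 (fun e => q2 (p3 _ q0.2 _ (e ▸ c.yc) q1))
      fun e => q2 (p3 _ q0.2 _ (eq_inv_of_mul_eq_one_left e ▸ c.yc.inv_left) q1)
    exact nr x r (mem_cent.1 m)
  generalize η * (φ t0 * η * (φ t0)⁻¹)⁻¹ = θ at r0 r1 r2 r3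
  generalize b₂ * ζ * b₂⁻¹ = ξ at w0 w1 w2 w3
  obtain ⟨k, hk⟩ := h.ex (swap 1 2)
  have e1 : φ (i1 jS) * k * φ t0 * (φ (i1 jS) * k)⁻¹ = φ L4Q.t2 * φ t0 := by
    rw [← h.n1_t2, ← (h.t2 k hk).1]; group
  have e2 : φ (i1 jS) * k * φ L4Q.t2 * (φ (i1 jS) * k)⁻¹ = φ t0 := by
    rw [← cj_eq (h.comm (i1 jS)), ← (h.t2 k hk).2]; group
  obtain ⟨x, m, r⟩ := (h.perm (h.mul h.n1 hk)).two3 w0.1 r0.1 w0.2 r0.2 
    (e1 ▸ two_inv (h.cf_inv c w0.1) w3 :) (e1 ▸ two_inv (h.cf_inv c r0.1) r1 :)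
    (e2 ▸ w3 :) (e2 ▸ r1 :) (ab _ w0.1 _ r0.1) w2 r2 (fun e => w2 (p3 _ w0.2 _ (e ▸ r3.symm) w1))
    fun e => w2 (p3 _ w0.2 _ (eq_inv_of_mul_eq_one_right e ▸ r3.symm.inv_left) w1)
  obtain ⟨x1, a, b, n, r⟩ := (h.perm (h.mul h.n1 hk)).ro_rt r
  rw [h.rt_perm (h.mul h.n1 hk)] at r
  exact ⟨_, _, by clear r; revert a b; decide, x, m, x1, r⟩

omit c in
theorem caseF : RC φ V := by
  obtain ⟨y, b₁, b₂, τ, c⟩ := h.conf
  exact h.cf_rc c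

end Fr

end Cfsg.Agent.L4Q
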