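import Cfsg.Agent.L4Q.Fus
import Cfsg.Agent.L4Q.Link
import Cfsg.Agent.XSC.UniqPt
import Cfsg.Agent.PLocal.Quasisimple
import Cfsg.Agent.Class.LinearBasic

/-! # The image of `SL₄(q)` is the whole group -/

set_option autoImplicit false
set_option linter.unusedSectionVars false

namespace Cfsg.Agent.L4Q

open Matrix Cfsg.Agent.RootSub Subgroup

section general

variable {G : Type*} [Group G] [Finite G]

theorem odd_sub {Y M : Subgroup G} {t : G} (ht : t ∈ Y) (o : orderOf t = 2)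
    (hC : centralizer ({t} : Set G) ≤ M) (hf : ∀ x ∈ M, IsConj t x → ∃ k ∈ M, k * t * k⁻¹ = x)
    (hs : ∀ u ∈ Y, Commute t (u * t * u⁻¹) → u * t * u⁻¹ ≠ t → ∀ g ∈ Y, ∀ g' ∈ Y,
      (t * (u * t * u⁻¹)) • (g : G ⧸ M) = g → (t * (u * t * u⁻¹)) • (g' : G ⧸ M) = g' →
      (g : G ⧸ M) = g') (hY : ¬ Y ≤ M) :
    ∃ O ≤ Y ⊓ M, Odd (Nat.card O) ∧ ∀ k ∈ Y ⊓ M, ∃ o ∈ O, o * t * o⁻¹ = k * t * k⁻¹ := by
  have key : ∀ a b : Y, ((a : Y ⧸ M.subgroupOf Y) = b) ↔ ((a : G) : G ⧸ M) = (b : G) :=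
    fun a b => by rw [QuotientGroup.eq, QuotientGroup.eq]; rfl
  obtain ⟨O, h1, h2, h3⟩ := XSC.exists_odd_of_ne_top (H := M.subgroupOf Y) (z := ⟨t, ht⟩)
    ((Subgroup.orderOf_mk ..).trans o)
    (fun x hx => hC (mem_centralizer_singleton_iff.2
      (congrArg Subtype.val (mem_centralizer_singleton_iff.1 hx))))
    (fun x hx hc => by
      obtain ⟨y, rfl⟩ := isConj_iff.1 hc
      obtain ⟨k, hk, e⟩ := hf _ hx (isConj_cj (y : G) t)
      refine ⟨y, ?_, rfl⟩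
      have : k⁻¹ * y ∈ M := hC (mem_centralizer_singleton_iff.2 (comm_of_cj (by
        rw [show k⁻¹ * y * t * (k⁻¹ * y)⁻¹ = k⁻¹ * (y * t * (y : G)⁻¹) * k by group]
        exact (congrArg (k⁻¹ * · * k) e.symm).trans (by group))).eq)
      exact (mul_mem_cancel_left (inv_mem hk)).1 this)
    (fun y hc c n a b ha hb => by
      obtain ⟨u, rfl⟩ := isConj_iff.1 hc
      obtain ⟨a, rfl⟩ := QuotientGroup.mk_surjective a
      obtain ⟨b, rfl⟩ := QuotientGroup.mk_surjective b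
      exact (key _ _).2 (hs u u.2 (c.map Y.subtype) (fun e => n (Subtype.ext e)) a a.2 b b.2
        ((key _ _).1 ha) ((key _ _).1 hb)))
    (fun e => hY (subgroupOf_eq_top.1 e))
  refine ⟨O.map Y.subtype, ?_, by rwa [card_subtype], fun k hk => ?_⟩
  · rintro _ ⟨x, hx, rfl⟩; exact ⟨x.2, h1 hx⟩
  · obtain ⟨x, hx, e⟩ := h3 ⟨k, hk.1⟩ hk.2
    exact ⟨x, ⟨x, hx, rfl⟩, congrArg Subtype.val e⟩

theorem fix_of_odd {Ω : Type*} [MulAction G Ω] {N O R : Subgroup G} {t g g' : G} {a b : Ω}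
    (hc : ∀ c, Commute c t → c • a = a ∧ c • b = b ∨ c • a = b ∧ c • b = a) (hg : g ∈ N)
    (hg' : g' ∈ N) (e1 : g • a = a) (e2 : g' • b = b) (e3 : g • b = g' • a) (hO : O ≤ N)
    (ho : Odd (Nat.card O)) (ht : ∀ k ∈ N, ∃ o ∈ O, o * t * o⁻¹ = k * t * k⁻¹) (hR : R ≤ N)
    (h2 : IsPGroup 2 R) : ∃ k ∈ N, ∀ r ∈ R, r • k • a = k • a := by
  have dec : ∀ k ∈ N, ∃ o ∈ O, k • a = o • a ∧ k • b = o • b ∨ k • a = o • b ∧ k • b = o • a :=
    fun k hk => by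
      obtain ⟨o, h1, e⟩ := ht k hk
      have := hc (o⁻¹ * k) (comm_of_cj (by
        rw [show o⁻¹ * k * t * (o⁻¹ * k)⁻¹ = o⁻¹ * (k * t * k⁻¹) * o by group, ← e]; group))
      simp only [mul_smul, inv_smul_eq_iff] at this
      exact ⟨o, h1, this⟩
  have hb : ∃ o ∈ O, o • a = b := by
    obtain ⟨o, h1, ⟨-, e⟩ | ⟨e, -⟩⟩ := dec g hg
    · obtain ⟨o', h1', ⟨e', -⟩ | ⟨-, e'⟩⟩ := dec g' hg'
      · exact ⟨o⁻¹ * o', mul_mem (inv_mem h1) h1', by rw [mul_smul, ← e', ← e3, e, inv_smul_smul]⟩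
      · exact ⟨o', h1', e'.symm.trans e2⟩
    · exact ⟨o⁻¹, inv_mem h1, by rw [inv_smul_eq_iff, ← e, e1]⟩
  have eq : MulAction.orbit N a = MulAction.orbit O a := by
    refine Set.Subset.antisymm ?_ (by rintro _ ⟨o, rfl⟩; exact ⟨⟨o, hO o.2⟩, rfl⟩)
    rintro _ ⟨k, rfl⟩
    obtain ⟨o, h1, ⟨e, -⟩ | ⟨e, -⟩⟩ := dec k k.2
    · exact ⟨⟨o, h1⟩, e.symm⟩
    · obtain ⟨o', h1', rfl⟩ := hb
      exact ⟨⟨o * o', mul_mem h1 h1'⟩, (mul_smul o o' a).trans e.symm⟩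
  have hd : ¬ 2 ∣ Nat.card (MulAction.orbit N a) := fun e => by
    rw [eq, Nat.card_coe_set_eq, ← MulAction.index_stabilizer] at e
    exact Nat.not_even_iff_odd.2 ho (even_iff_two_dvd.2 (e.trans (index_dvd_card _)))
  obtain ⟨⟨_, k, rfl⟩, hk⟩ := (h2.of_equiv (subgroupOfEquivOfLe hR).symm).nonempty_fixed_point_of_prime_not_dvd_card
    (MulAction.orbit N a) hd
  exact ⟨k, k.2, fun r hr => congrArg Subtype.val (hk ⟨⟨r, hR hr⟩, hr⟩)⟩

theorem pg_closure {S : Set G} (hS : ∀ x ∈ S, ∀ y ∈ S, x * y = y * x) (s2 : ∀ x ∈ S, x * x = 1) :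
    IsPGroup 2 (closure S) := fun x => ⟨1, Subtype.ext (by
  have := isMulCommutative_closure hS
  refine closure_induction (p := fun x _ => x ^ 2 ^ 1 = 1) (fun y hy => by
    simpa [pow_two] using s2 y hy) (by simp) (fun x y hx hy e1 e2 => ?_) (by simp) x.2
  rw [Commute.mul_pow (setLike_mul_comm hx hy), e1, e2, one_mul])⟩

end general

variable {F : Type*} [Field F] [Finite F] {G : Type*} [Group G] [Finite G]

local notation "SL4" => Matrix.SpecialLinearGroup (Fin 4) F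

theorem qs_SL4 : IsQuasisimple SL4 :=
  ⟨⟨Class.SL_commutator_eq_top (by simp)⟩, Class.PSL_isSimpleGroup (by simp)⟩

/-- the stabiliser of the plane spanned by the first two basis vectors -/
def Par0 : Submonoid SL4 where
  carrier := {X | X.1 2 0 = 0 ∧ X.1 2 1 = 0 ∧ X.1 3 0 = 0 ∧ X.1 3 1 = 0}
  one_mem' := by simp
  mul_mem' := by
    rintro X Y ⟨a, b, c, d⟩ ⟨e, f, g, h⟩
    simp [mul_apply, Fin.sum_univ_four, *]

def Par : Subgroup SL4 :=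
  { (Par0 : Submonoid SL4) with
    inv_mem' := fun {X} hX => Submonoid.powers_le.2 hX
      (mem_powers_iff_mem_zpowers.2 (inv_mem (mem_zpowers X))) }

theorem mem_Par {X : SL4} : X ∈ Par ↔ X.1 2 0 = 0 ∧ X.1 2 1 = 0 ∧ X.1 3 0 = 0 ∧ X.1 3 1 = 0 :=
  Iff.rfl

def ul (X : SL4) : M2 F := !![X.1 0 0, X.1 0 1; X.1 1 0, X.1 1 1]

theorem ul_mul (X : SL4) {Y : SL4} (h : Y ∈ Par) : ul (X * Y) = ul X * ul Y := by
  obtain ⟨a, b, c, d⟩ := h
  simp [ul, mul_apply, Fin.sum_univ_four, *]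

theorem ul_neg {X Y : SL4} (h : X.1 = -Y.1) : ul X = -ul Y := by simp [ul, h]

theorem ul_det {X : SL4} (h : X ∈ Par) : (ul X).det ≠ 0 := by
  have := congrArg det (ul_mul X⁻¹ h)
  rw [inv_mul_cancel, det_mul, show ul (1 : SL4) = 1 by simp [ul, one_fin_two], det_one] at this
  exact right_ne_zero_of_mul_eq_one this.symm

theorem not_four (h2 : (2 : F) ≠ 0) {a b c d : M2 F} (ha : a.det ≠ 0) (hb : b.det ≠ 0)
    (hc : c.det ≠ 0) (hd : d.det ≠ 0) (h1 : a * b = -(b * a)) (h3 : c * d = -(d * c))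
    (h4 : a * c = c * a) (h5 : b * c = c * b) : False := by
  have n : ∀ x y : M2 F, x.det ≠ 0 → y.det ≠ 0 → x * y = -(y * x) → x * y ≠ y * x :=
    fun x y hx hy e e' => mul_ne_zero hy hx (by
      rw [← det_mul, show y * x = 0 from smul_right_injective _ h2 (by
        simp only [two_smul, add_zero]; rw [add_eq_zero_iff_eq_neg, ← e, e'])]; simp)
  refine n _ _ hc hd h3 (Scal.comm (by_contra fun hs => n _ _ ha hb h1 ?_) _)
  obtain ⟨p, q, r, s, rfl⟩ := ent c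
  obtain ⟨x, y, z, u, rfl⟩ := ent a
  obtain ⟨x', y', z', u', rfl⟩ := ent b
  simp only [mm, scal_iff] at hs h4 h5 ⊢
  grind

def g13 : SL4 := ⟨!![1, 0, 1, 0; 0, 1, 0, 1; 0, 0, 1, 0; 0, 0, 0, 1], by
  simp [det_succ_row_zero, Fin.sum_univ_succ, Fin.succAbove]⟩

def g31 : SL4 := ⟨!![1, 0, 0, 0; 0, 1, 0, 0; 1, 0, 1, 0; 0, 1, 0, 1], by
  simp [det_succ_row_zero, Fin.sum_univ_succ, Fin.succAbove]⟩

theorem g13_coe : (g13 : SL4).1 = !![1, 0, 1, 0; 0, 1, 0, 1; 0, 0, 1, 0; 0, 0, 0, 1] := rfl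
theorem g31_coe : (g31 : SL4).1 = !![1, 0, 0, 0; 0, 1, 0, 0; 1, 0, 1, 0; 0, 1, 0, 1] := rfl

theorem g13_comm : Commute (g13 : SL4) (psi jj) := Subtype.ext (by
  simp [g13_coe, psi_coe, mat, jm])

theorem g31_comm : Commute (g31 : SL4) (psi jj) := Subtype.ext (by
  simp [g31_coe, psi_coe, mat, jm])

theorem psi_Par {k : HK F} (h : k.s = false) : psi k ∈ Par := by simp [mem_Par, psi_coe, mat, h]

theorem g13_Par : (g13 : SL4) ∈ Par := mem_Par.2 (by simp [g13_coe])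

theorem g31_Par : (psi ws * g31 * psi ws : SL4) ∈ Par := by simp [mem_Par, g31_coe, psi_coe, mat]

theorem g13_g31 : (g31⁻¹ * (g13 * psi ws) : SL4) ∈ Par := by
  rw [inv_eq_of_mul_eq_one_right (a := (g31 : SL4)) (b := psi t0 * g31 * psi t0) (Subtype.ext (by
    simp [g31_coe, psi_coe, mat]; ext i j; fin_cases i <;> fin_cases j <;> rfl))]
  simp [mem_Par, g13_coe, g31_coe, psi_coe, mat]

theorem psi_tw : (psi t0 * psi ws : SL4).1 = -(psi ws * psi t0).1 := by simp [psi_coe, mat]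

theorem psi_2j : (psi t2 * psi jj : SL4).1 = -(psi jj * psi t2).1 := by simp [psi_coe, mat, jm, rm]

namespace Su

section
variable {φ : HK F →* G} (h : Su φ)
include h

theorem three {x : G} (x2 : x * x = 1) : ∃ k, IsConj (φ k) x ∧
    (k.s = false ∧ (Scal k.a ∨ Scal k.b) ∨ k = jj ∧ ¬ IsSquare (-1 : F) ∨ k = t0) := by
  obtain ⟨k, hk, c⟩ := h.exists_H0 x2
  have k2 : φ k * φ k = 1 := by
    obtain ⟨g, e⟩ := isConj_iff.1 c
    exact e ▸ Inv.conj_mul_self x2 g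
  rcases or_assoc.2 (inv_H0 h.two hk (h.sq_iff.1 k2)) with e | ⟨d, -, e | e⟩
  · exact ⟨k, c.symm, .inl ⟨hk, e⟩⟩
  · by_cases h1 : IsSquare (-1 : F)
    · obtain ⟨u, -, e'⟩ := h.jj_t2 h1
      exact ⟨t0, (h.conj_t2.trans (isConj_iff.2 ⟨_, e'⟩).symm).trans (c.trans (conj_of e)).symm,
        .inr (.inr rfl)⟩
    · exact ⟨jj, (c.trans (conj_of e)).symm, .inr (.inl ⟨rfl, h1⟩)⟩
  · exact ⟨t0, h.conj_t2.trans (c.trans (conj_of e)).symm, .inr (.inr rfl)⟩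

theorem tmul_H0 {k : HK F} (hs : k.s = false) (hk : IsConj (φ t0) (φ k)) (hn : φ k ≠ φ t0) :
    IsConj (φ t0) (φ t0 * φ k) := by
  have key : ∀ c k' : HK F, c * k * c⁻¹ = k' → IsConj (φ k') (φ k' * φ t0) →
      IsConj (φ t0) (φ t0 * φ k) := fun c k' e hc => by
    refine ((hk.trans (conj_of e)).trans hc).trans (IsConj.symm (isConj_iff.2 ⟨φ c, ?_⟩))
    rw [← conj_mul, cj_eq (h.comm c), (h.comm _).eq, ← e]; simp
  rcases or_assoc.2 (inv_H0 h.two hs (h.sq_iff.1 (h.sq_of hk))) with e | ⟨d, -, e | e⟩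
  exacts [(hn (h.iso hk hs e)).elim, key _ _ e h.jt.symm, key _ _ e h.t2t]

theorem su_psi (Φ : SL4 →* G) (hΦ : ∀ X, Φ (psi (i1 X)) = φ (i1 X)) :
    Su (Φ.comp psi) ∧ Φ.ker = center SL4 := by
  have h1 : Φ.ker ≤ center SL4 := (PLocal.qs_normal qs_SL4 _ inferInstance).resolve_left fun e =>
    h.xx_ne one_ne_zero ((hΦ _).symm.trans (show psi (i1 (xx 1)) ∈ Φ.ker from e ▸ mem_top _))
  have h0 : Φ (psi t0) = φ t0 := hΦ (-1)
  have h2 : Φ (psi (i2 (-1))) = φ t0 := h.iso1 (by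
    rw [← ws_i1, map_mul, map_mul, map_mul, map_mul, map_inv, map_inv, i1_neg, h0]
    exact isConj_cj _ _) fun X => hΦ X ▸ ((i_comm X _).map psi).map Φ
  have h3 : (Φ.comp psi).range ≤ φ.range := by
    rintro _ ⟨k, rfl⟩
    refine h.cent _ ?_
    cases hk : k.s
    · exact h0 ▸ Commute.map (by ext1 <;> simp [hk]) (Φ.comp psi)
    · have : k * t0 = i2 (-1) * k := by ext1 <;> simp [hk]
      have := congrArg (Φ.comp psi) this
      simpa only [map_mul, MonoidHom.comp_apply, h0, h2, Commute, SemiconjBy] using this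
  have h4 : (Φ.comp psi).ker ≤ φ.ker := fun k hk => h.one_iff.2 ((mat_smul_iff _ _).1
    ((mk_eq_iff (psi k) (psi 1)).1 (by rw [map_one]; exact (QuotientGroup.eq_one_iff _).2 (h1 hk))))
  have h5 := card_le_of_le h3
  have h6 := Nat.le_of_dvd (Nat.pos_of_ne_zero index_ne_zero_of_finite) (index_dvd_of_le h4)
  rw [index_ker, index_ker] at h6
  have h7 := eq_of_le_of_card_ge h3 h6
  have h8 : (Φ.comp psi).ker = φ.ker := eq_of_le_of_card_ge h4 (by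
    have e1 := (Φ.comp psi).ker.card_mul_index
    rw [← φ.ker.card_mul_index, index_ker, index_ker, h7] at e1
    exact (Nat.eq_of_mul_eq_mul_right Nat.card_pos e1).ge)
  refine ⟨⟨h.two, fun x y => ?_, fun g hg => ?_, h.no2⟩, h1.antisymm fun X hX => ?_⟩
  · rw [← h.eq, MonoidHom.eq_iff, MonoidHom.eq_iff, h8]
  · exact h7.ge (h.cent g (h0 ▸ hg))
  · obtain ⟨c, hc, e⟩ := Matrix.SpecialLinearGroup.mem_center_iff.1 hX
    have : X = psi ⟨c • 1, c • 1, false, by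
        simp only [det_smul2, det_one]; simp at hc; grind⟩ := Subtype.ext (by
      rw [← e]; ext i j; fin_cases i <;> fin_cases j <;> simp [psi_coe, mat])
    exact this ▸ h8.ge (h.one_iff.2 ⟨c, rfl, rfl, rfl⟩)

end

variable {Φ : Matrix.SpecialLinearGroup (Fin 4) F →* G} (h : Su (Φ.comp psi))
include h

theorem restr : Su (Φ.rangeRestrict.comp psi) := by
  refine ⟨h.two, fun x y => Subtype.ext_iff.trans (h.eq x y), fun g hg => ?_, fun H e => ?_⟩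
  · obtain ⟨k, hk⟩ := h.cent g (hg.map Φ.range.subtype)
    exact ⟨k, Subtype.ext hk⟩
  · have := qs_SL4 (F := F).1
    have : Group.IsPerfect Φ.range := Group.IsPerfect.range Φ
    have := normal_of_index_eq_two e
    have := isCyclic_of_prime_card (p := 2) (α := Φ.range ⧸ H) e
    have h1 := Normal.quotient_commutative_iff_commutator_le.1
      (IsCyclic.isMulCommutative (α := Φ.range ⧸ H))
    rw [Group.IsPerfect.commutator_eq_top, top_le_iff] at h1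
    simp [h1] at e

theorem cent_le : centralizer {Φ.comp psi t0} ≤ Φ.range := fun g hg => by
  obtain ⟨k, rfl⟩ := h.cent g (mem_centralizer_singleton_iff.1 hg)
  exact ⟨_, rfl⟩

theorem three' {x : G} (hx : x ∈ Φ.range) (x2 : x * x = 1) : ∃ k, (∃ m ∈ Φ.range,
    m * Φ.comp psi k * m⁻¹ = x) ∧
    (k.s = false ∧ (Scal k.a ∨ Scal k.b) ∨ k = jj ∧ ¬ IsSquare (-1 : F) ∨ k = t0) := by
  obtain ⟨k, c, hk⟩ := h.restr.three (x := ⟨x, hx⟩) (Subtype.ext x2)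
  obtain ⟨m, e⟩ := isConj_iff.1 c
  exact ⟨k, ⟨m, m.2, congrArg Subtype.val e⟩, hk⟩

theorem fus_t (x : G) (hx : x ∈ Φ.range) (c : IsConj (Φ.comp psi t0) x) :
    ∃ m ∈ Φ.range, m * Φ.comp psi t0 * m⁻¹ = x := by
  obtain ⟨k, ⟨m, hm, rfl⟩, e | ⟨rfl, e⟩ | rfl⟩ := h.three' hx (h.sq_of c)
  · exact ⟨m, hm, by rw [h.iso (c.trans (isConj_cj m _).symm) e.1 e.2]⟩
  · exact (h.not_jj e (c.trans (isConj_cj m _).symm)).elim
  · exact ⟨m, hm, rfl⟩

theorem fus_J (h1 : ¬ IsSquare (-1 : F)) (x : G) (hx : x ∈ Φ.range) (c : IsConj (Φ.comp psi jj) x) :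
    ∃ m ∈ Φ.range, m * Φ.comp psi jj * m⁻¹ = x := by
  have x2 : x * x = 1 := by
    obtain ⟨g, e⟩ := isConj_iff.1 c
    exact e ▸ Inv.conj_mul_self h.jj_jj g
  obtain ⟨k, ⟨m, hm, rfl⟩, e | ⟨rfl, e⟩ | rfl⟩ := h.three' hx x2
  · have c' := c.trans (isConj_cj m _).symm
    rcases sc3 h.two (four_ne h1) e.1 (h.sq_iff.1 (by simpa using x2)) e.2 with e | e
    · rw [h.one_iff.2 e, isConj_one_left, h.one_iff] at c'
      exact (not_scal_jm ⟨_, c'.choose_spec.1⟩).elim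
    · exact (h.not_jj h1 ((h.eq _ _).2 e ▸ c').symm).elim
  · exact ⟨m, hm, rfl⟩
  · exact (h.not_jj h1 (c.trans (isConj_cj m _).symm).symm).elim

theorem no_odd (hK : Φ.ker = center SL4) {N O : Subgroup G} (hN : N ≤ Φ.range)
    (hY : ∀ X, Commute (Φ X) (Φ.comp psi jj) → Φ X ∈ N) (h1 : O ≤ N) (h2 : Odd (Nat.card O))
    (h3 : ∀ k ∈ N, ∃ o ∈ O, o * Φ.comp psi t0 * o⁻¹ = k * Φ.comp psi t0 * k⁻¹) : False := by
  have mP : ∀ X, Φ X ∈ Par.map Φ ↔ X ∈ Par := fun X => ⟨fun ⟨Z, hZ, e⟩ => by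
    have := hK.le (Φ.eq_iff.1 e.symm)
    obtain ⟨c, -, hc⟩ := Matrix.SpecialLinearGroup.mem_center_iff.1 this
    exact (mul_mem_cancel_left (inv_mem hZ)).1 (mem_Par.2 (by simp [← hc])), fun hX => ⟨X, hX, rfl⟩⟩
  have ac : ∀ X Y Z : SL4, Φ X • ((Φ Y : G) : G ⧸ Par.map Φ) = Φ Z ↔ Z⁻¹ * X * Y ∈ Par :=
    fun X Y Z => by
      rw [← mP, eq_comm, map_mul, map_mul, map_inv, mul_assoc]; exact QuotientGroup.eq
  have wi : (psi ws : SL4)⁻¹ = psi ws := by rw [← map_inv, inv_eq_of_mul_eq_one_right ws_ws]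
  let S : Set G := Φ.comp psi '' {t0, ws, t2, jj}
  have hS : ∀ x ∈ S, ∀ y ∈ S, x * y = y * x := by
    rintro _ ⟨x, rfl | rfl | rfl | rfl, rfl⟩ _ ⟨y, rfl | rfl | rfl | rfl, rfl⟩ <;>
      first
      | (refine h.comm_iff.2 ⟨1, ?_⟩; simp; done)
      | (refine h.comm_iff.2 ⟨-1, ?_⟩; simp [rm_jm])
  have s2 : ∀ x ∈ S, x * x = 1 := by
    rintro _ ⟨x, rfl | rfl | rfl | rfl, rfl⟩
    exacts [h.tt, by rw [← map_mul, ws_ws, map_one], by rw [← map_mul, t2_t2, map_one], h.jj_jj]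
  have e : ∀ m, Φ m • ((Φ 1 : G) : G ⧸ Par.map Φ) = Φ m := fun m => (ac _ _ _).2 (by simp)
  have e3 : Φ g13 • ((Φ (psi ws) : G) : G ⧸ Par.map Φ) = Φ g31 :=
    (ac _ _ _).2 (by rw [mul_assoc]; exact g13_g31)
  obtain ⟨k, hk, hm⟩ := fix_of_odd (a := ((Φ 1 : G) : G ⧸ Par.map Φ)) (b := Φ (psi ws))
    (R := closure S) (fun c hc => by
      obtain ⟨k, rfl⟩ := h.cent c hc
      simp only [MonoidHom.comp_apply, ac, ← map_one psi, ← map_inv, ← map_mul]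
      cases hk : k.s
      · exact .inl ⟨psi_Par (by simp [hk]), psi_Par (by simp [hk])⟩
      · exact .inr ⟨psi_Par (by simp [hk]), psi_Par (by simp [hk])⟩)
    (hY _ (g13_comm.map Φ)) (hY _ (g31_comm.map Φ))
    ((ac _ _ _).2 (by simpa using g13_Par)) ((ac _ _ _).2 (by rw [wi]; exact g31_Par))
    (e3.trans (e _).symm) h1 h2 h3 ((closure_le _).2 (by
      rintro _ ⟨x, hx, rfl⟩
      exact hY _ (hS _ ⟨x, hx, rfl⟩ _ ⟨jj, by simp, rfl⟩))) (pg_closure hS s2)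
  obtain ⟨m, rfl⟩ := hN hk
  rw [e] at hm
  have p : ∀ k ∈ ({t0, ws, t2, jj} : Set (HK F)), m⁻¹ * psi k * m ∈ Par := fun k hk =>
    (ac _ _ _).1 (hm _ (subset_closure ⟨k, hk, rfl⟩))
  have c : ∀ k ∈ ({t0, ws, t2, jj} : Set (HK F)), ∀ x, ul (m⁻¹ * x * m) * ul (m⁻¹ * psi k * m) =
      ul (m⁻¹ * (x * psi k) * m) := fun k hk x => by rw [← ul_mul _ (p k hk)]; congr 1; group
  refine not_four h.two (ul_det (p t0 (by simp))) (ul_det (p ws (by simp)))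
    (ul_det (p t2 (by simp))) (ul_det (p jj (by simp))) ?_ ?_ ?_ ?_ <;>
    rw [c _ (by simp), c _ (by simp)]
  · exact ul_neg (by simp only [Matrix.SpecialLinearGroup.coe_mul _ m,
      Matrix.SpecialLinearGroup.coe_mul m⁻¹, psi_tw, mul_neg, neg_mul])
  · exact ul_neg (by simp only [Matrix.SpecialLinearGroup.coe_mul _ m,
      Matrix.SpecialLinearGroup.coe_mul m⁻¹, psi_2j, mul_neg, neg_mul])
  · rw [← map_mul, ← map_mul, (Tor_comm t0_Tor t2_Tor).eq]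
  · rw [← map_mul, ← map_mul, show (ws * t2 : HK F) = t2 * ws by ext1 <;> simp]

theorem le_range (hK : Φ.ker = center SL4) {Y : Subgroup G}
    (hY : ∀ X, Commute (Φ X) (Φ.comp psi jj) → Φ X ∈ Y)
    (hs : ∀ u ∈ Y, ∀ k, k.s = true → u * Φ.comp psi t0 * u⁻¹ = Φ.comp psi k → ∀ g ∈ Y, ∀ g' ∈ Y,
      (Φ.comp psi t0 * Φ.comp psi k) • (g : G ⧸ Φ.range) = g →
      (Φ.comp psi t0 * Φ.comp psi k) • (g' : G ⧸ Φ.range) = g' → (g : G ⧸ Φ.range) = g') :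
    Y ≤ Φ.range := by
  by_contra hn
  obtain ⟨O, h1, h2, h3⟩ := odd_sub (hY _ (h.comm jj).symm) h.ord h.cent_le h.fus_t
    (fun u hu c n g hg g' hg' => by
      obtain ⟨k, e⟩ := h.cent _ c.symm
      rw [← e] at n ⊢
      cases hk : k.s
      · exact XSC.fix_unique h.cent_le h.fus_t (h.tmul_H0 hk (e ▸ isConj_cj u _) n) _ _
      · exact hs u hu k hk e.symm g hg g' hg') hn
  exact h.no_odd hK inf_le_right (fun X hX => ⟨hY X hX, X, rfl⟩) h1 h2 h3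

theorem range_top (hK : Φ.ker = center SL4) : ⊤ ≤ Φ.range := by
  have ft := fun {s} hs => XSC.fix_unique h.cent_le h.fus_t (t := s) hs
  refine h.le_range hK (fun _ _ => trivial) fun u _ k hk e g _ g' _ => ?_
  have c : IsConj (Φ.comp psi t0) (Φ.comp psi k) := e ▸ isConj_cj u _
  rw [← (h.comm k).eq]
  by_cases h1 : IsSquare (-1 : F)
  · obtain ⟨d, e'⟩ := h.swap_t h1 hk (h.sq_of c)
    exact ft (c.trans (isConj_iff.2 ⟨_, e'⟩).symm) _ _
  refine XSC.fix_unique (h.le_range hK (fun X hX => mem_centralizer_singleton_iff.2 hX)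
    fun u hu k hk e g hg g' hg' e1 e2 => ?_) (h.fus_J h1) (h.swap_J hk c) _ _
  have c : IsConj (Φ.comp psi t0) (Φ.comp psi k) := e ▸ isConj_cj u _
  have uJ : Commute u (Φ.comp psi jj) := mem_centralizer_singleton_iff.1 hu
  have cJ : Φ.comp psi (k * jj) = u * (Φ.comp psi jj * Φ.comp psi t0) * u⁻¹ := by
    rw [(h.comm jj).eq, ← conj_mul, e, cj_eq uJ, map_mul]
  have fJ : ∀ g ∈ centralizer {Φ.comp psi jj}, Φ.comp psi jj • (g : G ⧸ Φ.range) = g := fun g hg =>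
    QuotientGroup.eq.2 (show (Φ.comp psi jj * g)⁻¹ * g ∈ _ by
      rw [← mem_centralizer_singleton_iff.1 hg]; simp)
  obtain ⟨d, e' | e'⟩ := h.swap_or hk (k' := k * jj) (by simp [hk]) (h.sq_of c) (by
    rw [cJ]; exact Inv.conj_mul_self (by
      rw [(h.comm jj).symm.mul_mul_mul_comm, h.jj_jj, h.tt, one_mul]) u) ⟨k.a.det, by simp [hk, det_jm]⟩
  · exact (h.not_jj h1 ((c.trans (isConj_iff.2 ⟨_, e'⟩).symm).trans
      (cJ ▸ (isConj_cj u _).symm.trans h.jt))).elim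
  · refine ft (s := Φ.comp psi t0 * Φ.comp psi k * Φ.comp psi jj) (c.trans (IsConj.symm
      (isConj_iff.2 ⟨Φ.comp psi d, ?_⟩))) _ _ (by rw [mul_smul, fJ g hg, e1])
      (by rw [mul_smul, fJ g' hg', e2])
    rw [mul_assoc _ (Φ.comp psi k), ← map_mul _ k, ← conj_mul, e', cj_eq (h.comm d), (h.comm k).eq,
      ← mul_assoc, h.tt, one_mul]

end Su

theorem Su.iso_of_hom {F : Type*} [Field F] [Finite F] {G : Type*} [Group G] [Finite G]
    {φ : HK F →* G} (h : Su φ) (Φ : SpecialLinearGroup (Fin 4) F →* G)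
    (hΦ : ∀ X, Φ (psi (i1 X)) = φ (i1 X)) :
    Nonempty (G ≃* ProjectiveSpecialLinearGroup (Fin 4) F) := by
  obtain ⟨h1, h2⟩ := h.su_psi Φ hΦ
  exact ⟨(QuotientGroup.quotientKerEquivOfSurjective Φ
    (MonoidHom.range_eq_top.1 (top_le_iff.1 (h1.range_top h2)))).symm.trans
    (QuotientGroup.quotientMulEquivOfEq h2)⟩

end Cfsg.Agent.L4Q
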