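import Cfsg.Agent.L4Q.Loc

/-! # More computations in the model group -/

set_option autoImplicit false
set_option linter.unusedSectionVars false

namespace Cfsg.Agent.L4Q

open Matrix Cfsg.Agent.RootSub Subgroup

variable {F : Type*} [Field F]

local notation "SL2" => Matrix.SpecialLinearGroup (Fin 2) F

theorem sq_mul [Finite F] {a b : F} (ha : a ≠ 0) (hb : b ≠ 0) :
    IsSquare (a * b) ↔ (IsSquare a ↔ IsSquare b) := by
  classical
  have := Fintype.ofFinite F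
  rw [← quadraticChar_one_iff_isSquare ha, ← quadraticChar_one_iff_isSquare hb,
    ← quadraticChar_one_iff_isSquare (mul_ne_zero ha hb), map_mul]
  rcases quadraticChar_dichotomy ha with h1 | h1 <;>
    rcases quadraticChar_dichotomy hb with h2 | h2 <;> simp [h1, h2]

theorem exists_km [Finite F] (h2 : (2 : F) ≠ 0) : ∃ K : SL2, K * K = -1 ∧ K * jS * K⁻¹ = jS⁻¹ ∧
    ∀ a : M2 F, a * jm = jm * a → a * K.1 = K.1 * a → Scal a := by
  obtain ⟨x, y, e⟩ := exists_norm h2 (neg_ne_zero.2 one_ne_zero) (-1)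
  obtain ⟨K, hK⟩ := exists_sl (a := !![x, y; y, -x]) (by simp only [mm]; grind)
  refine ⟨K, Subtype.ext ?_, ?_, fun a h1 h3 => ?_⟩
  · simp only [Matrix.SpecialLinearGroup.coe_mul, Matrix.SpecialLinearGroup.coe_neg,
      Matrix.SpecialLinearGroup.coe_one, hK, mm]; grind
  · rw [mul_inv_eq_iff_eq_mul, eq_inv_mul_iff_mul_eq]
    refine Subtype.ext ?_
    simp only [Matrix.SpecialLinearGroup.coe_mul, jS_coe, hK, mm]; grind
  · obtain ⟨p, q, r, s, rfl⟩ := ent a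
    simp only [hK, mm, scal_iff] at *
    grind

theorem mul_swap {a b : M2 F} {m : F} (ha : a.det ≠ 0) (h : a * b = m • 1) : b * a = m • 1 :=
  mul_cancel_det ha (by rw [← mul_assoc, h]; simp)

theorem swap_conj {k k' : HK F} {m : F} (hs : k.s = true) (hs' : k'.s = true)
    (h : k.a * k.b = m • 1) (h' : k'.a * k'.b = m • 1) (hd : IsSquare (k.a.det * k'.a.det)) :
    ∃ c ∈ H0, c * k * c⁻¹ = k' := by
  obtain ⟨r, hr⟩ := hd
  have h1 := k.h
  have h3 := k'.h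
  have h4 := congrArg det h
  rw [det_mul, det_smul2, det_one] at h4
  have h5 : m * m = 1 := by grind
  obtain ⟨Q, hQ⟩ : ∃ Q : M2 F, Q.det = r * k'.b.det := ⟨!![r * k'.b.det, 0; 0, 1], by simp⟩
  refine ⟨⟨m • (k'.a * Q * k.b), Q, false, ?_⟩, rfl, mul_inv_eq_iff_eq_mul.2 ?_⟩
  · simp only [det_smul2, det_mul]; grind
  · ext1 <;> simp [hs, hs', mul_assoc, mul_swap k.da h, smul_smul, h5]
    rw [← mul_assoc, mul_swap k'.da h']; simp [smul_smul, h5]

theorem root_s (h2 : (2 : F) ≠ 0) {k z : HK F} (hz : Sc z t0) (h : Commute k z) : k.s = false := by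
  obtain ⟨l, h1, h3, h4⟩ := hz
  by_contra hs
  have h5 := congrArg HK.a h.eq
  have h6 := sc_pow h1 h3
  simp only [HK.mul_a, Bool.not_eq_false] at h5 hs
  simp only [hs, h4, t0_s, cond, h1, h3, t0_a, t0_b] at h5
  have h7 := k.da
  generalize k.a = a at h5 h7
  obtain ⟨p, q, r, s, rfl⟩ := ent a
  simp only [mm] at h5 h7
  grind

theorem sc3 (h2 : (2 : F) ≠ 0) (h4 : ∀ c : F, c ^ 4 ≠ -1) {k : HK F} (hk : k.s = false)
    (h : Sc (k * k) 1) (hs : Scal k.a ∨ Scal k.b) : Sc k 1 ∨ Sc k t0 := by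
  obtain ⟨m, ha, hb, -⟩ := h
  have h5 := k.h
  rcases k with ⟨a, b, s, h5⟩
  obtain ⟨p, q, r, u, rfl⟩ := ent a
  obtain ⟨x, y, z, v, rfl⟩ := ent b
  subst hk
  have h6 := h4 p
  have h7 := h4 x
  simp only [HK.mul_a, HK.mul_b, cond, HK.one_a, HK.one_b, mm, scal_iff] at *
  have : (q = 0 ∧ r = 0 ∧ p = u) ∧ (y = 0 ∧ z = 0 ∧ x = v) := by grind
  have : p = x ∨ p = -x := by grind
  rcases this with e | e
  · exact Or.inl ⟨x, by simp only [HK.one_a, HK.one_b, HK.one_s, mm]; grind⟩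
  · exact Or.inr ⟨x, by simp only [t0_a, t0_b, t0_s, mm]; grind⟩

theorem four_ne (h : ¬ IsSquare (-1 : F)) (c : F) : c ^ 4 ≠ -1 := fun e =>
  h ⟨c ^ 2, by rw [← e]; ring⟩

theorem t2_notin (h : ¬ IsSquare (-1 : F)) : (t2 : HK F) ∉ LL := fun ⟨_, l, _, e⟩ =>
  h ⟨l, by rw [← det_rm, ← pow_two]; exact e⟩

theorem exists_root [Finite F] (h2 : (2 : F) ≠ 0) (h : ¬ IsSquare (-1 : F)) :
    ∃ x : HK F, Sc (x * x) jj ∧ Commute x jj ∧
      ∀ y, Sc (y * jj) (jj * y) → Sc (y * x) (x * y) ∨ Sc (y * x) (x * jj * y) := by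
  obtain ⟨c, e, hc, he⟩ : ∃ c e : F, 2 * c ^ 2 = e ∧ e ^ 2 = 1 := by
    by_cases h3 : IsSquare (2 : F)
    · obtain ⟨r, hr⟩ := h3
      exact ⟨r⁻¹, 1, by grind, by simp⟩
    · obtain ⟨r, hr⟩ := (sq_mul h2 (neg_ne_zero.2 one_ne_zero)).2 (iff_of_false h3 h)
      exact ⟨r⁻¹, -1, by grind, by simp⟩
  refine ⟨⟨!![c, c; -c, c], !![c, c; -c, c], false, by simp only [mm]; grind⟩,
    ⟨e, by simp [mm]; grind⟩, by ext1 <;> simp [mm], ?_⟩
  rintro ⟨a, b, s, hab⟩ ⟨l, h1, h3, -⟩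
  have h4 := congrArg det h1
  have h5 : a.det ≠ 0 := left_ne_zero_of_mul_eq_one hab
  simp only [HK.mul_a, HK.mul_b, jj_a, jj_b, jj_s, Bool.cond_self, cond_false, det_mul, det_smul2,
    det_jm] at h1 h3 h4
  obtain ⟨p, q, r, u, rfl⟩ := ent a
  obtain ⟨x, y, z, v, rfl⟩ := ent b
  obtain rfl | rfl : l = 1 ∨ l = -1 := by grind
  · refine Or.inl ⟨1, ?_⟩
    cases s <;> simp only [HK.mul_a, HK.mul_b, HK.mul_s, cond, mm] at * <;> grind
  · refine Or.inr ⟨-1, ?_⟩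
    cases s <;> simp only [HK.mul_a, HK.mul_b, HK.mul_s, cond, mm, jj_a, jj_b, jj_s,
      Bool.xor_false] at * <;> grind

theorem root_ws (h2 : (2 : F) ≠ 0) (h : ¬ IsSquare (-1 : F)) {k : HK F} (hk : Sc (k * k) t0) :
    ¬ Sc (ws * k) (k * ws) ∧ ¬ Sc (ws * k) (k * t0 * ws) := by
  have hs := root_s h2 hk ((Commute.refl k).mul_right (Commute.refl k))
  obtain ⟨m, h1, h3, -⟩ := hk
  have h4 := sc_pow h1 h3
  have key : ∀ l : F, k.b ≠ l • k.a := fun l e => h ⟨l, by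
    simp only [HK.mul_a, HK.mul_b, hs, cond, t0_a, t0_b, e, smul_mul_smul_comm] at h1 h3
    rw [h1, smul_neg, ← neg_smul, smul_smul] at h3
    have := smul_one_inj h3
    grind⟩
  refine ⟨fun ⟨l, e, _⟩ => key l (by simpa [hs] using e), fun ⟨l, e, _⟩ => key (-l) ?_⟩
  simpa [hs] using e

/-- a subgroup of index two defined by the determinant -/
def Dl (e : F) (he : e ≠ 0) : Subgroup (HK F) where
  carrier := {k | IsSquare (k.a.det * cond k.s e 1)}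
  one_mem' := by simp
  mul_mem' := by
    rintro ⟨a, b, _ | _, h⟩ ⟨c, d, _ | _, h'⟩ ⟨r, hr⟩ ⟨s, hs⟩ <;>
      simp only [Set.mem_ofPred_eq, HK.mul_a, HK.mul_s, cond, det_mul, Bool.xor_false, Bool.xor_true,
        Bool.not_true, Bool.not_false, mul_one] at *
    exacts [⟨r * s, by grind⟩, ⟨r * s, by grind⟩, ⟨r * s * d.det, by grind⟩,
      ⟨r * s * d.det / e, by grind⟩]
  inv_mem' := by
    rintro ⟨a, b, _ | _, h⟩ ⟨r, hr⟩ <;>
      simp only [Set.mem_ofPred_eq, HK.inv_a, HK.inv_s, cond, det_smul2, det_adj, mul_one] at *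
    exacts [⟨r * b.det, by grind⟩, ⟨r, by grind⟩]

theorem mem_Dl {e : F} {he : e ≠ 0} {k : HK F} :
    k ∈ Dl e he ↔ IsSquare (k.a.det * cond k.s e 1) := Iff.rfl

theorem sat_Dl {e : F} {he : e ≠ 0} : Sat (Dl e he) := fun _ _ ⟨l, h1, _, h⟩ ⟨r, hr⟩ =>
  ⟨l * r, by rw [h1, det_smul2, h, mul_assoc, hr]; ring⟩

theorem LL_Dl {e : F} {he : e ≠ 0} : LL ≤ Dl e he := fun _ ⟨h1, l, _, h⟩ =>
  ⟨l, by rw [h1, h]; simp [pow_two]⟩

theorem Dl_or [Finite F] {e : F} {he : e ≠ 0} {a : HK F} (ha : a ∉ Dl e he) (hs : a.s = false)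
    (h : a.b.det = a.a.det) (b : HK F) : b * a ∈ Dl e he ∨ b ∈ Dl e he := by
  refine or_iff_not_imp_right.2 fun hb => ?_
  have h0 : b.a.det * cond b.s e 1 ≠ 0 := mul_ne_zero b.da (by cases b.s <;> simp [he])
  rw [mem_Dl] at *
  rw [hs, cond_false, mul_one] at ha
  convert (sq_mul h0 a.da).2 (iff_of_false hb ha) using 1
  cases hb : b.s <;> simp [hs, hb, h] <;> ring

end Cfsg.Agent.L4Q
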