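import Cfsg.Agent.L4Q.Mat2
import Cfsg.Agent.Lyons.Tools
import Cfsg.Agent.Block.ZStar
import Cfsg.Agent.Transfer.ThompsonTransfer

/-! # Fusion of involutions -/

set_option autoImplicit false
set_option linter.unusedSectionVars false

namespace Cfsg.Agent.L4Q

open Matrix Cfsg.Agent.RootSub Subgroup Cfsg.Agent.PLocal.Amb Cfsg.Agent.Lyons

variable {F : Type*} [Field F] {G : Type*} [Group G] [Finite G]

local notation "SL2" => Matrix.SpecialLinearGroup (Fin 2) F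

theorem zs {D : Subgroup G} {t : G} (ht : t ∈ D) (o : orderOf t = 2)
    (hi : ∀ d ∈ D, Commute t (d * t * d⁻¹) → d * t * d⁻¹ = t) {d : G} (hd : d ∈ D) :
    t * d * t⁻¹ * d⁻¹ ∈ oc D :=
  ⟨_, Block.zstar (u := (⟨t, ht⟩ : D)) ⟨(Subgroup.orderOf_mk ..).trans o,
    fun g hg => Subtype.ext (hi g g.2 (hg.map D.subtype))⟩ ⟨d, hd⟩, rfl⟩

theorem zs_dec {D : Subgroup G} {t : G} (ht : t ∈ D) (o : orderOf t = 2)
    (hi : ∀ d ∈ D, Commute t (d * t * d⁻¹) → d * t * d⁻¹ = t) {d : G} (hd : d ∈ D) :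
    ∃ o ∈ oc D, ∃ c, Commute c t ∧ d = o * c := by
  have h1 := zs ht o hi hd
  have tt := Inv.mul_self_of_orderOf_eq_two o
  rw [Inv.inv_eq_of_orderOf_eq_two o, mul_assoc, mul_assoc, ← mul_assoc d] at h1
  obtain ⟨k, hk⟩ := Inv.exists_pow_conj_of_odd tt (Inv.conj_mul_self tt d) (odd_orderOf (odd_oc D) h1)
  generalize hx : (t * (d * t * d⁻¹)) ^ k = x at hk
  exact ⟨x, hx ▸ pow_mem h1 k, x⁻¹ * d, comm_of_cj (by
    rw [show x⁻¹ * d * t * (x⁻¹ * d)⁻¹ = x⁻¹ * (d * t * d⁻¹) * x by group, ← hk]; group), by group⟩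

theorem norm_zp {g x : G} (h : g * x * g⁻¹ ∈ zpowers x) : g ∈ 𝐍[zpowers x] :=
  mem_normalizer_of_cj_le (cj_le_iff_forall.2 (by
    rintro _ ⟨n, rfl⟩; rw [← conj_zpow]; exact zpow_mem h n))

theorem pg_two {x : G} (h : x * x = 1) : IsPGroup 2 (zpowers x) :=
  isPGroup_zpowers ⟨1, by simpa [pow_two] using h⟩

namespace Su

variable {φ : HK F →* G} (h : Su φ)
include h

theorem odd_H0 {k : HK F} (o : Odd (orderOf (φ k))) : k.s = false := by
  obtain ⟨l, -, -, e⟩ := h.one_iff.1 ((map_pow φ k _).trans (pow_orderOf_eq_one (φ k)))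
  rwa [pow_s k o] at e

theorem comm_i1 {k : HK F} {X : SL2} (hc : Commute (φ k) (φ (i1 X))) (hX : ¬ Scal X.1) :
    k.s = false ∧ k.a * X.1 = X.1 * k.a := by
  obtain ⟨l, h1, h2, -⟩ := h.comm_iff.1 hc
  have l4 := sc_pow h1 h2
  cases hs : k.s <;> simp only [HK.mul_a, HK.mul_b, hs, cond, i1_a, i1_b, i1_s, mul_one, one_mul] at h1 h2
  · obtain rfl : 1 = l := smul_one_inj (mul_cancel_det' k.db (by simpa using h2))
    exact ⟨rfl, by simpa using h1⟩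
  · refine (hX ⟨l ^ 3, mul_cancel_det' k.da ?_⟩).elim
    rw [smul_mul_assoc, one_mul]
    conv_rhs => rw [h1, smul_smul, ← pow_succ, l4, one_smul]

theorem syl_of {A R : Subgroup G} (hR : IsSyl 2 R (A ⊓ φ.range)) (ht : φ t0 ∈ A)
    (hz : ∀ k, IsConj (φ t0) (φ k) → (∀ r ∈ R, Commute (φ k) r) → φ k = φ t0) : IsSyl 2 R A := by
  have c : ∀ r ∈ R, Commute r (φ t0) := fun r hr => by
    obtain ⟨k, rfl⟩ := (hR.le hr).2; exact h.comm k
  have m : φ t0 ∈ R := hR.le_of_normalizes (pg_two h.tt) (zpowers_le.2 ⟨ht, t0, rfl⟩)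
    (zpowers_le.2 (centralizer_le_normalizer' R (mem_centralizer_iff.2 c))) (mem_zpowers _)
  refine isSyl_of_isSyl_normalizer (hR.mono (le_inf (hR.le.trans inf_le_left) le_normalizer)
    fun n hn => ⟨hn.1, h.cent n (comm_of_cj ?_)⟩)
  obtain ⟨k, hk⟩ := (hR.le (conj_mem_of_mem_normalizer hn.2 m)).2
  rw [← hk]
  refine hz k (hk ▸ isConj_cj n _) fun r hr => ?_
  simpa [hk, mul_assoc] using cj_comm (c _ (inv_conj_mem_of_mem_normalizer hn.2 hr)).symm n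

theorem jS_four : φ (i1 jS) ^ 2 ^ 2 = 1 := by
  rw [← map_pow, show (i1 jS : HK F) ^ 2 ^ 2 = 1 by ext1 <;> simp [pow_succ, jm_jm], map_one]

variable [Finite F]

theorem odd_index : Odd φ.range.index := by
  obtain ⟨K, h1, h2, h3⟩ := exists_km h.two
  obtain ⟨R, hR, le⟩ := exists_isSyl_ge (p := 2) (R := zpowers (φ (i1 K)) ⊔ zpowers (φ (i1 jS)))
    (L := ⊤ ⊓ φ.range) (isPGroup_sup (isPGroup_zpowers ⟨2, by
      rw [show 2 ^ 2 = 2 * 2 from rfl, pow_mul, pow_two, pow_two, ← map_mul, ← map_mul i1, h1, i1_neg,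
        h.tt]⟩) (isPGroup_zpowers ⟨2, h.jS_four⟩) (zpowers_le.2 (norm_zp (by
      rw [← map_inv, ← map_inv, ← map_mul, ← map_mul, ← map_mul, ← map_mul, h2, map_inv, map_inv]
      exact inv_mem (mem_zpowers _))))) (by simp)
  have hS := h.syl_of hR trivial fun k hk hc => by
    have e1 := h.comm_i1 (hc _ (le (mem_sup_right (mem_zpowers _)))) not_scal_jm
    have e2 := h.comm_i1 (hc _ (le (mem_sup_left (mem_zpowers _)))) fun e => by
      rw [show K * jS = jS * K from Subtype.ext (e.comm _), mul_inv_cancel_right,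
        eq_inv_iff_mul_eq_one] at h2
      have := congrArg (·.1 0 0) h2
      have := h.two
      simp [mm] at *
      grind
    exact h.iso hk e1.1 (Or.inl (h3 _ e1.2 e2.2))
  have := hS.not_dvd_relIndex
  rw [relIndex_top_right] at this
  exact Nat.not_even_iff_odd.1 fun e =>
    this ((even_iff_two_dvd.1 e).trans (index_dvd_of_le (hR.le.trans inf_le_right)))

theorem thom {Q : Subgroup (HK F)} (hQ : Sat Q) {a : HK F} (ha : a ∉ Q)
    (hb : ∀ b, b * a ∈ Q ∨ b ∈ Q) {x : G} (x2 : x * x = 1) : ∃ k ∈ Q, IsConj x (φ k) := by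
  by_cases h1 : x = 1
  · exact ⟨1, one_mem _, by simp [h1]⟩
  rcases Transfer.thompson_transfer h.odd_index (Q := Q.map φ)
    (relIndex_eq_two_iff_exists_notMem_and.2 ⟨φ a, ⟨a, rfl⟩, mt (h.mem_map hQ).1 ha, by
      rintro _ ⟨b, rfl⟩; rw [← map_mul, h.mem_map hQ, h.mem_map hQ]; exact hb b⟩)
    (Inv.orderOf_eq_two_of_mul_self h1 x2) with ⟨M, -, e, -⟩ | ⟨g, k, hk, e⟩
  · exact (h.no2 M e).elim
  · exact ⟨k, hk, e ▸ isConj_cj g x⟩

theorem exists_H0 {x : G} (x2 : x * x = 1) : ∃ k ∈ H0, IsConj x (φ k) :=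
  h.thom sat_H0 (a := ws) (by simp [mem_H0]) (fun b => by cases hb : b.s <;> simp [mem_H0, hb]) x2

omit h in
theorem conj_of {c k k' : HK F} (e : c * k * c⁻¹ = k') : IsConj (φ k) (φ k') :=
  φ.map_isConj (isConj_iff.2 ⟨c, e⟩)

theorem swap_lam {k : HK F} (hs : k.s = true) (k2 : φ k * φ k = 1) :
    ∃ m : F, k.a * k.b = m • 1 ∧ (m = 1 ∨ m = -1) := by
  obtain ⟨m, h1, -⟩ := h.sq_iff.1 k2
  have h2 := congrArg det h1
  have := k.h
  simp only [HK.mul_a, hs, cond, HK.one_a, det_mul, det_smul2, det_one] at h1 h2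
  exact ⟨m, h1, by grind⟩

/-- the classes of involutions exchanging the factors -/
theorem swap_or {k k' : HK F} (hs : k.s = true) (hs' : k'.s = true) (k2 : φ k * φ k = 1)
    (k2' : φ k' * φ k' = 1) (hd : IsSquare (k'.a.det * k.a.det)) :
    ∃ c, φ c * φ k' * (φ c)⁻¹ = φ k ∨ φ c * φ k' * (φ c)⁻¹ = φ k * φ t0 := by
  obtain ⟨m, h1, h2⟩ := h.swap_lam hs k2
  obtain ⟨m', h3, h4⟩ := h.swap_lam hs' k2'
  obtain rfl | rfl : m' = m ∨ m' = -m := by grind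
  · obtain ⟨c, -, e⟩ := swap_conj hs' hs h3 h1 hd
    exact ⟨c, Or.inl (by rw [← e]; simp)⟩
  · obtain ⟨c, -, e⟩ := swap_conj (k' := k * t0) hs' (by simp [hs]) h3 (by simp [hs, h1])
      (by simpa [hs] using hd)
    exact ⟨c, Or.inr (by rw [← map_mul φ k, ← e]; simp)⟩

theorem swap_t (h1 : IsSquare (-1 : F)) {k : HK F} (hs : k.s = true) (k2 : φ k * φ k = 1) :
    ∃ c, φ c * (φ k * φ t0) * (φ c)⁻¹ = φ k := by
  obtain ⟨m, h2, -⟩ := h.swap_lam hs k2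
  obtain ⟨i, hi⟩ := h1
  have := k.h
  obtain ⟨c, -, e⟩ := swap_conj (k := k * t0) (k' := ⟨i • k.a, i • k.b, true, by
    simp only [det_smul2]; grind⟩) (m := -m) (by simp [hs]) rfl (by simp [hs, h2])
    (by simp [h2, smul_smul, ← mul_assoc, ← hi]) ⟨i * k.a.det, by simp [hs]; ring⟩
  exact ⟨c, by rw [← map_mul, ← map_inv, ← map_mul, ← map_mul, e, h.eq]; exact ⟨i, rfl, rfl, hs.symm⟩⟩

theorem jj_t2 (h1 : IsSquare (-1 : F)) : ∃ c ∈ LL, φ c * φ jj * (φ c)⁻¹ = φ t2 := by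
  obtain ⟨i, hi⟩ := h1
  have i0 : i ≠ 0 := by rintro rfl; simp at hi
  have n : ¬ Scal (i • rm : M2 F) := by have := h.two; simp only [mm, scal_iff]; grind
  have e : (i • rm) * (i • rm) = ((-1 : F) • 1 : M2 F) := by simp only [mm]; grind
  obtain ⟨c, hc, e⟩ := conj_of_sq h.two (k := jj) (k' := ⟨i • rm, i • rm, false, by
    simp only [mm]; grind⟩) (m := -1) rfl rfl (by simp [jm_jm]) (by simp [jm_jm]) e e not_scal_jm
    not_scal_jm n n
  exact ⟨c, hc, by rw [← map_inv, ← map_mul, ← map_mul, e, h.eq]; exact ⟨i, rfl, rfl, rfl⟩⟩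

theorem H0_t {k : HK F} (hk : k.s = false) : φ k ∈ loc φ H0 (φ t0) := (h.loc_t sat_H0).2 hk

theorem exch {e : HK F} (he : e.s = false) (h1 : φ e ≠ φ t0) (hc : IsConj (φ t0) (φ e)) :
    ∃ g, g * φ t0 * g⁻¹ = φ e ∧ (g * φ jj * g⁻¹ = φ t0 ∨ g * φ t2 * g⁻¹ = φ t0) := by
  rcases h.cls hc (h.symm (IsConj.refl _) hc (h.H0_t he)) h.tt with e | e | e
  exacts [(e.1 (IsConj.refl _)).elim, (h1 e.symm).elim, e]

theorem jj_ne : φ jj ≠ φ t0 := fun e => by
  obtain ⟨l, -, h1, -⟩ := (h.eq _ _).1 e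
  simp [mm] at h1

theorem t2_ne : φ t2 ≠ φ t0 := fun e => by
  obtain ⟨l, -, h1, -⟩ := (h.eq _ _).1 e
  have := h.two
  simp only [mm, t2_b, t0_b] at h1
  grind

theorem not_jj (h1 : ¬ IsSquare (-1 : F)) : ¬ IsConj (φ t0) (φ jj) := fun hc => by
  obtain ⟨g, g1, g2⟩ := h.exch jj_s h.jj_ne hc
  obtain ⟨x, x1, x2, x3⟩ := exists_root h.two h1
  obtain ⟨k, hk⟩ := h.cent (g⁻¹ * φ x * g) (by
    simpa [← g1, mul_assoc] using cj_comm (x2.map φ) g⁻¹)
  have hx : φ x = g * φ k * g⁻¹ := by rw [hk]; group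
  obtain ⟨y, hy⟩ := h.cent (g * φ ws * g⁻¹) (by
    rcases g2 with e | e <;> rw [← e] <;> refine cj_comm (Commute.map ?_ φ) g <;> ext1 <;> simp)
  rw [← h.eq, map_mul, hx, ← g1, conj_mul, ← map_mul, mul_left_inj, mul_right_inj, h.eq] at x1
  have := x3 y (h.comm_iff.1 (by rw [hy, ← g1]; exact cj_comm (h.comm _) g))
  simp only [← h.eq, map_mul, hx, hy, ← g1, conj_mul, mul_left_inj, mul_right_inj] at this
  simp only [← map_mul, h.eq] at this
  exact this.elim (root_ws h.two h1 x1).1 (root_ws h.two h1 x1).2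

theorem jj_jj : φ jj * φ jj = 1 := h.sq_iff.2 ⟨-1, by simp [jm_jm]⟩

theorem jt : IsConj (φ jj * φ t0) (φ jj) := by
  obtain ⟨c, -, e⟩ := jj_conj h.two
  exact map_mul φ _ _ ▸ conj_of e

theorem t2t : IsConj (φ t2) (φ t2 * φ t0) := map_mul φ _ _ ▸ conj_of t2_conj

theorem swap_J {k : HK F} (hs : k.s = true) (hk : IsConj (φ t0) (φ k)) :
    IsConj (φ jj) (φ k * φ t0) := by
  have k2 := h.sq_of hk
  obtain ⟨m, hm, m1⟩ := h.swap_lam hs k2
  obtain ⟨Y, hY⟩ := swap_i1 hs (jS : SL2)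
  have e1 : k.b * jm = Y.1 * k.b := by
    simpa [hs] using congrArg HK.b (mul_inv_eq_iff_eq_mul.1 hY)
  have e2 : Y.1 * Y.1 = (-1 : F) • 1 := mul_cancel_det' k.db (by
    rw [mul_assoc, ← e1, ← mul_assoc, ← e1, mul_assoc, jm_jm]; simp)
  have e3 : ¬ Scal Y.1 := fun ⟨c, e⟩ => not_scal_jm ⟨c, mul_cancel_det k.db (by rw [e1, e]; simp)⟩
  have nk : φ k ∉ loc φ H0 (φ t0) := by simp [h.loc_t sat_H0, mem_H0, hs]
  have key : ∀ (x : HK F) (l : F), l * l = 1 → x.s = false → x.a = l • jm → x.b = Y.1 →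
      φ x ∈ loc φ LL (φ k) → ∀ k' : HK F, k'.s = true → k'.a.det = k.a.det →
      k'.a * k'.b = (-(l * m)) • 1 → IsConj (φ jj) (φ k') := fun x l hl x0 x1 x2 hx k' s' d' m' => by
    obtain ⟨c, -, e⟩ := conj_of_sq h.two (k := jj) (k' := x) (m := -1) rfl x0 (by simp [jm_jm])
      (by simp [jm_jm]) (by simp [x1, smul_smul, hl, jm_jm]) (x2 ▸ e2) not_scal_jm not_scal_jm
      (by
        rintro ⟨c, e⟩
        exact not_scal_jm ⟨l * c, by rw [mul_smul, ← e, x1, smul_smul, hl, one_smul]⟩) (x2 ▸ e3)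
    have j1 := conj_of (φ := φ) e
    have j2 : φ x * φ x = 1 := by
      rw [← e, ← map_mul, conj_mul, map_mul, map_mul, map_mul, h.jj_jj]; simp
    have n1 : φ x ≠ φ k := fun e => nk (e ▸ h.H0_t x0)
    have j3 : IsConj (φ x) (φ x * φ k) := by
      rcases h.cls hk (loc_mono LL_le _ hx) j2 with ⟨-, u, u1, u2, u3, u4⟩ | e | ⟨g, g1, e | e⟩
      · rcases h.eq_of_LL hk hx j2 u1 u2 u3 u4 with e | e
        · obtain ⟨c, e, -⟩ := h.one_iff.1 (isConj_one_left.1 (e ▸ j1))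
          exact (not_scal_jm ⟨c, e⟩).elim
        · exact (n1 e).elim
      · exact (n1 e).elim
      · rw [← e, ← g1, conj_mul]
        exact ((isConj_cj g _).symm.trans h.jt.symm).trans (isConj_cj g _)
      · rw [← e, ← g1, conj_mul]
        exact ((isConj_cj g _).symm.trans h.t2t).trans (isConj_cj g _)
    obtain ⟨c, -, e⟩ := swap_conj (k := x * k) (k' := k') (m := -(l * m)) (by simp [x0, hs]) s' (by
      simp only [HK.mul_a, HK.mul_b, x0, cond, x1, x2, ← e1, smul_mul_assoc]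
      rw [mul_assoc, ← mul_assoc k.a, hm]; simp [jm_jm, smul_smul]) m'
      ⟨k.a.det, by simp [x0, x1, d', det_jm, pow_two, hl]⟩
    exact j1.trans (j3.trans (map_mul φ _ _ ▸ conj_of e))
  have ki := inv_eq_of_mul_eq_one_right k2
  have e4 : φ k * φ (i1 jS) * φ k = φ (i2 Y) := by rw [← hY, map_mul, map_mul, map_inv, ki]
  rcases h.loc_swap (x := φ (i1 jS * i2 Y)) (IsConj.refl _) hk (h.comm k) nk
    ((h.loc_t sat_LL).2 (mul_mem (i1_LL _) (i2_LL _))) (comm_of_cj (by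
      rw [ki, map_mul]
      conv_rhs => rw [((i_comm jS Y).map φ).eq]
      simp only [← e4, ← mul_assoc]
      rw [mul_assoc _ (φ k) (φ k), k2, mul_one])).symm with e | e
  · exact map_mul φ k _ ▸ key _ 1 (by simp) rfl (by simp) (by simp) e _ (by simp [hs]) (by simp [hs])
      (by simp [hs, hm])
  · have := key _ (-1) (by simp) (by simp) (by simp) (by simp) (map_mul φ _ t0 ▸ e) k hs rfl
      (by simp [hm])
    by_cases h1 : IsSquare (-1 : F)
    · obtain ⟨c, e⟩ := h.swap_t h1 hs k2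
      exact this.trans (isConj_iff.2 ⟨_, e⟩).symm
    · exact (h.not_jj h1 (hk.trans this.symm)).elim

theorem exists_ne : ∃ k, IsConj (φ t0) (φ k) ∧ φ k ≠ φ t0 := by
  by_contra hn
  push Not at hn
  have hN : H0.map φ ≤ 𝐍[oc ⊤] := le_top.trans (le_norm_oc ⊤)
  refine h.no2 (oc ⊤ ⊔ H0.map φ) (index_eq_two_iff_exists_notMem_and.2 ⟨φ ws, fun e => ?_, fun b => ?_⟩)
  · obtain ⟨o, ho, _, ⟨k, hk, rfl⟩, e⟩ := (mem_sup_of_le_normalizer_left hN).1 e
    have := h.odd_H0 (k := ws * k⁻¹) (by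
      rw [map_mul, e, map_inv, mul_inv_cancel_right]; exact odd_orderOf (odd_oc _) ho)
    simp [mem_H0.1 hk] at this
  · obtain ⟨o, ho, c, hc, rfl⟩ := zs_dec (mem_top _) h.ord (fun d _ hd => by
      obtain ⟨k, hk⟩ := h.cent _ hd.symm
      exact hk ▸ hn k (hk ▸ isConj_cj d _)) (mem_top b)
    obtain ⟨k, rfl⟩ := h.cent c hc
    cases hk : k.s
    · exact Or.inr (mul_mem_sup ho ⟨k, hk, rfl⟩)
    · exact Or.inl (by
        rw [mul_assoc, ← map_mul]; exact mul_mem_sup ho ⟨_, by simp [mem_H0, hk], rfl⟩)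

theorem conj_t2 : IsConj (φ t0) (φ t2) := by
  by_contra hn
  have hj : ¬ IsConj (φ t0) (φ jj) := by
    by_cases h1 : IsSquare (-1 : F)
    · obtain ⟨c, -, e⟩ := h.jj_t2 h1
      exact fun hc => hn (hc.trans (e ▸ isConj_cj _ _))
    · exact h.not_jj h1
  have u : ∀ s, IsConj (φ t0) s → s ∈ loc φ H0 (φ t0) → s = φ t0 := fun s hs hx => by
    rcases h.cls (IsConj.refl _) hx (h.sq_of hs) with e | e | ⟨g, -, e | e⟩
    exacts [(e.1 hs).elim, e, (hj (hs.trans (e ▸ isConj_cj g _ : IsConj _ s).symm)).elim,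
      (hn (hs.trans (e ▸ isConj_cj g _ : IsConj _ s).symm)).elim]
  obtain ⟨k, hk, k1⟩ := h.exists_ne
  have hs : k.s = true := by_contra fun e => k1 (u _ hk (h.H0_t (by simpa using e)))
  have k2 := h.sq_of hk
  have hJ := h.swap_J hs hk
  have h1 : ¬ IsSquare (-1 : F) := fun h1 => by
    obtain ⟨c, e⟩ := h.swap_t h1 hs k2
    exact hj (hk.trans (hJ.trans (isConj_iff.2 ⟨_, e⟩)).symm)
  have tt : φ t2 * φ t2 = 1 := by rw [← map_mul, t2_t2, map_one]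
  have n2 : t2 ∉ Dl k.a.det k.da := by simpa [mem_Dl, det_rm] using h1
  obtain ⟨k', m, c⟩ := h.thom sat_Dl n2 (Dl_or n2 rfl rfl) tt
  have k2' : φ k' * φ k' = 1 := by
    obtain ⟨g, e⟩ := isConj_iff.1 c
    exact e ▸ Inv.conj_mul_self tt g
  have hc : IsConj (φ t2) (φ jj) := by
    cases hs' : k'.s
    · rcases or_assoc.2 (inv_H0 h.two hs' (h.sq_iff.1 k2')) with e | ⟨d, hd, e | e⟩
      · rcases sc3 h.two (four_ne h1) hs' (h.sq_iff.1 k2') e with e | e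
        · rw [h.one_iff.2 e, isConj_one_left, h.one_iff] at c
          exact (not_scal_rm h.two ⟨_, c.choose_spec.1⟩).elim
        · exact (hn ((h.eq _ _).2 e ▸ c).symm).elim
      · exact c.trans (conj_of e)
      · exact (n2 (e ▸ mul_mem (mul_mem (LL_Dl hd) m) (inv_mem (LL_Dl hd)))).elim
    · obtain ⟨d, e | e⟩ := h.swap_or hs hs' k2 k2' (by simpa [mem_Dl, hs'] using m)
      · exact (hn (hk.trans (c.trans (e ▸ isConj_cj _ _ : IsConj _ (φ k))).symm)).elim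
      · exact (c.trans (e ▸ isConj_cj _ _ : IsConj _ (φ k * φ t0))).trans hJ.symm
  obtain ⟨R, hR, le⟩ := exists_isSyl_ge (p := 2) (R := zpowers (φ (i1 jS)))
    (L := 𝐳[φ jj] ⊓ φ.range) (isPGroup_zpowers ⟨2, h.jS_four⟩)
    (zpowers_le.2 ⟨mem_cent.2 (Commute.map (by ext1 <;> simp) φ), _, rfl⟩)
  have hS := h.syl_of hR (mem_cent.2 (h.comm _)) fun k hk hc =>
    u _ hk (h.H0_t (h.comm_i1 (hc _ (le (mem_zpowers _))) not_scal_jm).1)
  obtain ⟨g, hg⟩ := isConj_iff.1 hc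
  obtain ⟨d, hd, e⟩ := exists_conj_mem hS (t := g * φ t0 * g⁻¹) (k := 1)
    (mem_cent.2 (hg ▸ cj_comm (h.comm _) g)) (by simpa [pow_two] using h.tt)
  have e1 : d * g * φ t2 * (d * g)⁻¹ = φ jj := by
    rw [← cj_eq (mem_cent.1 hd).symm, ← hg]; group
  rw [show d * (g * φ t0 * g⁻¹) * d⁻¹ = d * g * φ t0 * (d * g)⁻¹ by group] at e
  generalize d * g = g at e e1
  obtain ⟨e2, y, e3⟩ := hR.le e
  have l0 : φ jj ∉ loc φ LL (g * φ t0 * g⁻¹) := by rw [← e1, h.loc_iff sat_LL]; exact t2_notin h1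
  have l1 : φ jj ∈ loc φ LL (φ t0) := (h.loc_t sat_LL).2 jj_LL
  by_cases h0 : g * φ t0 * g⁻¹ ∈ loc φ H0 (φ t0)
  · exact l0 (by rwa [u _ (isConj_cj g _) h0])
  · refine h0 (h.symm (isConj_cj g _) (IsConj.refl _) ?_)
    have l2 := (h.loc_swap (IsConj.refl _) (isConj_cj g _) (e3 ▸ h.comm y) h0 l1
      (mem_cent.1 e2)).resolve_left l0
    exact (mul_mem_cancel_left (by rw [← e1, h.loc_iff sat_H0]; rfl)).1 (loc_mono LL_le _ l2)

theorem exists_g : ∃ g, g * φ t0 * g⁻¹ = φ t2 ∧ g * φ t2 * g⁻¹ = φ t0 := by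
  obtain ⟨g, g1, g2 | g2⟩ := h.exch t2_s h.t2_ne h.conj_t2
  · by_cases h1 : IsSquare (-1 : F)
    · obtain ⟨c, -, e⟩ := h.jj_t2 h1
      refine ⟨g * (φ c)⁻¹, ?_, ?_⟩
      · rw [← g1]; conv_rhs => rw [← cj_eq (h.comm c).inv_left]
        group
      · rw [← g2, ← e]; group
    · exact (h.not_jj h1 (g2 ▸ isConj_cj g _).symm).elim
  · exact ⟨g, g1, g2⟩

end Su

end Cfsg.Agent.L4Q
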