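import Cfsg.Agent.L4Q.Fus

/-! # The torus and the centraliser of the four-group `⟨t, t₂⟩` -/

set_option autoImplicit false
set_option linter.unusedSectionVars false

namespace Cfsg.Agent.L4Q

open Matrix Cfsg.Agent.RootSub Subgroup Cfsg.Agent.PLocal.Amb Cfsg.Agent.Lyons

variable {F : Type*} [Field F] {G : Type*} [Group G] [Finite G]

local notation "SL2" => Matrix.SpecialLinearGroup (Fin 2) F

theorem mem_Tor' {k : HK F} :
    k ∈ Tor ↔ k.s = false ∧ k.a 0 1 = 0 ∧ k.a 1 0 = 0 ∧ k.b 0 1 = 0 ∧ k.b 1 0 = 0 := by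
  refine ⟨by rintro ⟨a, b, c, d, h, rfl⟩; simp, fun ⟨h0, h1, h2, h3, h4⟩ => ?_⟩
  have := k.h
  refine ⟨k.a 0 0, k.a 1 1, k.b 0 0, k.b 1 1, by simpa [det_fin_two, h1, h3] using this, ?_⟩
  ext1
  · exact (eta_fin_two k.a).trans (by simp [h1, h2])
  · exact (eta_fin_two k.b).trans (by simp [h3, h4])
  · exact h0

theorem cent_t2 (h2 : (2 : F) ≠ 0) {k : HK F} (h : Sc (k * t2) (t2 * k)) :
    (k ∈ Tor ∨ jj * k ∈ Tor ∨ ws * k ∈ Tor ∨ jj * ws * k ∈ Tor) ∧ k * k ∈ Tor := by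
  obtain ⟨l, h1, h3, -⟩ := h
  have h5 := k.da
  rcases k with ⟨a, b, s, hab⟩
  obtain ⟨p, q, r, u, rfl⟩ := ent a
  obtain ⟨x, y, z, v, rfl⟩ := ent b
  simp only [HK.mul_a, HK.mul_b, t2_a, t2_b, t2_s, Bool.cond_self, cond_false, mm] at h1 h3 h5
  have : l = 1 ∨ l = -1 := by grind
  cases s <;> simp only [mem_Tor', HK.mul_a, HK.mul_b, HK.mul_s, jj_a, jj_b, jj_s, ws_a, ws_b, ws_s,
    cond, mm, Bool.xor_false, Bool.xor_true, Bool.not_true, Bool.not_false] <;> grind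

theorem n1_tor {k : HK F} (h : k ∈ Tor) : i1 jS * k * (i1 jS)⁻¹ ∈ Tor := by
  obtain ⟨a, b, c, d, e, rfl⟩ := h
  exact ⟨b, a, c, d, by grind, mul_inv_eq_iff_eq_mul.2 (by ext1 <;> simp [mm])⟩

theorem n2_tor {k : HK F} (h : k ∈ Tor) : i2 jS * k * (i2 jS)⁻¹ ∈ Tor := by
  obtain ⟨a, b, c, d, e, rfl⟩ := h
  exact ⟨a, b, d, c, by grind, mul_inv_eq_iff_eq_mul.2 (by ext1 <;> simp [mm])⟩

theorem n1_jw : i1 jS * (jj * ws) * (i1 jS)⁻¹ = (ws * t0 : HK F) * (t0 * i2 (-1)) :=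
  mul_inv_eq_iff_eq_mul.2 (by ext1 <;> simp [mm])

theorem jt_t2 [Finite F] (h2 : (2 : F) ≠ 0) {k : HK F} (hk : jj * k ∈ Tor) (h : Sc (k * k) 1) :
    ∃ c, c * k * c⁻¹ = t2 ∨ c * k * c⁻¹ = jj ∧ ∃ c, c * (k * t2) * c⁻¹ = t2 := by
  obtain ⟨m, ha, hb, -⟩ := h
  obtain ⟨h0, h1, h3, h4, h5⟩ := mem_Tor'.1 hk
  have hs : k.s = false := by simpa using h0
  have h6 := k.h
  have key : ¬ Scal k.a ∧ ¬ Scal k.b ∧ ¬ Scal (k * t2).a ∧ ¬ Scal (k * t2).b ∧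
      (k * t2).a * (k * t2).a = (-m) • 1 ∧ (k * t2).b * (k * t2).b = (-m) • 1 ∧ (m = 1 ∨ m = -1) := by
    simp only [HK.mul_a, HK.mul_b, hs, jj_s, jj_a, jj_b, cond, t2_a, t2_b, HK.one_a, HK.one_b] at *
    generalize k.a = a at *
    generalize k.b = b at *
    obtain ⟨p, q, r, u, rfl⟩ := ent a
    obtain ⟨x, y, z, v, rfl⟩ := ent b
    simp only [mm, scal_iff] at *
    grind
  simp only [HK.mul_a, HK.mul_b, hs, cond, HK.one_a, HK.one_b] at ha hb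
  obtain ⟨k1, k2, k3, k4, k5, k6, rfl | rfl⟩ := key
  · obtain ⟨c, -, e⟩ := conj_of_sq h2 hs t2_s ha hb (by simp [rm_rm]) (by simp [rm_rm]) k1 k2
      (not_scal_rm h2) (not_scal_rm h2)
    exact ⟨c, Or.inl e⟩
  · obtain ⟨c, -, e⟩ := conj_of_sq h2 hs jj_s ha hb (by simp [jm_jm]) (by simp [jm_jm]) k1 k2
      not_scal_jm not_scal_jm
    obtain ⟨d, -, e'⟩ := conj_of_sq h2 (by simp [hs]) t2_s k5 k6 (by simp [rm_rm]) (by simp [rm_rm])
      k3 k4 (not_scal_rm h2) (not_scal_rm h2)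
    exact ⟨c, Or.inr ⟨e, d, e'⟩⟩

theorem iff_loc {K : Subgroup G} {x y : G} (h : x * y ∈ K) : x ∈ K ↔ y ∈ K :=
  ⟨fun hx => (mul_mem_cancel_left hx).1 h, fun hy => (mul_mem_cancel_right hy).1 h⟩

namespace Su

variable {φ : HK F →* G} (h : Su φ) [Finite F]
include h

theorem c2 {k : HK F} (hk : k ∈ Tor) : Commute (φ k) (φ t2) := (Tor_comm hk t2_Tor).map φ
theorem jj_c2 : Commute (φ jj) (φ t2) := h.comm_iff.2 ⟨-1, by simp [rm_jm]⟩
theorem ws_c2 : Commute (φ ws) (φ t2) := Commute.map (by ext1 <;> simp) φ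
theorem conj_t3 : IsConj (φ t0) (φ t2 * φ t0) := h.conj_t2.trans h.t2t
theorem n1_t2 : φ (i1 jS) * φ t2 * (φ (i1 jS))⁻¹ = φ t2 * φ t0 := by
  rw [← map_inv, ← map_mul, ← map_mul, t2_conj, map_mul]
theorem t_H2 : φ t0 ∈ loc φ H0 (φ t2) := h.symm (IsConj.refl _) h.conj_t2 (h.H0_t rfl)
theorem t_H3 : φ t0 ∈ loc φ H0 (φ t2 * φ t0) :=
  h.symm (IsConj.refl _) h.conj_t3 (map_mul φ _ _ ▸ h.H0_t rfl)
theorem notH {k : HK F} (hk : k.s = true) : φ k ∉ loc φ H0 (φ t0) := by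
  simp [h.loc_t sat_H0, mem_H0, hk]

theorem sq_loc {s x : G} (hs : IsConj (φ t0) s) (hx : Commute x s) : x * x ∈ loc φ H0 s := by
  by_cases e : x ∈ loc φ H0 s
  exacts [mul_mem e e, h.mul_loc hs hx hx e e]

theorem root_loc {s x : G} (hs : IsConj (φ t0) s) (hx : x * x = s) : x ∈ loc φ H0 s := by
  obtain ⟨g, rfl⟩ := isConj_iff.1 hs
  obtain ⟨k, rfl⟩ := h.cent' (x := x) (hx ▸ (Commute.refl x).mul_right (Commute.refl x))
  rw [conj_mul, ← map_mul, mul_left_inj, mul_right_inj, h.eq] at hx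
  exact (h.loc_iff sat_H0 g).2 (root_s h.two hx ((Commute.refl k).mul_right (Commute.refl k)))

theorem all_t (h1 : IsSquare (-1 : F)) (h4 : ∀ c : F, c ^ 4 ≠ -1) {x : G} (x2 : x * x = 1)
    (x1 : x ≠ 1) : IsConj (φ t0) x := by
  obtain ⟨k, hk, c⟩ := h.exists_H0 x2
  have k2 : φ k * φ k = 1 := by
    obtain ⟨g, e⟩ := isConj_iff.1 c
    exact e ▸ Inv.conj_mul_self x2 g
  obtain ⟨d, -, e0⟩ := h.jj_t2 h1
  refine IsConj.trans ?_ c.symm
  rcases or_assoc.2 (inv_H0 h.two hk (h.sq_iff.1 k2)) with e | ⟨d, -, e | e⟩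
  · rcases sc3 h.two h4 hk (h.sq_iff.1 k2) e with e | e
    · exact (x1 (isConj_one_left.1 (h.one_iff.2 e ▸ c))).elim
    · rw [(h.eq _ _).2 e]
  · exact h.conj_t2.trans ((conj_of e).trans (isConj_iff.2 ⟨_, e0⟩)).symm
  · exact h.conj_t2.trans (conj_of e).symm

theorem two_of {s : G} (hs : IsConj (φ t0) s) (c0 : Commute s (φ t0)) (c2 : Commute s (φ t2))
    (n : s ∉ loc φ H0 (φ t0)) : s ∈ loc φ H0 (φ t2) ↔ s ∉ loc φ H0 (φ t2 * φ t0) := by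
  have n' : φ t0 ∉ loc φ H0 s := mt (h.symm hs (IsConj.refl _)) n
  refine ⟨fun a b => n' ((mul_mem_cancel_left (h.symm h.conj_t2 hs a)).1 (h.symm h.conj_t3 hs b)),
    fun b => by_contra fun a => b (h.symm hs h.conj_t3 ?_)⟩
  exact h.mul_loc hs c2.symm c0.symm (mt (h.symm hs h.conj_t2) a) n'

omit h in
theorem four_loc {s : G} (f : ∀ y : F, y ^ 4 = 1 → HK F)
    (f1 : ∀ e, φ (f 1 e) = 1) (f2 : ∀ e, φ (f (-1) e) ∈ loc φ H0 s)
    (f3 : ∀ y e, y ^ 2 = -1 → φ (f y e) ∈ loc φ H0 s) (y : F) (e : y ^ 4 = 1) :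
    φ (f y e) ∈ loc φ H0 s := by
  obtain rfl | rfl | e1 : y = 1 ∨ y = -1 ∨ y ^ 2 = -1 := by grind
  exacts [f1 e ▸ one_mem _, f2 e, f3 y e e1]

theorem tor_H2 {k : HK F} (hk : k ∈ Tor) : φ k ∈ loc φ H0 (φ t2) := by
  by_cases h4 : ∃ a : F, a ≠ 0 ∧ a ^ 4 ≠ 1
  · obtain ⟨a, a0, a4⟩ := h4
    obtain ⟨g, g1, g2⟩ := h.exists_g
    obtain ⟨X, hX⟩ := exists_sl (a := !![a, 0; 0, a⁻¹]) (by simp [a0])
    have hT : i1 X ∈ Tor := by simp [mem_Tor', hX]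
    obtain ⟨x, hx⟩ := h.cent _ (g2 ▸ cj_comm (h.c2 hT) g)
    have e := (cent_t2 h.two (k := x) (h.comm_iff.1 (by rw [hx, ← g1]; exact cj_comm (h.comm _) g))).2
    obtain ⟨y, hy⟩ := h.cent' (g := g) (g1 ▸ h.c2 hk)
    have := (Tor_comm hk e).map φ
    rw [map_mul, hx, conj_mul, ← hy, ← map_mul, ← map_mul] at this
    rw [← hy, ← g1, h.loc_iff sat_H0]
    refine (h.comm_i1 (X := X * X) (by simpa [mul_assoc] using cj_comm this g⁻¹) ?_).1
    simp only [Matrix.SpecialLinearGroup.coe_mul, hX, mm, scal_iff]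
    grind
  push Not at h4
  have s2 : φ t2 ∈ loc φ H0 (φ t2) := loc_mono LL_le _ (h.self_loc h.conj_t2)
  have a02 := four_loc (φ := φ) (s := φ t2) (fun y e => dg y 1 (y ^ 3) 1 (by grind))
    (fun _ => h.one_iff.2 ⟨1, by simp [mm]⟩)
    (fun _ => by convert s2 using 1; exact (h.eq _ _).2 ⟨-1, by simp [mm]; grind⟩) fun y _ e => h.root_loc h.conj_t2
      (by rw [← map_mul, h.eq]; exact ⟨-1, by simp [mm]; grind⟩)
  have a13 := four_loc (φ := φ) (s := φ t2) (fun y e => dg 1 y 1 (y ^ 3) (by grind))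
    (fun _ => h.one_iff.2 ⟨1, by simp [mm]⟩)
    (fun _ => by convert s2 using 1; exact (h.eq _ _).2 ⟨1, by simp [mm]; grind⟩) fun y _ e => h.root_loc h.conj_t2
      (by rw [← map_mul, h.eq]; exact ⟨1, by simp [mm]; grind⟩)
  have a01 := four_loc (φ := φ) (s := φ t2) (fun y e => dg y (y ^ 3) 1 1 (by grind))
    (fun _ => h.one_iff.2 ⟨1, by simp [mm]⟩)
    (fun _ => by convert h.t_H2 using 1; exact (h.eq _ _).2 ⟨1, by simp [mm]; grind⟩) fun y y4 e => by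
      have ht := fun x => h.all_t ⟨y, by rw [← e, pow_two]⟩ (x := x) fun c e => by
        by_cases c0 : c = 0
        · simp [c0] at e
        · have := h4 c c0
          have := h.two
          grind
      let z : HK F := dg 1 (y ^ 3) y 1 (by grind)
      have zT : z ∈ Tor := ⟨_, _, _, _, _, rfl⟩
      have z3 : φ z ∈ loc φ H0 (φ t2 * φ t0) := h.root_loc h.conj_t3 (by
        rw [← map_mul, ← map_mul, h.eq]; exact ⟨-1, by simp [z, mm]; grind⟩)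
      have c1 : Commute (φ (jj * ws)) (φ t2) := map_mul φ _ _ ▸ h.jj_c2.mul_left h.ws_c2
      have c2 : Commute (φ (jj * ws * z)) (φ t2) := map_mul φ _ z ▸ c1.mul_left (h.c2 zT)
      have e1 : φ (jj * ws) * φ (jj * ws) = 1 := h.sq_iff.2 ⟨-1, by simp [mm]⟩
      have e2 : φ z = φ (jj * ws) * φ (jj * ws * z) := by
        rw [map_mul φ _ z, ← mul_assoc, e1, one_mul]
      have i1 := h.two_of (ht _ e1 fun e => h.notH (k := jj * ws) rfl (e ▸ one_mem _)) (h.comm _) c1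
        (h.notH rfl)
      have i2 := h.two_of (ht _ (h.sq_iff.2 ⟨-1, by simp [z, mm]; grind⟩) fun e =>
        h.notH (k := jj * ws * z) rfl (e ▸ one_mem _)) (h.comm _) c2 (h.notH rfl)
      have i3 := iff_loc (e2 ▸ z3)
      have z2 : φ z ∈ loc φ H0 (φ t2) := by
        rw [e2]
        by_cases a : φ (jj * ws) ∈ loc φ H0 (φ t2)
        · exact mul_mem a (by tauto)
        · exact h.mul_loc h.conj_t2 c1 c2 a (by tauto)
      convert mul_mem (a02 y y4) z2 using 1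
      rw [← map_mul, h.eq]; exact ⟨1, by simp [z, mm]; grind⟩
  obtain ⟨a, b, c, d, e, rfl⟩ := hk
  have a4 := h4 a (by rintro rfl; simp at e)
  have c4 := h4 c (by rintro rfl; simp at e)
  have d4 := h4 d (by rintro rfl; simp at e)
  convert mul_mem (mul_mem (a01 (a * c) (by grind)) (a02 (c ^ 3) (by grind))) (a13 (d ^ 3) (by grind))
    using 1
  rw [← map_mul, ← map_mul, h.eq]; exact ⟨1, by simp [mm]; grind⟩

end Su

end Cfsg.Agent.L4Q
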