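import Cfsg.Agent.L4Q.Stein
import Cfsg.Agent.PLocal.Standard
import Cfsg.Agent.Grp.Fitting

/-! # Subgroups of odd order normalised by the torus -/

set_option autoImplicit false
set_option linter.unusedSectionVars false

namespace Cfsg.Agent.L4Q

open Matrix Cfsg.Agent.RootSub Subgroup Cfsg.Agent.PLocal.Amb Cfsg.Agent.Lyons Equiv

variable {F : Type*} [Field F] {G : Type*} [Group G] [Finite G]

local notation "SL2" => Matrix.SpecialLinearGroup (Fin 2) F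

theorem conj_i1 {k : HK F} (hk : k.s = false) (X : SL2) :
    ∃ Y, k * i1 X * k⁻¹ = i1 Y ∧ k.a * X.1 = Y.1 * k.a := by
  have := k.h
  obtain ⟨Y, hY⟩ := exists_sl (a := k.a * X.1 * (k.b.det • adj k.a)) (by
    simp only [det_mul, det_smul2, det_adj, X.2]; grind)
  have e : k.a * X.1 = Y.1 * k.a := by simp [hY, mul_assoc, adj_mul, smul_smul, this, mul_comm k.b.det]
  exact ⟨Y, mul_inv_eq_iff_eq_mul.2 (by ext1 <;> simp [hk, e]), e⟩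

theorem ws_inv : (ws⁻¹ : HK F) = ws := inv_eq_of_mul_eq_one_right ws_ws

/-- the unipotent radical of the Borel subgroup -/
def PU : Subgroup (HK F) where
  carrier := {k | ∃ a b, i1 (xx a) * i2 (xx b) = k}
  one_mem' := ⟨0, 0, by simp [xx_zero]⟩
  mul_mem' := by
    rintro _ _ ⟨a, b, rfl⟩ ⟨c, d, rfl⟩
    exact ⟨a + c, b + d, by ext1 <;> simp [add_comm]⟩
  inv_mem' := by
    rintro _ ⟨a, b, rfl⟩
    exact ⟨-a, -b, eq_inv_of_mul_eq_one_left (by ext1 <;> simp [mm])⟩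

theorem tri_pow {a : M2 F} (h : a 1 0 = 0) (n : ℕ) :
    (a ^ n) 1 0 = 0 ∧ (a ^ n) 0 0 = a 0 0 ^ n ∧ (a ^ n) 1 1 = a 1 1 ^ n := by
  induction n with
  | zero => simp
  | succ n ih => simp [pow_succ, mul_apply, ih, h]

namespace Fr

variable {φ : HK F →* G} {V : G → Perm (Fin 4) → Prop} (h : Fr φ V) [Finite F]
include h

theorem root1 {μ : F} (m0 : μ ≠ 0) (m2 : μ ^ 2 ≠ 1) (Y : Subgroup G) (o : Odd (Nat.card Y))
    (hT : ∀ k ∈ Tor, φ k ∈ 𝐍[Y]) {X : SL2} (hX : φ (i1 X) ∈ Y) (nd : ¬ (X.1 0 1 = 0 ∧ X.1 1 0 = 0)) :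
    ∃ x ∈ Y, x ≠ 1 ∧ (x ∈ rt φ V 0 1 ∨ x ∈ rt φ V 1 0) := by
  induction Y using WellFoundedLT.induction generalizing X with | ind Y ih => ?_
  have := S0205.result o
  have lt := Grp.commutator_lt_of_isSolvable (H := Y) (by
    rintro rfl
    exact nd (by simp [h.i1_inj (mem_bot.1 hX)]))
  by_cases c : ∃ X : SL2, φ (i1 X) ∈ ⁅Y, Y⁆ ∧ ¬ (X.1 0 1 = 0 ∧ X.1 1 0 = 0)
  · obtain ⟨X, a, b⟩ := c
    obtain ⟨x, a, b⟩ := ih _ lt (odd_of_le lt.le o) (fun k hk => le_normalizer_commutator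
      (zpowers_le.2 (hT k hk)) (zpowers_le.2 (hT k hk)) (mem_zpowers _)) a b
    exact ⟨x, lt.le a, b⟩
  push Not at c
  have nt : ∀ Z : SL2, φ (i1 Z) ∈ Y → Z.1 * Z.1 ≠ -1 := fun Z hZ e => h.t1 (Inv.eq_one_of_mul_self_of_odd
    h.tt (odd_orderOf o (by
      rw [← i1_neg, ← show Z * Z = -1 from Subtype.ext e, map_mul, map_mul]; exact mul_mem hZ hZ)))
  have cj : ∀ k ∈ Tor, ∀ Z : SL2, φ (i1 Z) ∈ Y → ∃ W, φ (i1 W) ∈ Y ∧ k.a * Z.1 = W.1 * k.a :=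
    fun k hk Z hZ => by
      obtain ⟨W, a, b⟩ := conj_i1 (Tor_le hk) Z
      exact ⟨W, by simpa [← a] using conj_mem_of_mem_normalizer (hT k hk) hZ, b⟩
  obtain ⟨W, w1, w2⟩ := cj _ t2_Tor X hX
  have z1 : φ (i1 (X⁻¹ * W)) ∈ Y := by simpa using mul_mem (inv_mem hX) w1
  have z2 : X.1 * (X⁻¹ * W).1 = W.1 := by rw [← Matrix.SpecialLinearGroup.coe_mul, mul_inv_cancel_left]
  generalize X⁻¹ * W = Z at z1 z2
  obtain ⟨U, u1, u2⟩ := cj (dg μ 1 1 μ⁻¹ (by simp [m0])) ⟨_, _, _, _, _, rfl⟩ Z z1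
  have d1 := c (Z * U * Z⁻¹ * U⁻¹) (by simpa [commutatorElement_def] using commutator_mem_commutator z1 u1)
  have d2 : (Z * U * Z⁻¹ * U⁻¹).1 * (U.1 * Z.1) = Z.1 * U.1 := by
    simp only [← Matrix.SpecialLinearGroup.coe_mul]; exact congrArg Subtype.val (by group; rfl)
  have d3 := (Z * U * Z⁻¹ * U⁻¹).2
  have n1 := nt X hX
  have n2 := nt Z z1
  have x1 := X.2
  have x2 := Z.2
  have h2 := h.two
  generalize (Z * U * Z⁻¹ * U⁻¹).1 = D at *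
  clear ih c cj nt
  obtain ⟨a, b, c, d, ex⟩ := ent X.1
  obtain ⟨p, q, r, s, ez⟩ := ent Z.1
  obtain ⟨p', q', r', s', eu⟩ := ent U.1
  obtain ⟨e, f, g, i, rfl⟩ := ent D
  simp only [← z2, ex, ez, eu, t2_a, dg_a, mm, Ne] at w2 u2 d1 d2 d3 n1 n2 x1 x2 nd
  obtain ⟨w1, w2, w3, w4⟩ := w2
  have e0 : p = a * d + b * c := by linear_combination -d * w1 + b * w3 - p * x1
  have e1 : s = p ∧ q = -2 * b * d ∧ r = -2 * a * c :=
    ⟨by linear_combination a * w4 - c * w2 - s * x1 - e0,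
      by linear_combination d * w2 - b * w4 - q * x1, by linear_combination c * w1 - a * w3 - r * x1⟩
  clear w1 w2 w3 w4
  have e2 : p ≠ 0 ∧ (q ≠ 0 ∨ r ≠ 0) :=
    ⟨fun e => n2 (by grind), by_contra fun e => n1 (by clear n1 n2 d2 u2; grind)⟩
  obtain ⟨rfl, -⟩ := e1
  obtain ⟨rfl, rfl, rfl, rfl⟩ : p' = s ∧ q' = μ * q ∧ r' = r * μ⁻¹ ∧ s' = p' := by grind
  have e3 : e = 1 ∧ i = 1 := by grind
  have e4 : q * r = 0 := by grind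
  refine ⟨_, mul_mem z1 z1, fun e => ?_, ?_⟩
  · have := congrArg Subtype.val (h.i1_inj (X := Z * Z) (by simpa using e))
    simp only [Matrix.SpecialLinearGroup.coe_mul, Matrix.SpecialLinearGroup.coe_one, ez, mm] at this
    grind
  · rw [← map_mul, ← map_mul]
    by_cases hr : r = 0
    · exact Or.inl (h.r01.2 ⟨2 * s' * q, congrArg _ (congrArg _ (Subtype.ext (by
        simp only [Matrix.SpecialLinearGroup.coe_mul, ez, mm]; grind)))⟩)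
    · exact Or.inr (h.r10.2 ⟨2 * s' * r, congrArg _ (congrArg _ (Subtype.ext (by
        simp only [Matrix.SpecialLinearGroup.coe_mul, ez, mm]; grind)))⟩)

theorem root0 {μ : F} (m0 : μ ≠ 0) (m2 : μ ^ 2 ≠ 1) {Y : Subgroup G} (o : Odd (Nat.card Y))
    (hT : ∀ k ∈ Tor, φ k ∈ 𝐍[Y]) {k : HK F} (hk : φ k ∈ Y) (nd : ¬ (k.a 0 1 = 0 ∧ k.a 1 0 = 0)) :
    ∃ x ∈ Y, x ≠ 1 ∧ (x ∈ rt φ V 0 1 ∨ x ∈ rt φ V 1 0) := by
  have ok := odd_orderOf o hk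
  have hs := h.odd_H0 ok
  obtain ⟨Z, e1, e2⟩ := conj_i1 hs (hd μ)
  refine h.root1 m0 m2 Y o hT (X := Z * (hd μ)⁻¹) (by
    simpa [← e1, mul_assoc] using mul_mem hk (conj_mem_of_mem_normalizer (hT _ (hd_tor m0)) (inv_mem hk)))
    fun d => nd ?_
  have e3 : (Z * (hd μ)⁻¹).1 * (hd μ).1 = Z.1 := by
    rw [← Matrix.SpecialLinearGroup.coe_mul, inv_mul_cancel_right]
  have e4 := (Z * (hd μ)⁻¹).2
  obtain ⟨r, hr⟩ := ok
  obtain ⟨l, e5, -⟩ := (h.eq k ((k * k) ^ (r + 1))).1 (by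
    rw [← pow_two, ← pow_mul, map_pow, show 2 * (r + 1) = 2 * r + 1 + 1 by ring, pow_succ, ← hr,
      pow_orderOf_eq_one, one_mul])
  rw [(pow_ab (by simp) _).1, HK.mul_a, hs, cond_false] at e5
  rw [← e3, hd_coe m0] at e2
  generalize (Z * (hd μ)⁻¹).1 = D at *
  obtain ⟨e, f, g, i, rfl⟩ := ent D
  generalize k.a = A at *
  obtain ⟨p, q, u, s, rfl⟩ := ent A
  by_contra nd
  simp only [mm] at e2 e4 d nd
  obtain ⟨rfl, rfl⟩ : p = 0 ∧ s = 0 := by grind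
  rw [show (!![0, q; u, 0] * !![0, q; u, 0] : M2 F) = (q * u) • 1 by simp [mm, mul_comm],
    _root_.smul_pow, one_pow, smul_smul] at e5
  simp only [mm] at e5
  grind

theorem root {μ : F} (m0 : μ ≠ 0) (m2 : μ ^ 2 ≠ 1) {Y : Subgroup G} (o : Odd (Nat.card Y))
    (hT : ∀ k ∈ Tor, φ k ∈ 𝐍[Y]) {y : G} (hy : y ∈ Y) (n : ¬ Commute y (φ t0)) :
    ∃ a b, ¬ Bl a b ∧ ∃ x ∈ Y, x ≠ 1 ∧ x ∈ rt φ V a b := by
  have key : ∀ (ψ : HK F →* G) W, Fr ψ W → (∀ k ∈ Tor, ψ k ∈ 𝐍[Y]) → ∀ y ∈ Y, Commute y (ψ t0) →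
      ¬ Commute y (ψ L4Q.t2) → ∃ a b, (a ≠ b ∧ Bl a b) ∧ ∃ x ∈ Y, x ≠ 1 ∧ x ∈ rt ψ W a b := by
    intro ψ W h hT y hy c n
    obtain ⟨k, rfl⟩ := h.cent y c
    by_cases nd : k.a 0 1 = 0 ∧ k.a 1 0 = 0
    · have hs := h.odd_H0 (odd_orderOf o hy)
      obtain ⟨x, a, b, c⟩ := (h.perm h.w).root0 m0 m2 o (fun k hk => by
        obtain ⟨k', a, b⟩ := h.conjT h.w hk
        exact (b ▸ hT k' a : _ * _ * _ ∈ _)) (k := ws⁻¹ * k * ws) (by simpa [mul_assoc] using hy)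
        fun e => n (h.c2 (mem_Tor'.2 ⟨hs, nd.1, nd.2, by simpa [hs, ws_inv] using e⟩))
      simp only [h.rt_perm h.w] at c
      exact c.elim (fun c => ⟨_, _, by decide, x, a, b, c⟩) fun c => ⟨_, _, by decide, x, a, b, c⟩
    · obtain ⟨x, a, b, c⟩ := h.root0 m0 m2 o hT hy nd
      exact c.elim (fun c => ⟨_, _, by decide, x, a, b, c⟩) fun c => ⟨_, _, by decide, x, a, b, c⟩
  have key2 : ∀ g π, V g π → (∀ a b, a ≠ b ∧ Bl a b → ¬ Bl (π a) (π b)) →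
      g * φ L4Q.t2 * g⁻¹ = φ t0 → ¬ Y ⊓ 𝐳[g * φ t0 * g⁻¹] ≤ 𝐳[φ t0] →
      ∃ a b, ¬ Bl a b ∧ ∃ x ∈ Y, x ≠ 1 ∧ x ∈ rt φ V a b := fun g π hg e e' n => by
    obtain ⟨y, ⟨y1, y2⟩, y3⟩ := SetLike.not_le_iff_exists.1 n
    obtain ⟨a, b, c, x⟩ := key _ _ (h.perm hg) (fun k hk => by
      obtain ⟨k', a, b⟩ := h.conjT hg hk
      exact (b ▸ hT k' a : _ * _ * _ ∈ _)) y y1 (mem_cent.1 y2).symm fun c => y3 (mem_cent.2 (e' ▸ c.symm))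
    exact ⟨_, _, e a b c, h.rt_perm hg a b ▸ x⟩
  obtain ⟨g, hg⟩ := h.ex (swap 1 2)
  obtain ⟨g1, g2⟩ := h.t2 g hg
  by_contra hn
  refine n (mem_cent.1 (PLocal.le_of_four (L := 𝐳[φ t0]) o (a := φ L4Q.t2) (t := φ t0)
    (Inv.orderOf_eq_two_of_mul_self (h.ne_of h.conj_t2) (h.sq_of h.conj_t2)) h.ord (h.comm _) h.t2_ne
    (hT _ t2_Tor) (hT _ t0_Tor) (by_contra fun n => hn (key2 g _ hg (by decide) g2 (g1 ▸ n)))
    inf_le_right (by_contra fun n => hn (key2 _ _ (h.mul h.n1 hg) (by decide) ?_ ?_)) hy)).symm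
  · rw [← cj_eq (h.comm (i1 jS)), ← g2]; group
  · rwa [show φ (i1 jS) * g * φ t0 * (φ (i1 jS) * g)⁻¹ = φ L4Q.t2 * φ t0 by rw [← h.n1_t2, ← g1]; group]

theorem mem_P {x : G} : x ∈ PU.map φ ↔ ∃ u ∈ rt φ V 0 1, ∃ v ∈ rt φ V 2 3, u * v = x := by
  constructor
  · rintro ⟨_, ⟨a, b, rfl⟩, rfl⟩
    exact ⟨_, h.r01.2 ⟨a, rfl⟩, _, h.r23.2 ⟨b, rfl⟩, (map_mul ..).symm⟩
  · rintro ⟨u, hu, v, hv, rfl⟩
    obtain ⟨a, rfl⟩ := h.r01.1 hu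
    obtain ⟨b, rfl⟩ := h.r23.1 hv
    exact ⟨_, ⟨a, b, rfl⟩, map_mul ..⟩

theorem le_P1 : rt φ V 0 1 ≤ PU.map φ := fun x hx => h.mem_P.2 ⟨x, hx, 1, one_mem _, mul_one x⟩
theorem le_P2 : rt φ V 2 3 ≤ PU.map φ := fun x hx => h.mem_P.2 ⟨1, one_mem _, x, hx, one_mul x⟩

theorem P_comm {x y : G} (hx : x ∈ PU.map φ) (hy : y ∈ PU.map φ) : Commute x y := by
  obtain ⟨_, ⟨a, b, rfl⟩, rfl⟩ := hx
  obtain ⟨_, ⟨c, d, rfl⟩, rfl⟩ := hy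
  exact Commute.map (by ext1 <;> simp [add_comm]) φ

theorem P_p {x : G} (hx : x ∈ PU.map φ) : x ^ ringChar F = 1 := by
  obtain ⟨u, hu, v, hv, rfl⟩ := h.mem_P.1 hx
  rw [(h.cm_far (by decide) u hu v hv).mul_pow, h.rt_p (by decide) hu, h.rt_p (by decide) hv, one_mul]

theorem t_P : φ t0 ∈ 𝐂[PU.map φ] := mem_centralizer_iff.2 (by rintro _ ⟨k, -, rfl⟩; exact h.comm k)

theorem iso_P {s : G} (hs : IsConj (φ t0) s) (m : s ∈ 𝐂[PU.map φ]) (c : Commute s (φ t0)) : s = φ t0 :=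
  h.iso_xx hs c (mem_centralizer_iff.1 m _ (h.le_P1 (h.r01.2 ⟨1, rfl⟩)) : Commute _ _).symm

theorem rc_of {μ : F} (m0 : μ ≠ 0) (m2 : μ ^ 2 ≠ 1) {d : G} (hd : d ∈ 𝐂[PU.map φ])
    (n : ¬ Commute d (φ t0)) : RC φ V := by
  obtain ⟨o, ho, c, hc, rfl⟩ := zs_dec h.t_P h.ord (fun d hd c => h.iso_P (isConj_cj d _)
    (mul_mem (mul_mem hd h.t_P) (inv_mem hd)) c.symm) hd
  obtain ⟨a, b, ab, x, x0, x1, x2⟩ := h.root m0 m2 (odd_oc _) (fun k hk => norm_le_norm_oc _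
    (normalizer_le_normalizer_centralizer _ (mem_normalizer_of_cj_le (cj_le_iff_forall.2 fun y hy => by
      obtain ⟨u, hu, v, hv, rfl⟩ := h.mem_P.1 hy
      exact h.mem_P.2 ⟨_, h.rt_conj (h.vT hk) hu, _, h.rt_conj (h.vT hk) hv, conj_mul⟩)))) ho
    fun e => n (e.mul_left hc)
  have e : a ≠ b := by rintro rfl; exact ab rfl
  have c := mem_centralizer_iff.1 (oc_le _ x0)
  exact h.rc ab (h.cm_of e x2 x1 fun y hy => (c y (h.le_P1 hy) : Commute _ _).symm)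
    (h.cm_of e x2 x1 fun y hy => (c y (h.le_P2 hy) : Commute _ _).symm)

theorem norm_P (H : ∀ d ∈ 𝐂[PU.map φ], Commute d (φ t0)) {n : G} (hn : n ∈ 𝐍[PU.map φ]) :
    Commute n (φ t0) := by
  have := conj_mem_of_mem_normalizer (normalizer_le_normalizer_centralizer _ hn) h.t_P
  exact comm_of_cj (h.iso_P (isConj_cj n _) this (H _ this))

theorem syl_P (H : ∀ d ∈ 𝐂[PU.map φ], Commute d (φ t0)) : IsSyl (ringChar F) (PU.map φ) ⊤ := by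
  have := Fact.mk (CharP.char_is_prime F (ringChar F))
  refine isSyl_of_isSyl_normalizer ⟨le_inf le_top le_normalizer,
    isPGroup_iff.2 fun x hx => ⟨1, by simpa using h.P_p hx⟩, fun R hR _ h2 r hr => ?_⟩
  obtain ⟨k, rfl⟩ := h.cent r (h.norm_P H (h2 hr).2)
  obtain ⟨n, hn⟩ := isPGroup_iff.1 hR _ hr
  have hs := h.odd_H0 ((odd_char h.two).pow.of_dvd_nat (orderOf_dvd_of_pow_eq_one hn))
  obtain ⟨_, ⟨a, b, rfl⟩, e⟩ := conj_mem_of_mem_normalizer (h2 hr).2 ⟨_, ⟨1, 1, rfl⟩, rfl⟩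
  rw [eq_mul_inv_iff_mul_eq, ← map_mul, ← map_mul, h.eq] at e
  obtain ⟨l, e1, e2, -⟩ := e
  obtain ⟨m, e3, e4, -⟩ := h.one_iff.1 ((map_pow φ k _).trans hn)
  rw [(pow_ab hs _).1] at e3
  rw [(pow_ab hs _).2] at e4
  have d1 := k.da
  have d2 := k.db
  have tri : ∀ (A : M2 F) c, A.det ≠ 0 → (xx c).1 * A = l • (A * (xx 1).1) → A 1 0 = 0 := fun A c d e => by
    obtain ⟨p, q, r, s, rfl⟩ := ent A
    simp only [mm] at *
    grind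
  have t1 := tri k.a a d1 (by simpa [hs] using e1)
  have t2 := tri k.b b d2 (by simpa [hs] using e2)
  have inj : ∀ x y : F, x ^ ringChar F ^ n = m → y ^ ringChar F ^ n = m → x = y := fun x y a b =>
    (iterateFrobenius F (ringChar F) n).injective (a.trans b.symm)
  obtain ⟨-, a1, a2⟩ := tri_pow t1 (ringChar F ^ n)
  obtain ⟨-, b1, b2⟩ := tri_pow t2 (ringChar F ^ n)
  simp only [e3, e4, HK.one_a, HK.one_b, mm, mul_one] at a1 a2 b1 b2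
  have f1 := inj _ _ a2.symm a1.symm
  have f2 := inj _ _ b1.symm a1.symm
  have f3 := inj _ _ b2.symm a1.symm
  refine ⟨_, ⟨k.a 0 1 / k.a 0 0, k.b 0 1 / k.a 0 0, rfl⟩, ((h.eq _ _).2 ⟨k.a 0 0, ?_⟩).symm⟩
  obtain ⟨p, q, r, s, ea⟩ := ent k.a
  obtain ⟨x, y, z, u, eb⟩ := ent k.b
  simp only [ea, eb, hs, HK.mul_a, HK.mul_b, HK.mul_s, i1_a, i1_b, i1_s, i2_a, i2_b, i2_s, cond,
    mm] at d1 t1 t2 f1 f2 f3 ⊢
  grind

end Fr

end Cfsg.Agent.L4Q
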