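import Cfsg.Agent.L4Q.Ex1

/-! # The case `q = 3`: a subgroup `S₄ × S₄` -/

set_option autoImplicit false
set_option linter.unusedSectionVars false

namespace Cfsg.Agent.L4Q

open Matrix Cfsg.Agent.RootSub Subgroup Cfsg.Agent.PLocal.Amb Cfsg.Agent.Lyons Equiv

variable {F : Type*} [Field F] {G : Type*} [Group G] [Finite G]

theorem isConj_cj_iff {a x : G} (g : G) : IsConj a (g * x * g⁻¹) ↔ IsConj a x :=
  ⟨fun e => e.trans (isConj_cj g x).symm, fun e => e.trans (isConj_cj g x)⟩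

namespace Su

variable {φ : HK F →* G} (h : Su φ) [Finite F] (h1 : ¬ IsSquare (-1 : F))
include h h1

theorem eq_of_pel {s x u : G} (hs : IsConj (φ t0) s) (hx : x ∈ loc φ H0 s) (x2 : x * x = 1)
    (hp : u ^ ringChar F = 1) (u1 : u ≠ 1) (us : Commute u s) (ux : Commute u x) : x = 1 ∨ x = s := by
  obtain ⟨g, u, rfl, rfl⟩ := exists_cj hs u
  obtain ⟨k, rfl⟩ := h.cent' (h.comm_of_loc hs hx)
  rw [h.loc_iff sat_H0] at hx
  have k2 : φ k * φ k = 1 := by simpa using x2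
  rcases sc3 h.two (four_ne h1) hx (h.sq_iff.1 k2) (h.scal_of_pel hx k2 (u := u) (by simpa using hp)
    (by simpa using u1) (by simpa [mul_assoc] using cj_comm us g⁻¹)
    (by simpa [mul_assoc] using cj_comm ux g⁻¹)) with e | e
  · exact Or.inl (by rw [h.one_iff.2 e]; simp)
  · exact Or.inr (by rw [(h.eq _ _).2 e])

theorem ty0 {s x : G} (hs : IsConj (φ t0) s) (hx : x ∈ loc φ H0 s) (x2 : x * x = 1) :
    x = 1 ∨ x = s ∨ (IsConj (φ t0) x ∧ IsConj (φ t0) (x * s) ∧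
      ∃ g, g * φ t0 * g⁻¹ = s ∧ g * φ t2 * g⁻¹ = x) ∨
      ¬ IsConj (φ t0) x ∧ ¬ IsConj (φ t0) (x * s) ∧ x ∈ loc φ LL s := by
  rcases h.cls hs hx x2 with ⟨-, u, a, b, c, d⟩ | e | ⟨g, rfl, rfl | rfl⟩
  · exact (h.eq_of_pel h1 hs hx x2 a b c d).imp_right Or.inl
  · exact Or.inr (Or.inl e)
  · simp only [conj_mul, isConj_cj_iff, h.loc_iff sat_LL]
    exact Or.inr (Or.inr (Or.inr ⟨h.not_jj h1, fun e => h.not_jj h1 (e.trans h.jt), jj_LL⟩))
  · simp only [conj_mul, isConj_cj_iff]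
    exact Or.inr (Or.inr (Or.inl ⟨h.conj_t2, h.conj_t3, g, rfl, rfl⟩))

theorem nJ {k : HK F} (hs : k.s = false) (a : k.a * k.a = -1) (b : k.b * k.b = -1) :
    ¬ IsConj (φ t0) (φ k) := fun e => by
  have n : ∀ A : M2 F, A * A = -1 → ¬ Scal A := by
    rintro _ e ⟨c, rfl⟩
    simp only [mm] at e
    exact h1 ⟨c, by grind⟩
  obtain ⟨c, -, e'⟩ := conj_of_sq h.two (k := k) (k' := jj) (m := -1) hs rfl (by simpa using a)
    (by simpa using b) (by simp [jm_jm]) (by simp [jm_jm]) (n _ a) (n _ b) not_scal_jm not_scal_jm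
  exact h.not_jj h1 (e.trans (conj_of e'))

end Su

namespace Fr

variable {φ : HK F →* G} {V : G → Perm (Fin 4) → Prop} (h : Fr φ V) [Finite F]
include h

theorem gJ {g : G} (hg : V g (swap 1 2)) : ∃ k ∈ Tor, g * φ jj * g⁻¹ = φ (ws * k) :=
  (h.quo h.w (h.cast (h.mul (h.mul hg h.vJ) (h.inv hg)) (by decide))).imp fun _ e =>
    ⟨e.1, by rw [e.2, map_mul]⟩

theorem w_H2 : φ ws ∈ loc φ H0 (φ L4Q.t2) := by
  obtain ⟨g, hg⟩ := h.ex (swap 1 2)
  obtain ⟨k, hk, e⟩ := h.quo h.vJ (h.cast (h.mul (h.mul hg h.w) (h.inv hg)) (by decide))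
  rw [← loc_conj_iff g, (h.t2 g hg).2, e, ← map_mul]
  exact h.H0_t (by simp [mem_H0.1 (Tor_le hk)])

variable (h1 : ¬ IsSquare (-1 : F))
include h1

theorem sT {k : HK F} (hs : k.s = true) (e : k.a * k.b = 1) : IsConj (φ t0) (φ k) := by
  by_cases c : IsSquare k.a.det
  · obtain ⟨c, -, e⟩ := swap_conj (k := ws) (m := 1) rfl hs (by simp) (by simpa using e) (by simpa using c)
    exact h.wt.trans (Su.conj_of e)
  · obtain ⟨c, -, e⟩ := swap_conj (k := ws * L4Q.t2) (m := 1) rfl hs (by simp [rm_rm]) (by simpa using e)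
      ((sq_mul (HK.da _) k.da).2 (by simp [det_rm, c, h1]))
    refine IsConj.trans ?_ (Su.conj_of e)
    rcases h.ty0 h1 h.conj_t2 h.w_H2 (h.sq_of h.wt) with e | e | e | e
    exacts [(h.ne_of h.wt e).elim, (h.notH ws_s (e ▸ h.H0_t rfl)).elim, map_mul φ _ _ ▸ e.2.1,
      (e.1 h.wt).elim]

theorem sJ {k : HK F} (hs : k.s = true) (e : k.a * k.b = -1) : ¬ IsConj (φ t0) (φ k) := fun c => by
  have := h.swap_J (k := k * t0) (by simp [hs]) (h.sT h1 (by simp [hs]) (by simp [hs, e]))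
  rw [map_mul, mul_assoc, h.tt, mul_one] at this
  exact h.not_jj h1 (c.trans this.symm)

theorem ty1 {s x : G} (hs : IsConj (φ t0) s) (c : Commute x s) (hx : x ∉ loc φ H0 s) (x2 : x * x = 1) :
    IsConj (φ t0) x ↔ ¬ IsConj (φ t0) (x * s) := by
  obtain ⟨g, rfl⟩ := isConj_iff.1 hs
  obtain ⟨k, rfl⟩ := h.cent' c
  rw [h.loc_iff sat_H0, mem_H0, Bool.not_eq_false] at hx
  obtain ⟨m, e, rfl | rfl⟩ := h.swap_lam hx (by simpa using x2) <;>
    simp only [conj_mul, isConj_cj_iff, ← map_mul]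
  · exact iff_of_true (h.sT h1 hx (by simpa using e)) (h.sJ h1 (by simp [hx]) (by simp [hx, e]))
  · exact iff_of_false (h.sJ h1 hx (by simpa using e))
      (not_not.2 (h.sT h1 (by simp [hx]) (by simp [hx, e])))

end Fr

/-- `y` has order `3`, is inverted by `s` and centralised by `⟨b₁, b₂, t, τ⟩ ≅ S₄`. -/
structure Cf (r s t y b₁ b₂ τ : G) : Prop where
  y3 : y ^ 3 = 1
  y1 : y ≠ 1
  sy : s * y * s⁻¹ = y⁻¹
  yt : Commute y t
  yb : Commute y b₁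
  yc : Commute y b₂
  yu : Commute y τ
  bb : b₁ * b₁ = 1
  cc : b₂ * b₂ = 1
  bc : Commute b₁ b₂
  bt : Commute b₁ t
  tc : t * b₂ * t⁻¹ = b₁ * b₂
  sb : Commute s b₁
  sc : Commute s b₂
  su : Commute s τ
  uc : Commute τ b₂
  ub : τ * b₁ * τ⁻¹ = b₁ * b₂
  nb : ¬ IsConj r b₁
  ns : ¬ IsConj r (b₁ * s)

omit [Finite G] in
theorem cj3 {a b c : G} (e : a * b * a⁻¹ = c) (g : G) :
    g * a * g⁻¹ * (g * b * g⁻¹) * (g * a * g⁻¹)⁻¹ = g * c * g⁻¹ := by rw [← e]; group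

theorem Cf.conj {r s t y b₁ b₂ τ : G} (c : Cf r s t y b₁ b₂ τ) (g : G) :
    Cf r (g * s * g⁻¹) (g * t * g⁻¹) (g * y * g⁻¹) (g * b₁ * g⁻¹) (g * b₂ * g⁻¹) (g * τ * g⁻¹) :=
  ⟨by simpa using c.y3, by simpa using c.y1, by rw [cj3 c.sy, conj_inv], cj_comm c.yt g,
    cj_comm c.yb g, cj_comm c.yc g, cj_comm c.yu g, by simpa using c.bb, by simpa using c.cc,
    cj_comm c.bc g, cj_comm c.bt g, by rw [cj3 c.tc, conj_mul], cj_comm c.sb g,
    cj_comm c.sc g, cj_comm c.su g, cj_comm c.uc g, by rw [cj3 c.ub, conj_mul],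
    by simpa only [isConj_cj_iff] using c.nb, by simpa only [conj_mul, isConj_cj_iff] using c.ns⟩

theorem cm_cm {σ τ a : G} (h1 : σ * σ = 1) (c1 : Commute τ a)
    (c2 : Commute τ (σ * a * σ⁻¹)) : Commute (τ * σ * τ * σ) a := by
  refine comm_of_cj ?_
  calc _ = τ * σ * (τ * (σ * a * σ⁻¹) * τ⁻¹) * σ⁻¹ * τ⁻¹ := by group
    _ = τ * ((σ * σ) * a * (σ * σ)⁻¹) * τ⁻¹ := by rw [cj_eq c2]; group
    _ = a := by rw [h1, one_mul, inv_one, mul_one, cj_eq c1]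

theorem hk_ind {p : HK F → Prop} (H : ∀ a b c d e f g i : F, ∀ s : Bool,
    ∀ h : (a * d - b * c) * (e * i - f * g) = 1,
      p ⟨!![a, b; c, d], !![e, f; g, i], s, by simpa [det_fin_two] using h⟩) (k : HK F) : p k := by
  obtain ⟨A, B, s, h⟩ := k
  obtain ⟨a, b, c, d, rfl⟩ := ent A
  obtain ⟨e, f, g, i, rfl⟩ := ent B
  exact H _ _ _ _ _ _ _ _ _ (by simpa [det_fin_two] using h)

local notation "F3" => ZMod 3

instance fact3 : Fact (Nat.Prime 3) := ⟨Nat.prime_three⟩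

instance (x y : HK F3) : Decidable (Sc x y) := by unfold Sc; infer_instance

def sa : HK F3 := ⟨!![1, -1; -1, -1], !![-1, 1; 1, 1], true, by simp [det_fin_two]; decide⟩
def sb : HK F3 := ⟨!![1, -1; 1, 1], !![-1, -1; 1, -1], true, by simp [det_fin_two]; decide⟩
def sx : HK F3 := ⟨!![1, 0; 0, -1], !![1, 1; -1, 1], false, by simp [det_fin_two]; decide⟩

/-- involutions of the second class -/
abbrev tyJ (k : HK F3) : Prop :=
  k.s = false ∧ k.a * k.a = -1 ∧ k.b * k.b = -1 ∨ k.s = true ∧ k.a * k.b = -1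

set_option synthInstance.maxSize 2000 in
theorem tab (k : HK F3) : Sc (k * t2) (t2 * k) → (Sc (k * k) 1 ∧ Sc (k * jj) (jj * k)) ∧
    (Sc (k * sa * (k * sa)) 1 → tyJ (k * sa) ∨ Sc k 1 ∨ Sc k jj) ∧
    (Sc (k * sb * (k * sb)) 1 → tyJ (k * sb) ∨ Sc k 1 ∨ Sc k (jj * t0)) ∧
    (Sc (k * sa) (sa * k) → Sc (k * sb) (sb * k) → Sc k 1 ∨ Sc k jj ∨ Sc k (jj * t0) ∨ Sc k t0) ∧
    (k.s = true → k.a 0 1 = 0 → k.a * k.b = 1 ∨ Sc k (ws * t2 * t0) ∨ Sc k (ws * t0)) := by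
  induction k using hk_ind with | H a b c d e f g i s h => ?_
  revert a b c d e f g i s h
  decide +kernel

theorem nsq3 : ¬ IsSquare (-1 : F3) := by decide

namespace Fr

variable {φ : HK F3 →* G} {V : G → Perm (Fin 4) → Prop} (h : Fr φ V)
include h

theorem nty {k : HK F3} (e : tyJ k) : ¬ IsConj (φ t0) (φ k) :=
  e.elim (fun e => h.nJ nsq3 e.1 e.2.1 e.2.2) fun e => h.sJ nsq3 e.1 e.2

theorem e3 (x y : HK F3) (e : Sc x y := by decide +kernel) : φ x = φ y := (h.eq x y).2 e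

theorem n3 (x y : HK F3) (e : ¬ Sc x y := by decide +kernel) : φ x ≠ φ y := mt (h.eq x y).1 e

theorem c3 (x y : HK F3) (e : Sc (x * y) (y * x) := by decide +kernel) : Commute (φ x) (φ y) :=
  h.comm_iff.2 e

theorem j3 (x y z : HK F3) (e : Sc (x * y) (z * x) := by decide +kernel) : φ x * φ y * (φ x)⁻¹ = φ z := by
  rw [mul_inv_eq_iff_eq_mul, ← map_mul, ← map_mul, h.e3 _ _ e]

theorem cE3 {c : G} (c0 : Commute c (φ t0)) (c2 : Commute c (φ L4Q.t2)) :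
    (c * c = 1 ∧ Commute c (φ jj)) ∧
    (IsConj (φ t0) (c * φ sa) → c = 1 ∨ c = φ jj) ∧
    (IsConj (φ t0) (c * φ sb) → c = 1 ∨ c = φ (jj * t0)) ∧
    (Commute c (φ sa) → Commute c (φ sb) → c = 1 ∨ c = φ jj ∨ c = φ (jj * t0) ∨ c = φ t0) := by
  obtain ⟨k, rfl⟩ := h.cent c c0
  obtain ⟨a, b, c, d, -⟩ := tab k (h.comm_iff.1 c2)
  simp only [← map_mul, h.one_iff, h.eq, h.comm_iff]
  exact ⟨a, fun e => (b (h.sq_iff.1 (h.sq_of e))).resolve_left fun e' => h.nty e' e,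
    fun e => (c (h.sq_iff.1 (h.sq_of e))).resolve_left fun e' => h.nty e' e, d⟩

end Fr

end Cfsg.Agent.L4Q
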