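import Cfsg.Agent.L4Q.ExF1

/-! # The case `q = 3`: an element of order `3` centralised by `S₄` -/

set_option autoImplicit false
set_option linter.unusedSectionVars false

namespace Cfsg.Agent.L4Q

open Matrix Cfsg.Agent.RootSub Subgroup Cfsg.Agent.PLocal.Amb Cfsg.Agent.Lyons Equiv

variable {G : Type*} [Group G] [Finite G]

local notation "F3" => ZMod 3

namespace Fr

variable {φ : HK F3 →* G} {V : G → Perm (Fin 4) → Prop} (h : Fr φ V)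
include h

theorem gact {g : G} (hg : V g (swap 1 2)) : g * φ jj * g⁻¹ = φ (ws * L4Q.t2 * t0) ∧
    g * φ (jj * t0) * g⁻¹ = φ (ws * t0) ∧ g * φ (ws * L4Q.t2 * t0) * g⁻¹ = φ jj ∧
    g * φ (ws * t0) * g⁻¹ = φ (jj * t0) := by
  obtain ⟨g1, g2⟩ := h.t2 g hg
  have sq : ∀ x k, x * φ jj * x⁻¹ = φ k → V x 1 → φ k = φ jj := fun x k e hx => by
    obtain ⟨c, hc, rfl⟩ := (h.tor x).1 hx
    rw [← e, cj_eq (h.cE3 (h.comm c) (h.c2 hc)).1.2]
  have gg : ∀ k, g * φ jj * g⁻¹ = φ k → g * φ k * g⁻¹ = φ jj := fun k e => by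
    obtain ⟨k', e'⟩ := h.cent (g * φ k * g⁻¹) (by
      rw [← g2, ← e, ← g1]; exact cj_comm (cj_comm (h.comm _) g) g)
    rw [← e']
    exact sq (g * g) k' (by rw [e', ← e]; group) (h.cast (h.mul hg hg) (by decide))
  obtain ⟨k, hk, e⟩ := h.gJ hg
  obtain ⟨-, -, -, -, t⟩ := tab (ws * k) (h.comm_iff.1 (map_mul φ _ _ ▸ h.ws_c2.mul_left (h.c2 hk)))
  rcases t (by simp [mem_H0.1 (Tor_le hk)]) (by simpa using (mem_Tor'.1 hk).2.2.2.1) with t | t | t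
  · exact (h.not_jj nsq3 ((isConj_cj_iff g).1 (e ▸ h.sT nsq3 (by simp [mem_H0.1 (Tor_le hk)]) t))).elim
  · rw [h.e3 _ _ t] at e
    refine ⟨e, ?_, gg _ e, ?_⟩
    · rw [map_mul, ← conj_mul, e, g1, ← map_mul]; exact h.e3 _ _
    · rw [h.e3 _ (ws * L4Q.t2 * t0 * L4Q.t2), map_mul, ← conj_mul, gg _ e, g2, ← map_mul]
  · rw [h.e3 _ _ t] at e
    have e1 := gg _ e
    have e2 : g * φ (jj * t0) * g⁻¹ = φ (ws * L4Q.t2 * t0) := by
      rw [map_mul, ← conj_mul, e, g1, ← map_mul]; exact h.e3 _ _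
    have e3 : g * φ (ws * L4Q.t2 * t0) * g⁻¹ = φ (jj * t0) := by
      rw [h.e3 _ (ws * t0 * L4Q.t2), map_mul, ← conj_mul, e1, g2, ← map_mul]
    have e4 : g * φ (jj * ws) * g⁻¹ = φ (ws * L4Q.t2 * t0 * jj) := by
      rw [h.e3 _ (jj * t0 * (ws * t0)), map_mul, ← conj_mul, e1, e2, ← map_mul]
    have v := h.mul h.n1 hg
    refine (h.n3 _ _ (e := by decide +kernel) (sq _ (jj * t0) ?_ (h.cast (h.mul v (h.mul v v)) (by decide)))).elim
    have c : ∀ x y z : G, x * y * z * (x * y)⁻¹ = x * (y * z * y⁻¹) * x⁻¹ := fun x y z => by group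
    simp only [c]
    rw [e, h.j3 _ _ (jj * ws), e4, h.j3 _ _ (ws * L4Q.t2 * t0), e3]; exact h.j3 _ _ _

theorem st1 {g : G} (hg : V g (swap 1 2)) : Commute (φ sa) (g * φ sb * g⁻¹) := by
  obtain ⟨g1, g2⟩ := h.t2 g hg
  obtain ⟨a1, b1, a2, b2⟩ := h.gact hg
  have aa : φ sa * φ sa = 1 := h.sq_iff.2 (by decide +kernel)
  have bb : φ sb * φ sb = 1 := h.sq_iff.2 (by decide +kernel)
  have tt : g * φ sb * g⁻¹ * (g * φ sb * g⁻¹) = 1 := by simp [bb]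
  have c1 := a1 ▸ cj_comm (h.c3 sb jj) g
  have c2 := a2 ▸ cj_comm (h.c3 sb (ws * L4Q.t2 * t0)) g
  have c3 := b1 ▸ cj_comm (h.c3 sb (jj * t0)) g
  have c4 := cj3 (h.j3 sb (ws * t0) (jj * t0 * (ws * t0))) g
  rw [b2, map_mul φ (jj * t0), ← conj_mul, b1, b2, ← map_mul] at c4
  have p : IsConj (φ t0) (g * φ sb * g⁻¹) := (isConj_cj_iff g).2 (h.sT nsq3 rfl (by decide +kernel))
  have k := fun c c0 c2 e => (h.cE3 (c := g⁻¹ * c * g) c0 c2).2.2.1 e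
  generalize hτ : g * φ sb * g⁻¹ = τ at *
  have i : τ * φ sa * τ * φ sa = (φ sa * τ * φ sa * τ)⁻¹ := by
    simp [mul_assoc, inv_eq_of_mul_eq_one_right aa, inv_eq_of_mul_eq_one_right tt]
  have d1 := cm_cm aa c2 (by rwa [h.j3 sa jj jj])
  have d2 := cm_cm aa c1 (by rw [h.j3 sa _ (jj * (ws * L4Q.t2 * t0)), map_mul]; exact c2.mul_right c1)
  have d3 := i ▸ (cm_cm tt (h.c3 sa (jj * t0)) (c4 ▸ h.c3 sa _)).inv_left
  have d4 := i ▸ (cm_cm tt (h.c3 sa (ws * t0)) (by rw [cj_eq c3]; exact h.c3 sa _)).inv_left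
  have e0 := d1.mul_right d3
  have e2 := d2.mul_right d4
  rw [← map_mul, h.e3 (_ * _) t0] at e0
  rw [← map_mul, h.e3 (_ * _) L4Q.t2] at e2
  obtain ⟨⟨f1, -⟩, f2, -⟩ := h.cE3 e0 e2
  have f3 := k (τ * φ sa * τ * φ sa) (by simpa [← g1, mul_assoc] using cj_comm e2 g⁻¹)
    (by simpa [← g2, mul_assoc] using cj_comm e0 g⁻¹) (by
      rw [← isConj_cj_iff g, ← conj_mul, hτ, ← inv_eq_of_mul_eq_one_right f1, i, inv_inv]
      simpa [mul_assoc, tt, inv_eq_of_mul_eq_one_right aa] using (isConj_cj_iff (φ sa)).2 p)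
  have f4 := f2 (by
    simpa [mul_assoc, aa, inv_eq_of_mul_eq_one_right tt] using
      (isConj_cj_iff τ).2 (h.sT nsq3 (k := sa) rfl (by decide +kernel)))
  have f5 : τ * φ sa * τ * φ sa = 1 := f4.elim id fun f4 => f3.elim (fun e => by
    rw [← mul_left_inj g, ← mul_right_inj g⁻¹, ← mul_assoc, e]; simp) fun f3 => by
    rw [f4] at f3
    refine (h.n3 jj (ws * t0) (by decide +kernel) ?_).elim
    rw [← b1, ← f3]; group
  exact (commute_iff_eq _ _).2 (by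
    rw [mul_assoc] at f5
    rw [← inv_eq_of_mul_eq_one_right f5, _root_.mul_inv_rev,
      inv_eq_of_mul_eq_one_right aa, inv_eq_of_mul_eq_one_right tt])

theorem conf : ∃ y b₁ b₂ τ, Cf (φ t0) (φ L4Q.t2) (φ t0) y b₁ b₂ τ := by
  obtain ⟨g, hg⟩ := h.ex (swap 1 2)
  obtain ⟨g1, g2⟩ := h.t2 g hg
  obtain ⟨a1, b1, a2, b2⟩ := h.gact hg
  have aa : φ sa * φ sa = 1 := h.sq_iff.2 (by decide +kernel)
  have pa := h.sT nsq3 (k := sa) rfl (by decide +kernel)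
  have pb := h.sT nsq3 (k := sb) rfl (by decide +kernel)
  obtain ⟨c, c1, c2⟩ : ∃ c, c * φ t0 * c⁻¹ = φ sb ∧ c * φ L4Q.t2 * c⁻¹ = φ sa := by
    rcases h.ty0 nsq3 pb (by_contra fun n => (h.ty1 nsq3 pb (h.c3 sa sb) n aa).1 pa (by
      rw [← map_mul, ← h.j3 sx L4Q.t2 (sa * sb), isConj_cj_iff]; exact h.conj_t2)) aa with e | e | e | e
    exacts [(h.ne_of pa e).elim, (h.n3 sa sb (by decide +kernel) e).elim, e.2.2, (e.1 pa).elim]
  have s1 := h.st1 hg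
  have s2 : Commute (g * φ sa * g⁻¹) (φ sb) := by simpa [mul_assoc] using cj_comm (h.st1 (h.inv hg)) g
  have s3 := cj_comm (h.c3 sa sb) g
  have s4 := b1 ▸ cj_comm (h.c3 sa (jj * t0)) g
  have s5 := b2 ▸ cj_comm (h.c3 sa (ws * t0)) g
  have s6 := a1 ▸ cj_comm (h.c3 sa jj) g
  have s7 := cj3 (h.j3 sa (ws * L4Q.t2 * t0) (jj * (ws * L4Q.t2 * t0))) g
  rw [a2, map_mul φ jj, ← conj_mul, a1, a2, ← map_mul] at s7
  have s8 := cj3 (h.j3 sb (ws * t0) (jj * t0 * (ws * t0))) g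
  rw [b2, map_mul φ (jj * t0), ← conj_mul, b1, b2, ← map_mul] at s8
  have s9 := b1 ▸ cj_comm (h.c3 sb (jj * t0)) g
  have tt : g * φ sa * g⁻¹ * (g * φ sa * g⁻¹) = 1 := by simp [aa]
  generalize g * φ sb * g⁻¹ = τ at *
  generalize g * φ sa * g⁻¹ = σ at *
  have r0 : φ sa * (φ sa * σ) * (φ sa)⁻¹ = (φ sa * σ)⁻¹ := by
    simp [← mul_assoc, aa, inv_eq_of_mul_eq_one_right tt]
  have cj : ∀ x y z : G, x * y * z * (x * y)⁻¹ = x * (y * z * y⁻¹) * x⁻¹ := fun x y z => by group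
  have r1 : φ sa * σ * φ jj * (φ sa * σ)⁻¹ = φ (ws * L4Q.t2 * t0) := by
    rw [cj, s7]; exact h.j3 _ _ _
  have r2 : φ sa * σ * φ (ws * L4Q.t2 * t0) * (φ sa * σ)⁻¹ = φ (jj * (ws * L4Q.t2 * t0)) := by
    rw [cj, cj_eq s6]; exact h.j3 _ _ _
  have r3 : φ sa * σ * φ (jj * (ws * L4Q.t2 * t0)) * (φ sa * σ)⁻¹ = φ jj := by
    rw [map_mul, ← conj_mul, r1, r2, ← map_mul]; exact h.e3 _ _
  have q1 := (h.c3 sa (jj * t0)).mul_left s5
  have q2 := (h.c3 sa (ws * t0)).mul_left s4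
  have q3 := (h.c3 sa sb).mul_left s2
  have q4 := s1.mul_left s3
  generalize φ sa * σ = ρ at *
  have p3 : ∀ x, ρ ^ 3 * x * (ρ ^ 3)⁻¹ = ρ * (ρ * (ρ * x * ρ⁻¹) * ρ⁻¹) * ρ⁻¹ := fun x => by
    simp [pow_succ, mul_assoc]
  have e0 := (comm_of_cj (a := φ jj) (by rw [p3, r1, r2, r3])).mul_right (q1.pow_left 3)
  have e2 := (comm_of_cj (a := φ (ws * L4Q.t2 * t0)) (by rw [p3, r2, r3, r1])).mul_right (q2.pow_left 3)
  rw [← map_mul, h.e3 (_ * _) t0] at e0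
  rw [← map_mul, h.e3 (_ * _) L4Q.t2] at e2
  obtain ⟨⟨f1, -⟩, -, -, f2⟩ := h.cE3 e0 e2
  have n1 : ¬ Commute ρ (φ jj) := fun e => h.n3 jj _ (by decide +kernel) (cj_eq e ▸ r1)
  have y3 : ρ ^ 3 = 1 := by
    rcases f2 (comm_of_cj (by rw [Inv.conj_pow_of_inverts r0, inv_eq_of_mul_eq_one_right f1])).symm
      (q3.pow_left 3) with e | e | e | e
    · exact e
    · exact (n1 (e ▸ Commute.self_pow ρ 3)).elim
    · exact (h.n3 (jj * t0) _ (by decide +kernel) (cj_eq (e ▸ (q4.pow_left 3).symm) ▸ s8)).elim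
    · refine (n1 ?_).elim
      rw [h.e3 jj (t0 * (jj * t0)), map_mul]
      exact (e ▸ Commute.self_pow ρ 3).mul_right q1
  have := Cf.conj (r := φ t0) ⟨y3, fun e => n1 (e ▸ Commute.one_left _), r0, q3, q1, q2, q4,
    h.sq_iff.2 (by decide +kernel), h.sq_iff.2 (by decide +kernel), h.c3 _ _, h.c3 _ _,
    (h.j3 _ _ _).trans (map_mul ..), h.c3 _ _, h.c3 _ _, s1, s9, by rw [s8, ← map_mul]; exact h.e3 _ _,
    h.nty (by decide +kernel), map_mul φ _ sa ▸ h.nty (by decide +kernel)⟩ c⁻¹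
  rw [← c1, ← c2] at this
  exact ⟨_, _, _, _, by simpa only [inv_inv, mul_assoc, inv_mul_cancel_left, inv_mul_cancel, mul_one] using this⟩

end Fr

end Cfsg.Agent.L4Q
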