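import Cfsg.Agent.L4Q.ExF2
import Cfsg.Agent.Loc3.Tools

/-! # The case `q = 3`: root elements -/

set_option autoImplicit false
set_option linter.unusedSectionVars false

namespace Cfsg.Agent.L4Q

open Matrix Cfsg.Agent.RootSub Subgroup Cfsg.Agent.PLocal.Amb Cfsg.Agent.Lyons Equiv

variable {G : Type*} [Group G] [Finite G]

local notation "F3" => ZMod 3

/-- the root elements of `SL₂` -/
def ur {F : Type*} [Field F] (b : Bool) (a : F) : SpecialLinearGroup (Fin 2) F := cond b (xx a) (yy a)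

set_option synthInstance.maxSize 2000 in
theorem tab2 : ∀ (b c d e : Bool) (x y z u : F3), ∀ k ∈ [i1 (ur b x) * i2 (ur c y)],
    ∀ l ∈ [i1 (ur d z) * i2 (ur e u)], Sc (k * l) (l * k) → Sc k 1 ∨ Sc l 1 ∨ Sc l k ∨ Sc (l * k) 1 ∨
      ∃ m ∈ [k, l, l * k], ∃ f, ∃ a ≠ 0, Sc m (i1 (ur f a)) ∨ Sc m (i2 (ur f a)) := by
  decide +kernel

theorem tab3 : ∀ (b : Bool) (a c : F3), a ≠ 0 → ur b c = 1 ∨ ur b c = ur b a ∨ ur b c * ur b a = 1 := by
  decide +kernel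

theorem pow48 {a : M2 F3} (h : a.det ≠ 0) : a ^ 48 = 1 := by
  have := pow_card_eq_one' (x := GeneralLinearGroup.mkOfDetNeZero a h)
  rw [card_GL_field, ZMod.card] at this
  exact (Units.val_pow_eq_pow_val (GeneralLinearGroup.mkOfDetNeZero a h) 48).symm.trans
    (congrArg Units.val this)

theorem rch3 : ringChar F3 = 3 := ZMod.ringChar_zmod_n 3

/-- root elements of the centraliser -/
def Ro (φ : HK F3 →* G) (x : G) : Prop := ∃ f, ∃ a ≠ 0, x = φ (i1 (ur f a)) ∨ x = φ (i2 (ur f a))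

namespace Fr

variable {φ : HK F3 →* G} {V : G → Perm (Fin 4) → Prop} (h : Fr φ V)
include h

theorem cube3 {s u : G} (hs : IsConj (φ t0) s) (c : Commute u s) (o : Odd (orderOf u)) : u ^ 3 = 1 := by
  obtain ⟨g, rfl⟩ := isConj_iff.1 hs
  obtain ⟨k, rfl⟩ := h.cent' c
  rw [orderOf_conj'] at o
  have hs := h.odd_H0 o
  have : φ k ^ (3 * 2 ^ 4) = 1 := by
    rw [← map_pow, show k ^ (3 * 2 ^ 4) = 1 from HK.ext ((pow_ab hs _).1.trans (pow48 k.da))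
      ((pow_ab hs _).2.trans (pow48 k.db)) (pow_mem (mem_H0.2 hs) _), map_one]
  rw [conj_pow, orderOf_dvd_iff_pow_eq_one.1 ((o.coprime_two_right.pow_right 4).dvd_of_dvd_mul_right
    (orderOf_dvd_of_pow_eq_one this))]
  simp

theorem u1 (f : Bool) (a : F3) : φ (i1 (ur f a)) ∈ rt φ V (cond f 0 1) (cond f 1 0) := by
  cases f
  exacts [h.r10.2 ⟨a, rfl⟩, h.r01.2 ⟨a, rfl⟩]

theorem u2 (f : Bool) (a : F3) : φ (i2 (ur f a)) ∈ rt φ V (cond f 2 3) (cond f 3 2) := by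
  cases f
  exacts [h.r32.2 ⟨a, rfl⟩, h.r23.2 ⟨a, rfl⟩]

theorem pel3 {e : G} (hp : e ^ 3 = 1) (c : Commute e (φ t0)) (i : φ L4Q.t2 * e * (φ L4Q.t2)⁻¹ = e⁻¹) :
    ∃ b c x y, e = φ (i1 (ur b x) * i2 (ur c y)) := by
  obtain ⟨x, y, a, b, rfl⟩ := h.pel_inv (rch3.symm ▸ hp) c i
  simp only [h.r01, h.r10, h.r23, h.r32] at a b
  obtain ⟨f, x, rfl⟩ : ∃ f a, φ (i1 (ur f a)) = x := a.elim (⟨true, ·⟩) (⟨false, ·⟩)
  obtain ⟨g, y, rfl⟩ : ∃ f a, φ (i2 (ur f a)) = y := b.elim (⟨true, ·⟩) (⟨false, ·⟩)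
  exact ⟨f, g, x, y, (map_mul ..).symm⟩

theorem two3 {O : Subgroup G} {e e' : G} (m : e ∈ O) (m' : e' ∈ O) (p : e ^ 3 = 1) (p' : e' ^ 3 = 1)
    (c : Commute e (φ t0)) (c' : Commute e' (φ t0)) (i : φ L4Q.t2 * e * (φ L4Q.t2)⁻¹ = e⁻¹)
    (i' : φ L4Q.t2 * e' * (φ L4Q.t2)⁻¹ = e'⁻¹) (cm : Commute e e') (n : e ≠ 1) (n' : e' ≠ 1)
    (n1 : e' ≠ e) (n2 : e' * e ≠ 1) : ∃ x ∈ O, Ro φ x := by
  obtain ⟨b, g, x, y, rfl⟩ := h.pel3 p c i
  obtain ⟨d, f, z, u, rfl⟩ := h.pel3 p' c' i'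
  have := tab2 b g d f x y z u _ (List.mem_singleton_self _) _ (List.mem_singleton_self _) (h.comm_iff.1 cm)
  simp only [← h.eq, map_one, n, n', n1, map_mul φ (i1 (ur d z) * _), n2, false_or] at this
  obtain ⟨k, hk, e⟩ := this
  refine ⟨φ k, ?_, e⟩
  simp only [List.mem_cons, List.not_mem_nil, or_false] at hk
  rcases hk with rfl | rfl | rfl
  exacts [m, m', map_mul φ _ _ ▸ mul_mem m' m]

theorem ro_H0 {x b : G} (r : Ro φ x) (c : Commute b (φ t0)) (c' : Commute b x) : b ∈ loc φ H0 (φ t0) := by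
  obtain ⟨k, rfl⟩ := h.cent b c
  obtain ⟨f, a, a0, e⟩ := r
  have n : ¬ Scal (ur f a).1 := by cases f <;> simp [ur, scal_iff, a0]
  refine h.H0_t (e.elim (fun e => (h.comm_i1 (e ▸ c') n).1) fun e => ?_)
  have := (h.comm_i1 (k := ws⁻¹ * k * ws) (by
    simpa [e, ← ws_i1, mul_assoc] using cj_comm c' (φ ws)⁻¹) n).1
  simpa using this

theorem ro_rt {x : G} (r : Ro φ x) : x ≠ 1 ∧ ∃ a b, (a ≠ b ∧ Bl a b) ∧ x ∈ rt φ V a b := by
  obtain ⟨f, a, a0, e⟩ := r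
  have n : φ (i1 (ur f a)) ≠ 1 := fun e => by
    have := congrArg Subtype.val (h.i1_inj e)
    cases f <;> simp [ur, mm, a0] at this
  rcases e with rfl | rfl
  · exact ⟨n, _, _, by cases f <;> decide, h.u1 f a⟩
  · exact ⟨by simpa [← ws_i1] using n, _, _, by cases f <;> decide, h.u2 f a⟩

theorem rc3 {a b : Fin 4} (ab : ¬ Bl a b) {x : G} (hx : x ∈ rt φ V a b) (x1 : x ≠ 1) {f g : Bool}
    {u v : F3} (u0 : u ≠ 0) (v0 : v ≠ 0) (c1 : Commute x (φ (i1 (ur f u))))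
    (c2 : Commute x (φ (i2 (ur g v)))) : RC φ V := by
  have e : a ≠ b := by rintro rfl; exact ab rfl
  have k : ∀ (κ : _ →* G) (f : Bool) (u w : F3), u ≠ 0 → Commute x (κ (ur f u)) → Commute x (κ (ur f w)) :=
    fun κ f u w u0 c => by
      rcases tab3 f u w u0 with e | e | e
      · simp [e]
      · rwa [e]
      · simpa [eq_inv_of_mul_eq_one_left e] using c
  have d1 : Cm φ V a b (cond f 0 1) (cond f 1 0) := h.cm_of e hx x1 fun y hy => by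
    obtain ⟨w, rfl⟩ : ∃ w, φ (i1 (ur f w)) = y := by
      cases f
      exacts [h.r10.1 hy, h.r01.1 hy]
    exact k (φ.comp i1) f u w u0 c1
  have d2 : Cm φ V a b (cond g 2 3) (cond g 3 2) := h.cm_of e hx x1 fun y hy => by
    obtain ⟨w, rfl⟩ : ∃ w, φ (i2 (ur g w)) = y := by
      cases g
      exacts [h.r32.1 hy, h.r23.1 hy]
    exact k (φ.comp i2) g v w v0 c2
  obtain ⟨π, p0, p1, p2, p3, p⟩ : ∃ π : Perm (Fin 4), π (cond f 0 1) = 0 ∧ π (cond f 1 0) = 1 ∧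
      π (cond g 2 3) = 2 ∧ π (cond g 3 2) = 3 ∧ ¬ Bl (π a) (π b) := by
    revert ab; generalize a = a; generalize b = b; revert a b; cases f <;> cases g <;> decide
  exact h.rc p (by simpa only [p0, p1] using h.cm_perm π d1) (by simpa only [p2, p3] using h.cm_perm π d2)

end Fr

end Cfsg.Agent.L4Q
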