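import Cfsg.Agent.L4Q.Tor
import Cfsg.Agent.KSG.SymCoxeter

/-! # The Weyl group -/

set_option autoImplicit false
set_option linter.unusedSectionVars false

namespace Cfsg.Agent.L4Q

open Matrix Cfsg.Agent.RootSub Subgroup Cfsg.Agent.PLocal.Amb Cfsg.Agent.Lyons Equiv

variable {F : Type*} [Field F] {G : Type*} [Group G] [Finite G]

local notation "SL2" => Matrix.SpecialLinearGroup (Fin 2) F

/-- `V g π`: the element `g` normalises the torus and induces `π`. -/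
structure Fr (φ : HK F →* G) (V : G → Perm (Fin 4) → Prop) : Prop extends Su φ where
  mul : ∀ {a b π σ}, V a π → V b σ → V (a * b) (π * σ)
  ex : ∀ π, ∃ g, V g π
  tor : ∀ g, V g 1 ↔ g ∈ Tor.map φ
  n1 : V (φ (i1 jS)) (swap 0 1)
  n2 : V (φ (i2 jS)) (swap 2 3)
  w : V (φ ws) (swap 0 2 * swap 1 3)
  t2 : ∀ g, V g (swap 1 2) → g * φ t0 * g⁻¹ = φ t2 ∧ g * φ t2 * g⁻¹ = φ t0
  wt : IsConj (φ t0) (φ ws)

namespace Su

variable {φ : HK F →* G} (h : Su φ) [Finite F]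
include h

theorem twist {Q : Subgroup (HK F)} (hQ : Sat Q) (h0 : t0 ∈ Q) (hm : ∀ x y, x ∉ Q → y ∉ Q → x * y ∈ Q) :
    ∃ ψ : HK F →* G, Su ψ ∧ (∀ k ∈ Q, ψ k = φ k) ∧ (∀ k ∉ Q, ψ k = φ k * φ t0) ∧
      loc ψ H0 = loc φ H0 := by
  classical
  let ψ : HK F →* G := MonoidHom.mk' (fun k => if k ∈ Q then φ k else φ k * φ t0) fun x y => by
    by_cases hx : x ∈ Q <;> by_cases hy : y ∈ Q
    · simp [hx, hy, mul_mem]
    · simp [hx, hy, mul_mem_cancel_left, mul_assoc]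
    · simp [hx, hy, mul_mem_cancel_right, mul_assoc, (h.comm y).eq]
    · simp only [hx, hy, hm x y hx hy, map_mul, if_true, if_false, mul_assoc]
      rw [(h.comm y).eq, ← mul_assoc (φ t0), h.tt, one_mul]
  have e1 : ∀ k ∈ Q, ψ k = φ k := fun k hk => if_pos hk
  have e2 : ∀ k ∉ Q, ψ k = φ k * φ t0 := fun k hk => if_neg hk
  have e3 : ∀ k, ∃ k', k'.s = k.s ∧ ψ k' = φ k := fun k => by
    by_cases hk : k ∈ Q
    · exact ⟨k, rfl, e1 k hk⟩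
    · exact ⟨k * t0, by simp, by rw [map_mul, e2 k hk, e1 _ h0, mul_assoc, h.tt, mul_one]⟩
  have sy : ∀ x y, Sc x y → Sc y x := fun x y e => (h.eq _ _).1 ((h.eq _ _).2 e).symm
  refine ⟨ψ, ⟨h.two, fun x y => ?_, fun g hg => ?_, h.no2⟩, e1, e2, ?_⟩
  · by_cases hx : x ∈ Q <;> by_cases hy : y ∈ Q
    · rw [e1 x hx, e1 y hy, h.eq]
    · rw [e1 x hx, e2 y hy, ← map_mul, h.eq]
      exact iff_of_false (fun e => hy ((mul_mem_cancel_right h0).1 (hQ _ _ (sy _ _ e) hx)))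
        fun e => hy (hQ _ _ (sy _ _ e) hx)
    · rw [e2 x hx, e1 y hy, ← map_mul, h.eq]
      exact iff_of_false (fun e => hx ((mul_mem_cancel_right h0).1 (hQ _ _ e hy)))
        fun e => hx (hQ _ _ e hy)
    · rw [e2 x hx, e2 y hy, mul_left_inj, h.eq]
  · obtain ⟨k, rfl⟩ := h.cent g (e1 _ h0 ▸ hg)
    exact (e3 k).imp fun _ e => e.2
  · have : H0.map ψ = H0.map φ := by
      refine le_antisymm ?_ ?_ <;> rintro _ ⟨k, hk, rfl⟩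
      · by_cases a : k ∈ Q
        · exact ⟨k, hk, (e1 k a).symm⟩
        · exact ⟨k * t0, mul_mem hk rfl, by rw [e2 k a, map_mul]⟩
      · obtain ⟨k', a, b⟩ := e3 k
        exact ⟨k', a.trans hk, b⟩
    funext s; ext x
    change (∀ g, _ → _) ↔ ∀ g, _ → _
    rw [e1 _ h0, this]

theorem cE {x : G} (c0 : Commute x (φ t0)) (c2 : Commute x (φ t2)) : ∃ k, φ k = x ∧
    (k ∈ Tor ∨ jj * k ∈ Tor ∨ ws * k ∈ Tor ∨ jj * ws * k ∈ Tor) := by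
  obtain ⟨k, rfl⟩ := h.cent x c0
  exact ⟨k, rfl, (cent_t2 h.two (h.comm_iff.1 c2)).1⟩

theorem not_both (a : φ jj ∈ loc φ H0 (φ t2)) : φ ws ∉ loc φ H0 (φ t2) := fun b => by
  obtain ⟨g, g1, g2⟩ := h.exists_g
  obtain ⟨k, e, hk⟩ := h.cE (g2 ▸ cj_comm h.ws_c2 g) (g1 ▸ cj_comm (h.comm ws) g)
  refine h.notH (k := ws) rfl ((loc_conj_iff g).1 ?_)
  rw [← e, g1]
  rcases hk with e | e | e | e <;> have := h.tor_H2 e
  · exact this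
  all_goals simp only [map_mul] at this
  exacts [(iff_loc this).1 a, (iff_loc this).1 b, (iff_loc this).1 (mul_mem a b)]

theorem ws_H2 (h1 : IsSquare (-1 : F)) : φ ws ∈ loc φ H0 (φ t2) := by
  obtain ⟨i, hi⟩ := h1
  have hT : dg i 1 1 (-i) (by grind) ∈ Tor := ⟨_, _, _, _, _, rfl⟩
  refine (iff_loc (y := φ (dg i 1 1 (-i) (by grind))) (h.root_loc h.conj_t2 ?_)).2 (h.tor_H2 hT)
  rw [← map_mul, ← map_mul, h.eq]
  exact ⟨i, by simp [mm]⟩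

theorem jj_H2 : φ jj ∉ loc φ H0 (φ t2) := fun a => by
  by_cases h1 : IsSquare (-1 : F)
  · exact h.not_both a (h.ws_H2 h1)
  have tt : φ t2 * φ t2 = 1 := h.sq_of h.conj_t2
  obtain ⟨c, -, e⟩ := conj_of_sq h.two (k := jj * t2) (k' := t2) (m := 1) rfl rfl (by simp [mm])
    (by simp [mm]) (by simp [rm_rm]) (by simp [rm_rm]) (by simp [mm, scal_iff])
    (by simp [mm, scal_iff]) (not_scal_rm h.two) (not_scal_rm h.two)
  have c1 := h.conj_t2.trans (map_mul φ _ _ ▸ conj_of e).symm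
  rcases h.cls h.conj_t2 (mul_mem a (loc_mono LL_le _ (h.self_loc h.conj_t2))) (h.sq_of c1) with
    e | e | ⟨g, g1, e | e⟩
  · exact e.1 c1
  · obtain ⟨l, e, -⟩ := h.one_iff.1 (mul_eq_right.1 e)
    exact not_scal_jm ⟨l, e⟩
  · exact h.not_jj h1 (c1.trans (isConj_iff.2 ⟨g, e⟩).symm)
  · refine h.not_jj h1 (h.conj_t3.trans (isConj_iff.2 ⟨g, ?_⟩))
    rw [← conj_mul, e, g1, mul_assoc, tt, mul_one]

theorem ws_cls (hw : φ ws ∈ loc φ H0 (φ t2)) :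
    IsConj (φ t0) (φ ws) ∨ IsConj (φ jj) (φ ws) ∧ IsConj (φ t0) (φ ws * φ t0) := by
  obtain ⟨g, g1, g2⟩ := h.exists_g
  obtain ⟨k, e, hk⟩ := h.cE (g2 ▸ cj_comm h.ws_c2 g) (g1 ▸ cj_comm (h.comm ws) g)
  have a0 : k.s = false := (h.loc_t sat_H0).1 (e ▸ g2 ▸ loc_conj hw g)
  have a2 : φ k ∉ loc φ H0 (φ t2) := by rw [e, ← g1, loc_conj_iff]; exact h.notH rfl
  have hk : jj * k ∈ Tor := by
    rcases hk with e | e | e | e
    exacts [(a2 (h.tor_H2 e)).elim, e, by simpa [a0] using mem_H0.1 (Tor_le e),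
      by simpa [a0] using mem_H0.1 (Tor_le e)]
  have c := e ▸ isConj_cj g (φ ws)
  obtain ⟨d, e1 | ⟨e1, d, e2⟩⟩ := jt_t2 h.two hk (h.sq_iff.1 (by
    rw [e, conj_mul, ← map_mul, ws_ws]; simp))
  · exact Or.inl (h.conj_t2.trans ((conj_of e1).symm.trans c.symm))
  · refine Or.inr ⟨(conj_of e1).symm.trans c.symm, h.conj_t2.trans ((conj_of e2).symm.trans ?_)⟩
    rw [map_mul, e, ← g1, conj_mul]; exact (isConj_cj _ _).symm

theorem exists_good : ∃ ψ : HK F →* G, Su ψ ∧ ψ ws ∈ loc ψ H0 (ψ t2) ∧ IsConj (ψ t0) (ψ ws) := by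
  obtain ⟨ψ, h1, h2⟩ : ∃ ψ : HK F →* G, Su ψ ∧ ψ ws ∈ loc ψ H0 (ψ t2) := by
    by_cases a : φ ws ∈ loc φ H0 (φ t2)
    · exact ⟨φ, h, a⟩
    have b := loc_conj (h.mul_loc h.conj_t2 h.jj_c2 h.ws_c2 h.jj_H2 a) (φ (i1 jS))
    rw [h.n1_t2, ← map_mul φ jj, ← map_inv, ← map_mul φ (i1 _), ← map_mul φ (_ * _), n1_jw, map_mul,
      map_mul φ t0, h.i2_neg, h.tt, mul_one, map_mul] at b
    obtain ⟨ψ, h1, e1, e2, e3⟩ := h.twist (sat_Dl (he := one_ne_zero)) (LL_Dl (i1_LL (-1)))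
      fun x y hx hy => by
        simp only [mem_Dl, Bool.cond_self, mul_one, HK.mul_a, det_mul] at *
        refine (sq_mul x.da (by cases x.s; exacts [y.da, y.db])).2 (iff_of_false hx ?_)
        cases x.s
        · exact hy
        · exact fun e => hy (((sq_mul y.da y.db).1 (y.h ▸ IsSquare.one)).2 e)
    refine ⟨ψ, h1, ?_⟩
    rw [e3, e1 ws (by simp [mem_Dl]), e2 t2 (by simpa [mem_Dl, det_rm] using mt h.ws_H2 a)]
    exact (iff_loc b).2 h.t_H3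
  rcases h1.ws_cls h2 with a | ⟨-, a⟩
  · exact ⟨ψ, h1, h2, a⟩
  · obtain ⟨χ, h3, e1, e2, e3⟩ := h1.twist sat_H0 rfl fun x y hx hy => by simp_all [mem_H0]
    refine ⟨χ, h3, ?_⟩
    rw [e3, e1 t2 rfl, e1 t0 rfl, e2 ws (by simp [mem_H0])]
    exact ⟨mul_mem h2 h1.t_H2, a⟩

theorem tor_of {x : G} (a0 : x ∈ loc φ H0 (φ t0)) (a2 : x ∈ loc φ H0 (φ t2)) : x ∈ Tor.map φ := by
  obtain ⟨k, rfl, hk⟩ := h.cE (h.comm_of_loc (IsConj.refl _) a0) (h.comm_of_loc h.conj_t2 a2)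
  have a0 : k.s = false := (h.loc_t sat_H0).1 a0
  rcases hk with e | e | e | e
  exacts [⟨k, e, rfl⟩, (h.jj_H2 ((iff_loc (map_mul φ _ _ ▸ h.tor_H2 e)).2 a2)).elim,
    by simpa [a0] using mem_H0.1 (Tor_le e), by simpa [a0] using mem_H0.1 (Tor_le e)]

theorem tor_H3 {k : HK F} (hk : k ∈ Tor) : φ k ∈ loc φ H0 (φ t2 * φ t0) := by
  have := loc_conj (h.tor_H2 (n1_tor (n1_tor (n1_tor hk)))) (φ (i1 jS))
  rw [h.n1_t2] at this
  convert this using 1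
  have := h.jS_four
  simp only [map_mul, map_inv]
  rw [show ∀ x y : G, x * (x * (x * (x * y * x⁻¹) * x⁻¹) * x⁻¹) * x⁻¹ = x ^ 2 ^ 2 * y * (x ^ 2 ^ 2)⁻¹ from
    fun x y => by simp [pow_succ, mul_assoc], this]
  simp

theorem n2_t2 : φ (i2 jS) * φ t2 * (φ (i2 jS))⁻¹ = φ t2 * φ t0 := by
  rw [← map_inv, ← map_mul, ← map_mul, ← h.i2_neg, ← map_mul]
  exact congrArg φ (mul_inv_eq_iff_eq_mul.2 (by ext1 <;> simp [rm_jm]))

theorem cube (hw : φ ws ∈ loc φ H0 (φ t2)) {ρ : G} (a : ρ * φ t2 * ρ⁻¹ = φ t0)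
    (b : ρ * φ t0 * ρ⁻¹ = φ t2 * φ t0) : ρ ^ 3 ∈ Tor.map φ := by
  have c : ρ * (φ t2 * φ t0) * ρ⁻¹ = φ t2 := by
    rw [← conj_mul, a, b, (h.comm t2).eq, ← mul_assoc, h.tt, one_mul]
  have e : ∀ s, ρ ^ 3 * s * (ρ ^ 3)⁻¹ = ρ * (ρ * (ρ * s * ρ⁻¹) * ρ⁻¹) * ρ⁻¹ := fun s => by
    simp [pow_succ, mul_assoc]
  have i : ∀ s, ρ ^ 3 ∈ loc φ H0 (ρ * s * ρ⁻¹) ↔ ρ ^ 3 ∈ loc φ H0 s := fun s => by
    rw [← loc_conj_iff (s := s) ρ, cj_eq (Commute.self_pow ρ 3)]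
  have i1 := i (φ t2)
  have i2 := i (φ t0)
  rw [a] at i1
  rw [b] at i2
  have : ρ ^ 3 ∈ loc φ H0 (φ t0) := by
    obtain ⟨k, e1, hk⟩ := h.cE (x := ρ ^ 3) (comm_of_cj (by rw [e, b, c, a])) (comm_of_cj (by rw [e, a, b, c]))
    rw [← e1] at i1 i2 ⊢
    rcases hk with e | e | e | e
    · exact h.H0_t (Tor_le e)
    · exact h.H0_t (by simpa using mem_H0.1 (Tor_le e))
    · exact i1.2 ((iff_loc (map_mul φ _ _ ▸ h.tor_H2 e)).1 hw)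
    · refine i2.1 ((iff_loc (map_mul φ _ _ ▸ h.tor_H3 e)).1 ((iff_loc ?_).2 h.t_H3))
      have := loc_conj hw (φ (L4Q.i1 jS))
      rwa [h.n1_t2, ← map_inv, ← map_mul φ (L4Q.i1 _), ← map_mul φ (_ * _), show L4Q.i1 jS * ws *
        (L4Q.i1 jS)⁻¹ = jj * ws * t0 from mul_inv_eq_iff_eq_mul.2 (by ext1 <;> simp [mm]),
        map_mul φ _ t0] at this
  exact h.tor_of this (i1.1 this)

theorem exists_fr (hw : φ ws ∈ loc φ H0 (φ t2)) (ht : IsConj (φ t0) (φ ws)) : ∃ V, Fr φ V := by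
  have nJ : ∀ g, g * φ t2 * g⁻¹ = φ t0 → g * φ jj * g⁻¹ ∉ loc φ H0 (φ t0) := fun g e => by
    rw [← e, loc_conj_iff]; exact h.jj_H2
  obtain ⟨g, g1, g2, g3⟩ : ∃ g, g * φ t0 * g⁻¹ = φ t2 ∧ g * φ t2 * g⁻¹ = φ t0 ∧
      g * g ∈ loc φ H0 (φ t0) := by
    obtain ⟨g, g1, g2⟩ := h.exists_g
    by_cases a : g * g ∈ loc φ H0 (φ t0)
    · exact ⟨g, g1, g2, a⟩
    refine ⟨g * φ jj, ?_, ?_, ?_⟩
    · rw [← g1]; conv_rhs => rw [← cj_eq (h.comm jj)]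
      group
    · rw [← g2]; conv_rhs => rw [← cj_eq h.jj_c2]
      group
    · convert mul_mem (h.mul_loc (IsConj.refl _) (g2 ▸ cj_comm h.jj_c2 g) (comm_of_cj ?_) (nJ g g2) a)
        (h.H0_t jj_s) using 1
      · group
      · conv_rhs => rw [← g2, ← g1]
        group
  have g4 : g * g ∈ Tor.map φ := h.tor_of g3 (by simpa [g1, mul_assoc] using loc_conj g3 g)
  let N := 𝐍[Tor.map φ]
  have nr : ∀ k, (∀ x ∈ Tor, k * x * k⁻¹ ∈ Tor) → φ k ∈ N := fun k hk =>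
    mem_normalizer_of_cj_le (cj_le_iff_forall.2 (by
      rintro _ ⟨x, hx, rfl⟩; exact ⟨_, hk x hx, by simp⟩))
  have m1 := nr _ fun _ => n1_tor
  have m3 := nr _ fun _ => n2_tor
  have m2 : g ∈ N := mem_normalizer_of_cj_le (cj_le_iff_forall.2 (by
    rintro _ ⟨x, hx, rfl⟩
    exact h.tor_of (g2 ▸ loc_conj (h.tor_H2 hx) g) (g1 ▸ loc_conj (h.H0_t (Tor_le hx)) g)))
  let π := QuotientGroup.mk' ((Tor.map φ).subgroupOf N)
  have π1 : ∀ x : N, π x = 1 ↔ x.1 ∈ Tor.map φ := fun x => QuotientGroup.eq_one_iff x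
  have q1 : π ⟨_, m1⟩ * π ⟨_, m1⟩ = 1 := by
    rw [← map_mul, π1]; exact ⟨t0, t0_Tor, by
      simp only [coe_mul, ← map_mul]; congr 1; ext1 <;> simp [jm_jm]⟩
  have q2 : π ⟨_, m2⟩ * π ⟨_, m2⟩ = 1 := by rw [← map_mul, π1]; exact g4
  have q3 : π ⟨_, m3⟩ * π ⟨_, m3⟩ = 1 := by
    rw [← map_mul, π1]; exact ⟨t0, t0_Tor, by
      simp only [coe_mul, ← map_mul, ← h.i2_neg]; congr 1; ext1 <;> simp [jm_jm]⟩
  have br : ∀ (k : HK F) (m : φ k ∈ N), π ⟨_, m⟩ * π ⟨_, m⟩ = 1 → φ k * φ t2 * (φ k)⁻¹ = φ t2 * φ t0 →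
      π ⟨_, m⟩ * π ⟨_, m2⟩ * π ⟨_, m⟩ = π ⟨_, m2⟩ * π ⟨_, m⟩ * π ⟨_, m2⟩ := fun k m q e => by
    have : (π ⟨_, m⟩ * π ⟨_, m2⟩) ^ 3 = 1 := by
      rw [← map_mul, ← map_pow, π1]
      refine h.cube hw (ρ := φ k * g) ?_ ?_
      · rw [← cj_eq (h.comm k), ← g2]; group
      · rw [← e, ← g1]; group
    generalize π ⟨_, m⟩ = a at *
    generalize π ⟨_, m2⟩ = b at *
    calc a * b * a = (a * b) ^ 3 * (b⁻¹ * a⁻¹ * b⁻¹) := by simp only [pow_succ]; group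
      _ = _ := by rw [this, inv_eq_of_mul_eq_one_right q, inv_eq_of_mul_eq_one_right q2, one_mul]
  obtain ⟨θ, hθ⟩ := KSG.exists_hom_perm_of_rels (n := 3) ![π ⟨_, m1⟩, π ⟨_, m2⟩, π ⟨_, m3⟩]
    (fun i => by fin_cases i <;> assumption)
    (fun i j hij => by
      fin_cases i <;> fin_cases j <;> simp at hij
      exact Commute.map (Subtype.ext ((i_comm jS jS).map φ).eq : Commute (⟨_, m1⟩ : N) ⟨_, m3⟩) π)
    fun i j hij => by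
      fin_cases i <;> fin_cases j <;> simp at hij
      exacts [br _ m1 q1 h.n1_t2, (br _ m3 q3 h.n2_t2).symm]
  have θ1 : θ (swap 0 1) = π ⟨_, m1⟩ := hθ 0
  have θ2 : θ (swap 1 2) = π ⟨_, m2⟩ := hθ 1
  have θ3 : θ (swap 2 3) = π ⟨_, m3⟩ := hθ 2
  refine ⟨fun x σ => ∃ hx : x ∈ N, π ⟨x, hx⟩ = θ σ, h, ?_, fun σ => ?_, fun x => ?_, ⟨m1, θ1.symm⟩,
    ⟨m3, θ3.symm⟩, ?_, ?_, ht⟩
  · rintro a b _ _ ⟨ha, e1⟩ ⟨hb, e2⟩
    exact ⟨mul_mem ha hb, by rw [map_mul, ← e1, ← e2, ← map_mul]; rfl⟩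
  · obtain ⟨x, hx⟩ := QuotientGroup.mk'_surjective _ (θ σ)
    exact ⟨x, x.2, hx⟩
  · rw [map_one]
    exact ⟨fun ⟨_, e⟩ => (π1 _).1 e, fun e => ⟨le_normalizer e, (π1 _).2 e⟩⟩
  · have mw := nr ws (by
      rintro _ ⟨a, b, c, d, e, rfl⟩
      exact ⟨c, d, a, b, by grind, mul_inv_eq_iff_eq_mul.2 (by ext1 <;> simp)⟩)
    refine ⟨mw, ?_⟩
    rw [show swap (0 : Fin 4) 2 * swap 1 3 = swap 1 2 * swap 0 1 * swap 2 3 * (swap 1 2)⁻¹ by decide]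
    simp only [map_mul, map_inv, θ1, θ2, θ3]
    rw [← mul_inv_eq_one]
    simp only [← map_inv, ← map_mul, π1]
    change φ ws * (g * φ (i1 jS) * φ (i2 jS) * g⁻¹)⁻¹ ∈ _
    rw [mul_assoc g, ← map_mul, ← jj_eq]
    exact h.tor_of (h.mul_loc (IsConj.refl _) (h.comm _) (g2 ▸ cj_comm h.jj_c2 g).inv_left (h.notH rfl)
      (mt inv_mem_iff.1 (nJ g g2))) (mul_mem hw (inv_mem (g1 ▸ loc_conj (h.H0_t jj_s) g)))
  · rintro x ⟨hx, e⟩
    rw [θ2, ← inv_mul_eq_one, ← map_inv, ← map_mul, π1] at e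
    obtain ⟨k, hk, e⟩ := e
    have e : g = x * φ k := by rw [e]; simp
    have c : ∀ s, Commute (φ k) s → x * s * x⁻¹ = g * s * g⁻¹ := fun s hs => by
      rw [e]; conv_lhs => rw [← cj_eq hs]
      group
    exact ⟨(c _ (h.comm k)).trans g1, (c _ (h.c2 hk)).trans g2⟩

end Su

end Cfsg.Agent.L4Q
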