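import Cfsg.Agent.L4Q.Mat
import Cfsg.Agent.Inv.Isolated

/-! # Canonical subgroups of the centralisers of the conjugates of `t` -/

set_option autoImplicit false
set_option linter.unusedSectionVars false

namespace Cfsg.Agent.L4Q

open Matrix Cfsg.Agent.RootSub Subgroup

variable {F : Type*} [Field F]

local notation "SL2" => Matrix.SpecialLinearGroup (Fin 2) F

theorem not_scal_jm : ¬ Scal (jm : M2 F) := by simp [mm, scal_iff]
theorem not_scal_rm (h2 : (2 : F) ≠ 0) : ¬ Scal (rm : M2 F) := by simp only [mm, scal_iff]; grind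
theorem Scal.neg {a : M2 F} (h : Scal (-a)) : Scal a := by
  obtain ⟨c, h⟩ := h; exact ⟨-c, by rw [neg_smul, ← h, neg_neg]⟩

theorem conj_of_sq [Finite F] (h2 : (2 : F) ≠ 0) {k k' : HK F} {m : F} (hs : k.s = false)
    (hs' : k'.s = false) (ha : k.a * k.a = m • 1) (hb : k.b * k.b = m • 1)
    (ha' : k'.a * k'.a = m • 1) (hb' : k'.b * k'.b = m • 1) (na : ¬ Scal k.a) (nb : ¬ Scal k.b)
    (na' : ¬ Scal k'.a) (nb' : ¬ Scal k'.b) : ∃ c ∈ LL, c * k * c⁻¹ = k' := by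
  have hm : m ≠ 0 := fun e => k.da (by rw [det_of_sq ha na, e, neg_zero])
  obtain ⟨P, hP⟩ := exists_conj h2 hm ha na ha' na'
  obtain ⟨Q, hQ⟩ := exists_conj h2 hm hb nb hb' nb'
  exact ⟨i1 P * i2 Q, mul_mem (i1_LL _) (i2_LL _), mul_inv_eq_iff_eq_mul.2 (by
    ext1 <;> simp [hs, hs', hP, hQ])⟩

theorem inv_H0 [Finite F] (h2 : (2 : F) ≠ 0) {k : HK F} (hs : k.s = false) (h : Sc (k * k) 1) :
    Scal k.a ∨ Scal k.b ∨ ∃ c ∈ LL, c * k * c⁻¹ = jj ∨ c * k * c⁻¹ = t2 := by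
  obtain ⟨m, ha, hb, -⟩ := h
  simp only [HK.mul_a, HK.mul_b, hs, cond, HK.one_a, HK.one_b] at ha hb
  refine or_iff_not_imp_left.2 fun na => or_iff_not_imp_left.2 fun nb => ?_
  have := k.h
  rw [det_of_sq ha na, det_of_sq hb nb] at this
  obtain rfl | rfl : m = -1 ∨ m = 1 := by grind
  · obtain ⟨c, h1, h3⟩ := conj_of_sq h2 hs jj_s ha hb (by simp [jm_jm]) (by simp [jm_jm]) na nb
      not_scal_jm not_scal_jm
    exact ⟨c, h1, Or.inl h3⟩
  · obtain ⟨c, h1, h3⟩ := conj_of_sq h2 hs t2_s ha hb (by simp [rm_rm]) (by simp [rm_rm]) na nb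
      (not_scal_rm h2) (not_scal_rm h2)
    exact ⟨c, h1, Or.inr h3⟩

theorem sc_of_scal (h2 : (2 : F) ≠ 0) {k : HK F} (hk : k ∈ LL) (h : Sc (k * k) 1)
    (hs : Scal k.a ∨ Scal k.b) : Sc k 1 ∨ Sc k t0 := by
  obtain ⟨m, ha, hb, -⟩ := h
  obtain ⟨s0, l, h1, h3⟩ := hk
  have h4 := k.h
  rcases k with ⟨a, b, s, h5⟩
  obtain ⟨p, q, r, u, rfl⟩ := ent a
  obtain ⟨x, y, z, v, rfl⟩ := ent b
  subst s0
  simp only [HK.mul_a, HK.mul_b, cond, HK.one_a, HK.one_b, mm, scal_iff] at *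
  have : (q = 0 ∧ r = 0 ∧ p = u) ∧ (y = 0 ∧ z = 0 ∧ x = v) := by
    have : l ^ 2 = 1 ∨ l ^ 2 = -1 := by grind
    grind
  have : p = x ∨ p = -x := by grind
  rcases this with e | e
  · exact Or.inl ⟨x, by simp only [HK.one_a, HK.one_b, HK.one_s, mm]; grind⟩
  · exact Or.inr ⟨x, by simp only [t0_a, t0_b, t0_s, mm]; grind⟩

theorem jj_conj [Finite F] (h2 : (2 : F) ≠ 0) : ∃ c ∈ LL, c * (jj * t0) * c⁻¹ = (jj : HK F) :=
  conj_of_sq h2 (m := -1) rfl rfl (by simp [jm_jm]) (by simp [jm_jm]) (by simp [jm_jm])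
    (by simp [jm_jm]) (by simpa using mt Scal.neg not_scal_jm) (by simpa using not_scal_jm)
    not_scal_jm not_scal_jm

theorem t2_conj : i1 jS * t2 * (i1 jS)⁻¹ = (t2 * t0 : HK F) :=
  mul_inv_eq_iff_eq_mul.2 (by ext1 <;> simp [rm_jm])

theorem swap_i1 {k : HK F} (hk : k.s = true) (X : SL2) : ∃ Y, k * i1 X * k⁻¹ = i2 Y := by
  have := k.h
  obtain ⟨Y, hY⟩ := exists_sl (a := k.b * X.1 * (k.a.det • adj k.b)) (by
    simp only [det_mul, det_smul2, det_adj, X.2]; grind)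
  exact ⟨Y, mul_inv_eq_iff_eq_mul.2 (by
    ext1 <;> simp [hk, hY, mul_assoc, adj_mul, smul_smul, this])⟩

theorem ws_i1 (X : SL2) : ws * i1 X * ws⁻¹ = i2 X := mul_inv_eq_iff_eq_mul.2 (by ext1 <;> simp)
theorem ws_ws : (ws * ws : HK F) = 1 := by ext1 <;> simp
theorem t2_t2 : (t2 * t2 : HK F) = 1 := by ext1 <;> simp [rm_rm]

variable {G : Type*} [Group G]

/-- the subgroup of the centraliser of a conjugate `s` of `t` corresponding to `N` -/
def loc (φ : HK F →* G) (N : Subgroup (HK F)) (s : G) : Subgroup G where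
  carrier := {x | ∀ g, g * φ t0 * g⁻¹ = s → g⁻¹ * x * g ∈ N.map φ}
  one_mem' := fun g _ => by simp
  mul_mem' := fun {x y} hx hy g hg => by simpa [mul_assoc] using mul_mem (hx g hg) (hy g hg)
  inv_mem' := fun {x} hx g hg => by simpa [mul_assoc] using inv_mem (hx g hg)

theorem loc_conj {φ : HK F →* G} {N : Subgroup (HK F)} {s x : G} (h : x ∈ loc φ N s) (g : G) :
    g * x * g⁻¹ ∈ loc φ N (g * s * g⁻¹) := fun k hk => by
  simpa [mul_assoc] using h (g⁻¹ * k) (by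
    rw [show g⁻¹ * k * φ t0 * (g⁻¹ * k)⁻¹ = g⁻¹ * (k * φ t0 * k⁻¹) * g by group, hk]; group)

theorem loc_conj_iff {φ : HK F →* G} {N : Subgroup (HK F)} {s x : G} (g : G) :
    g * x * g⁻¹ ∈ loc φ N (g * s * g⁻¹) ↔ x ∈ loc φ N s :=
  ⟨fun h => by simpa [mul_assoc] using loc_conj h g⁻¹, fun h => loc_conj h g⟩

theorem loc_mono {φ : HK F →* G} {N M : Subgroup (HK F)} (h : N ≤ M) (s : G) :
    loc φ N s ≤ loc φ M s := fun _ hx g hg => map_mono h (hx g hg)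

theorem cj_comm {a b : G} (h : Commute a b) (g : G) : Commute (g * a * g⁻¹) (g * b * g⁻¹) :=
  h.map (MulAut.conj g)

theorem cj_eq {a g : G} (h : Commute g a) : g * a * g⁻¹ = a := by rw [h.eq, mul_inv_cancel_right]

theorem comm_of_cj {a g : G} (h : g * a * g⁻¹ = a) : Commute g a := mul_inv_eq_iff_eq_mul.1 h

theorem isConj_cj (g a : G) : IsConj a (g * a * g⁻¹) := isConj_iff.2 ⟨g, rfl⟩

theorem exists_cj {a b : G} (h : IsConj a b) (x : G) : ∃ g y, g * a * g⁻¹ = b ∧ g * y * g⁻¹ = x := by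
  obtain ⟨g, hg⟩ := isConj_iff.1 h
  exact ⟨g, g⁻¹ * x * g, hg, by group⟩

namespace Su

variable {φ : HK F →* G} (h : Su φ)
include h

theorem one_iff {k : HK F} : φ k = 1 ↔ Sc k 1 := by rw [← h.eq, map_one]
theorem tt : φ t0 * φ t0 = 1 := by rw [← map_mul, t0_sq, map_one]
theorem t1 : φ t0 ≠ 1 := fun e => not_sc_t0 h.two (h.one_iff.1 e)
theorem ord : orderOf (φ t0) = 2 := Inv.orderOf_eq_two_of_mul_self h.t1 h.tt
theorem comm (k : HK F) : Commute (φ k) (φ t0) := by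
  rw [Commute, SemiconjBy, ← map_mul, ← map_mul, h.eq]; exact sc_t0 k
theorem comm_iff {x y : HK F} : Commute (φ x) (φ y) ↔ Sc (x * y) (y * x) := by
  rw [Commute, SemiconjBy, ← map_mul, ← map_mul, h.eq]
theorem sq_iff {x : HK F} : φ x * φ x = 1 ↔ Sc (x * x) 1 := by rw [← map_mul, h.one_iff]
theorem mem_map {N : Subgroup (HK F)} (hN : Sat N) {k : HK F} : φ k ∈ N.map φ ↔ k ∈ N :=
  ⟨fun ⟨_, hx, e⟩ => hN _ _ ((h.eq _ _).1 e.symm) hx, fun hk => ⟨k, hk, rfl⟩⟩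
theorem i2_neg : φ (i2 (-1)) = φ t0 := (h.eq _ _).2 ⟨-1, by simp⟩
theorem sq_of {s : G} (hs : IsConj (φ t0) s) : s * s = 1 := by
  obtain ⟨g, rfl⟩ := isConj_iff.1 hs; exact Inv.conj_mul_self h.tt g
theorem ne_of {s : G} (hs : IsConj (φ t0) s) : s ≠ 1 := by
  rintro rfl; exact h.t1 (isConj_one_left.1 hs)

theorem conj (g : G) : Su ((MulAut.conj g).toMonoidHom.comp φ) :=
  ⟨h.two, fun x y => (MulAut.conj g).injective.eq_iff.trans (h.eq x y), fun x hx => by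
    obtain ⟨k, hk⟩ := h.cent (g⁻¹ * x * g) (by simpa [mul_assoc] using cj_comm hx g⁻¹)
    exact ⟨k, by simp [hk, mul_assoc]⟩, h.no2⟩

theorem mem_loc {N : Subgroup (HK F)} [hN : N.Normal] {g x : G} :
    g * x * g⁻¹ ∈ loc φ N (g * φ t0 * g⁻¹) ↔ x ∈ N.map φ := by
  rw [loc_conj_iff]
  refine ⟨fun hx => by simpa using hx 1 (by simp), ?_⟩
  rintro ⟨k, hk, rfl⟩ c hc
  obtain ⟨c, rfl⟩ := h.cent c (comm_of_cj hc)
  exact ⟨_, hN.conj_mem' k hk c, by simp⟩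

theorem loc_iff {N : Subgroup (HK F)} [N.Normal] (hN : Sat N) (g : G) {k : HK F} :
    g * φ k * g⁻¹ ∈ loc φ N (g * φ t0 * g⁻¹) ↔ k ∈ N := h.mem_loc.trans (h.mem_map hN)

theorem loc_t {N : Subgroup (HK F)} [N.Normal] (hN : Sat N) {k : HK F} :
    φ k ∈ loc φ N (φ t0) ↔ k ∈ N := by simpa using h.loc_iff hN 1

theorem cent' {g x : G} (hx : Commute x (g * φ t0 * g⁻¹)) : ∃ k, g * φ k * g⁻¹ = x :=
  (h.conj g).cent x hx

theorem comm_of_loc {N : Subgroup (HK F)} {s x : G} (hs : IsConj (φ t0) s) (hx : x ∈ loc φ N s) :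
    Commute x s := by
  obtain ⟨g, rfl⟩ := isConj_iff.1 hs
  obtain ⟨k, -, e⟩ := hx g rfl
  simpa [e, mul_assoc] using cj_comm (h.comm k) g

theorem mul_loc {s x y : G} (hs : IsConj (φ t0) s) (hx : Commute x s) (hy : Commute y s)
    (nx : x ∉ loc φ H0 s) (ny : y ∉ loc φ H0 s) : x * y ∈ loc φ H0 s := by
  obtain ⟨g, rfl⟩ := isConj_iff.1 hs
  obtain ⟨x, rfl⟩ := h.cent' hx
  obtain ⟨y, rfl⟩ := h.cent' hy
  rw [conj_mul, ← map_mul]
  rw [h.loc_iff sat_H0, mem_H0] at *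
  simp_all

theorem self_loc {s : G} (hs : IsConj (φ t0) s) : s ∈ loc φ LL s := by
  obtain ⟨g, rfl⟩ := isConj_iff.1 hs
  exact (h.loc_iff sat_LL g).2 (i1_LL (-1))

theorem i1_inj {X : SL2} (e : φ (i1 X) = 1) : X = 1 := by
  obtain ⟨l, h1, h2, -⟩ := h.one_iff.1 e
  obtain rfl : 1 = l := smul_one_inj (by simpa using h2)
  exact Subtype.ext (by simpa using h1)

theorem xx_ne {a : F} (ha : a ≠ 0) : φ (i1 (xx a)) ≠ 1 := fun e =>
  ha (xx_injective ((h.i1_inj e).trans xx_zero.symm))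

omit h in
theorem xx_p (f : SL2 →* G) (a : F) : f (xx a) ^ ringChar F = 1 := by
  rw [← map_pow, xx_pow, ringChar.Nat.cast_ringChar, zero_mul, xx_zero, map_one]

omit h in
theorem yy_p (f : SL2 →* G) (a : F) : f (yy a) ^ ringChar F = 1 := by
  rw [← map_pow, yy_pow, ringChar.Nat.cast_ringChar, zero_mul, yy_zero, map_one]

variable [Finite F]

theorem unip {k : HK F} (hk : φ k ^ ringChar F = 1) :
    ∃ X Y : SL2, Unip X ∧ Unip Y ∧ φ k = φ (i1 X * i2 Y) := by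
  obtain ⟨X, Y, h1, h2, h3⟩ := sc_unip h.two (h.one_iff.1 ((map_pow φ k _).trans hk))
  exact ⟨X, Y, h1, h2, (h.eq _ _).2 h3⟩

theorem pel_loc {s u : G} (hs : IsConj (φ t0) s) (hu : Commute u s) (hp : u ^ ringChar F = 1) :
    u ∈ loc φ LL s := by
  obtain ⟨g, rfl⟩ := isConj_iff.1 hs
  obtain ⟨k, rfl⟩ := h.cent' hu
  obtain ⟨X, Y, -, -, e⟩ := h.unip (k := k) (by simpa using hp)
  rw [e, h.loc_iff sat_LL]
  exact mul_mem (i1_LL _) (i2_LL _)

theorem scal_of_pel {k : HK F} (hs : k.s = false) (h2 : φ k * φ k = 1) {u : G}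
    (hp : u ^ ringChar F = 1) (h1 : u ≠ 1) (ht : Commute u (φ t0)) (hk : Commute u (φ k)) :
    Scal k.a ∨ Scal k.b := by
  obtain ⟨u, rfl⟩ := h.cent u ht
  obtain ⟨X, Y, hX, hY, e⟩ := h.unip hp
  rw [e] at h1 hk
  obtain ⟨l, a1, a2, -⟩ := h.comm_iff.1 hk.symm
  obtain ⟨m, b1, b2, -⟩ := h.sq_iff.1 h2
  simp only [HK.mul_a, HK.mul_b, HK.mul_s, hs, i1_a, i1_b, i1_s, i2_a, i2_b, i2_s, cond, mul_one,
    one_mul, HK.one_a, HK.one_b, Bool.xor_false] at a1 a2 b1 b2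
  by_cases hX1 : X = 1
  · exact Or.inr (scal_of_unip h.two k.db hY (by rintro rfl; simp [hX1] at h1) a2 b2)
  · exact Or.inl (scal_of_unip h.two k.da hX hX1 a1 b1)

/-- an involution of `L` centralising a `p`-element is central -/
theorem eq_of_LL {s x u : G} (hs : IsConj (φ t0) s) (hx : x ∈ loc φ LL s) (x2 : x * x = 1)
    (hp : u ^ ringChar F = 1) (h1 : u ≠ 1) (us : Commute u s) (ux : Commute u x) :
    x = 1 ∨ x = s := by
  obtain ⟨g, u, rfl, rfl⟩ := exists_cj hs u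
  obtain ⟨k, rfl⟩ := h.cent' (h.comm_of_loc hs hx)
  rw [h.loc_iff sat_LL] at hx
  have k2 : φ k * φ k = 1 := by simpa using x2
  rcases sc_of_scal h.two hx (h.sq_iff.1 k2) (h.scal_of_pel hx.1 k2 (u := u) (by simpa using hp)
    (by simpa using h1) (by simpa [mul_assoc] using cj_comm us g⁻¹)
    (by simpa [mul_assoc] using cj_comm ux g⁻¹)) with e | e
  · exact Or.inl (by rw [h.one_iff.2 e]; simp)
  · exact Or.inr (by rw [(h.eq _ _).2 e])

theorem iso1 {s : G} (hs : IsConj (φ t0) s) (hc : ∀ X, Commute (φ (i1 X)) s) : s = φ t0 :=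
  ((h.eq_of_LL hs (CT.L.range_le (φ := φ.comp i1) (fun a => h.pel_loc hs (hc _) (xx_p (φ.comp i1) a))
    (fun a => h.pel_loc hs (hc _) (yy_p (φ.comp i1) a)) ⟨-1, rfl⟩) h.tt (xx_p (φ.comp i1) 1)
    (h.xx_ne one_ne_zero) (hc _) (h.comm _)).resolve_left h.t1).symm

theorem iso2 {s : G} (hs : IsConj (φ t0) s) (hc : ∀ X, Commute (φ (i2 X)) s) : s = φ t0 := by
  have := h.iso1 (hs.trans (isConj_cj (φ ws)⁻¹ s)) fun X => by
    simpa [← ws_i1, mul_assoc] using cj_comm (hc X) (φ ws)⁻¹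
  rw [← cj_eq (h.comm ws), ← this]; group

theorem iso {k : HK F} (hs : IsConj (φ t0) (φ k)) (h0 : k.s = false) (hc : Scal k.a ∨ Scal k.b) :
    φ k = φ t0 := by
  rcases hc with e | e
  · exact h.iso1 hs fun X => Commute.map (by ext1 <;> simp [h0, e.comm]) φ
  · exact h.iso2 hs fun X => Commute.map (by ext1 <;> simp [h0, e.comm]) φ

theorem eq_of_H0 {a b u : G} (ha : IsConj (φ t0) a) (hb : IsConj (φ t0) b) (hx : b ∈ loc φ H0 a)
    (hp : u ^ ringChar F = 1) (h1 : u ≠ 1) (ua : Commute u a) (ub : Commute u b) : b = a := by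
  obtain ⟨g, u, rfl, rfl⟩ := exists_cj ha u
  obtain ⟨k, rfl⟩ := h.cent' (h.comm_of_loc ha hx)
  rw [h.loc_iff sat_H0] at hx
  have hk := hb.trans (isConj_cj g _).symm
  rw [h.iso hk hx (h.scal_of_pel hx (h.sq_of hk) (u := u) (by simpa using hp)
    (by simpa using h1) (by simpa [mul_assoc] using cj_comm ua g⁻¹)
    (by simpa [mul_assoc] using cj_comm ub g⁻¹))]

/-- the diagonal `SL₂` centralised by an involution exchanging the two blocks -/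
theorem exists_diag {k : HK F} (hs : k.s = true) (h2 : φ k * φ k = 1) :
    ∃ κ : SL2 →* G, (∀ X, Commute (κ X) (φ t0) ∧ Commute (κ X) (φ k)) ∧ κ (xx 1) ≠ 1 ∧
      ∀ x ∈ LL, Commute (φ x) (φ k) → ∃ X, φ x = κ X ∨ φ x = κ X * φ t0 := by
  have ki := inv_eq_of_mul_eq_one_right h2
  have c : ∀ X Y, Commute (φ (i1 X)) (φ k * φ (i1 Y) * (φ k)⁻¹) := fun X Y => by
    obtain ⟨Z, e⟩ := swap_i1 hs Y
    rw [← map_inv, ← map_mul, ← map_mul, e]; exact (i_comm X Z).map φ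
  let κ : SL2 →* G := MonoidHom.mk' (fun X => φ (i1 X) * (φ k * φ (i1 X) * (φ k)⁻¹)) fun X Y => by
    rw [map_mul, map_mul, ← conj_mul]; exact (c Y X).mul_mul_mul_comm _ _
  have κe : ∀ X, κ X = φ (i1 X * (k * i1 X * k⁻¹)) := fun X => by simp [κ]
  have ck : ∀ X, Commute (κ X) (φ k) := fun X => (comm_of_cj (by
    change φ k * (φ (i1 X) * (φ k * φ (i1 X) * (φ k)⁻¹)) * (φ k)⁻¹ =
      φ (i1 X) * (φ k * φ (i1 X) * (φ k)⁻¹)
    rw [← conj_mul, (c X X).eq, ki]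
    simp only [← mul_assoc, h2, one_mul]
    rw [mul_assoc _ (φ k) (φ k), h2, mul_one])).symm
  refine ⟨κ, fun X => ⟨κe X ▸ h.comm _, ck X⟩, fun e => ?_, fun x hx hc => ?_⟩
  · obtain ⟨Z, e1⟩ := swap_i1 hs (xx 1)
    rw [κe, e1, h.one_iff] at e
    obtain ⟨l, e, -⟩ := e
    simp [mm] at e
  · obtain ⟨X, Y, e⟩ := sc_of_LL hx
    obtain ⟨Z, e1⟩ := swap_i1 hs X
    have e2 : φ x = κ X * φ (i2 (Z⁻¹ * Y)) := by rw [κe, e1, (h.eq _ _).2 e]; simp
    have e3 : Commute (φ (i2 (Z⁻¹ * Y))) (φ k) := by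
      simpa [e2] using (ck X).inv_left.mul_left hc
    generalize Z⁻¹ * Y = W at e2 e3
    obtain ⟨l, e4, -⟩ := h.comm_iff.1 e3
    simp only [HK.mul_a, i2_a, i2_b, i2_s, hs, cond, one_mul, ← mul_smul_comm] at e4
    have e5 := mul_cancel_det k.da ((mul_one _).trans e4)
    have e6 := congrArg det e5
    rw [det_smul2, W.2, det_one] at e6
    obtain rfl | rfl : l = 1 ∨ l = -1 := by grind
    · obtain rfl : W = 1 := Subtype.ext (by simpa using e5.symm)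
      exact ⟨X, Or.inl (by simpa using e2)⟩
    · obtain rfl : W = -1 := Subtype.ext (by simpa [neg_eq_iff_eq_neg] using e5.symm)
      exact ⟨X, Or.inr (h.i2_neg ▸ e2)⟩

theorem exists_pel {a b : G} (ha : IsConj (φ t0) a) (hb : Commute b a) (b2 : b * b = 1)
    (hx : b ∉ loc φ H0 a) : ∃ u, u ^ ringChar F = 1 ∧ u ≠ 1 ∧ Commute u a ∧ Commute u b := by
  obtain ⟨g, rfl⟩ := isConj_iff.1 ha
  obtain ⟨k, rfl⟩ := h.cent' hb
  rw [h.loc_iff sat_H0, mem_H0, Bool.not_eq_false] at hx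
  obtain ⟨κ, h1, h2, -⟩ := h.exists_diag hx (by simpa using b2)
  exact ⟨g * κ (xx 1) * g⁻¹, by simp [xx_p], by simpa using h2, cj_comm (h1 _).1 g,
    cj_comm (h1 _).2 g⟩

theorem symm {a b : G} (ha : IsConj (φ t0) a) (hb : IsConj (φ t0) b) (hx : b ∈ loc φ H0 a) :
    a ∈ loc φ H0 b := by
  by_contra hn
  obtain ⟨u, h1, h2, h3, h4⟩ := h.exists_pel hb (h.comm_of_loc ha hx).symm (h.sq_of ha) hn
  exact hn (h.eq_of_H0 ha hb hx h1 h2 h4 h3 ▸ loc_mono LL_le _ (h.self_loc hb))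

/-- if `b` exchanges the two factors at `a`, then `L(a) ∩ C(b) ≤ ⟨a⟩ L(b)` -/
theorem loc_swap {a b x : G} (ha : IsConj (φ t0) a) (hb : IsConj (φ t0) b) (hc : Commute b a)
    (hn : b ∉ loc φ H0 a) (hx : x ∈ loc φ LL a) (xb : Commute x b) :
    x ∈ loc φ LL b ∨ x * a ∈ loc φ LL b := by
  obtain ⟨g, rfl⟩ := isConj_iff.1 ha
  obtain ⟨k, rfl⟩ := h.cent' hc
  obtain ⟨y, rfl⟩ := h.cent' (h.comm_of_loc ha hx)
  rw [h.loc_iff sat_H0, mem_H0, Bool.not_eq_false] at hn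
  rw [h.loc_iff sat_LL] at hx
  have hk := hb.trans (isConj_cj g _).symm
  obtain ⟨κ, h1, -, h3⟩ := h.exists_diag hn (h.sq_of hk)
  have h4 := CT.L.range_le (φ := κ) (fun a => h.pel_loc hk (h1 _).2 (xx_p κ a))
    fun a => h.pel_loc hk (h1 _).2 (yy_p κ a)
  rw [conj_mul, loc_conj_iff, loc_conj_iff]
  obtain ⟨X, e | e⟩ := h3 y hx (by simpa [mul_assoc] using cj_comm xb g⁻¹) <;> rw [e]
  · exact Or.inl (h4 ⟨X, rfl⟩)
  · exact Or.inr (by rw [mul_assoc, h.tt, mul_one]; exact h4 ⟨X, rfl⟩)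

/-- the involutions not exchanging the two factors -/
theorem cls {a x : G} (ha : IsConj (φ t0) a) (hx : x ∈ loc φ H0 a) (x2 : x * x = 1) :
    (¬ IsConj (φ t0) x ∧ ∃ u, u ^ ringChar F = 1 ∧ u ≠ 1 ∧ Commute u a ∧ Commute u x) ∨ x = a ∨
      ∃ g, g * φ t0 * g⁻¹ = a ∧ (g * φ jj * g⁻¹ = x ∨ g * φ t2 * g⁻¹ = x) := by
  obtain ⟨g, rfl⟩ := isConj_iff.1 ha
  obtain ⟨k, rfl⟩ := h.cent' (h.comm_of_loc ha hx)
  rw [h.loc_iff sat_H0] at hx
  rcases or_assoc.2 (inv_H0 h.two hx (h.sq_iff.1 (by simpa using x2))) with e | ⟨c, -, e⟩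
  · refine or_iff_not_imp_right.2 fun hn => ⟨fun hc => hn (Or.inl (by
      rw [h.iso (hc.trans (isConj_cj g _).symm) hx e])), ?_⟩
    rcases e with e | e
    · exact ⟨g * φ (i1 (xx 1)) * g⁻¹, by simpa using xx_p (φ.comp i1) 1,
        by simpa using h.xx_ne one_ne_zero, cj_comm (h.comm _) g,
        cj_comm (Commute.map (by ext1 <;> simp [mem_H0.1 hx, e.comm]) φ) g⟩
    · exact ⟨g * φ (i2 (xx 1)) * g⁻¹, by simpa using xx_p (φ.comp i2) 1,
        by simpa [← ws_i1] using h.xx_ne one_ne_zero, cj_comm (h.comm _) g,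
        cj_comm (Commute.map (by ext1 <;> simp [mem_H0.1 hx, e.comm]) φ) g⟩
  · refine Or.inr (Or.inr ⟨g * (φ c)⁻¹, ?_, e.imp (fun e => ?_) fun e => ?_⟩)
    · conv_rhs => rw [← cj_eq (h.comm c).inv_left]
      group
    all_goals rw [← e]; simp [mul_assoc]

end Su

end Cfsg.Agent.L4Q
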