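import Cfsg.Agent.L4Q.Model

/-! # Computations with `2 × 2` matrices and in the model group -/

set_option autoImplicit false
set_option linter.unusedSectionVars false

namespace Cfsg.Agent.L4Q

open Matrix Cfsg.Agent.RootSub Subgroup Polynomial

variable {F : Type*} [Field F]

local notation "SL2" => Matrix.SpecialLinearGroup (Fin 2) F

/-- scalar matrices -/
def Scal (a : M2 F) : Prop := ∃ c : F, a = c • 1

theorem scal_iff {p q r s : F} : Scal !![p, q; r, s] ↔ q = 0 ∧ r = 0 ∧ p = s := by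
  refine ⟨fun ⟨c, h⟩ => ?_, fun h => ⟨p, ?_⟩⟩ <;> simp only [mm] at * <;> grind

theorem Scal.comm {a : M2 F} (h : Scal a) (b : M2 F) : a * b = b * a := by
  obtain ⟨c, rfl⟩ := h; simp

theorem det_of_sq {a : M2 F} {m : F} (h : a * a = m • 1) (hs : ¬ Scal a) : a.det = -m := by
  obtain ⟨p, q, r, s, rfl⟩ := ent a
  simp only [mm, scal_iff] at *
  grind

theorem mul_cancel_det {a b c : M2 F} (ha : a.det ≠ 0) (h : a * b = a * c) : b = c := by
  have := congrArg (adj a * ·) h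
  simp only [← mul_assoc, adj_mul, smul_mul_assoc, one_mul] at this
  exact smul_right_injective _ ha this

theorem mul_cancel_det' {a b c : M2 F} (ha : a.det ≠ 0) (h : b * a = c * a) : b = c := by
  have := congrArg (· * adj a) h
  simp only [mul_assoc, mul_adj, mul_smul_comm, mul_one] at this
  exact smul_right_injective _ ha this

theorem char_ne (h2 : (2 : F) ≠ 0) : ringChar F ≠ 2 := fun e =>
  h2 (by simpa [e] using (CharP.cast_eq_zero F (ringChar F)))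

theorem exists_sl {a : M2 F} (h : a.det = 1) : ∃ X : SL2, X.1 = a := ⟨⟨a, h⟩, rfl⟩

theorem exists_norm [Finite F] (h2 : (2 : F) ≠ 0) {m : F} (hm : m ≠ 0) (c : F) :
    ∃ x y : F, x ^ 2 - m * y ^ 2 = c := by
  have := Fintype.ofFinite F
  obtain ⟨x, y, h⟩ := FiniteField.exists_root_sum_quadratic (f := (X ^ 2 - C c : F[X]))
    (g := C (-m) * X ^ 2) (degree_X_pow_sub_C two_pos c)
    (degree_C_mul_X_pow 2 (neg_ne_zero.2 hm))
    (FiniteField.odd_card_of_char_ne_two (char_ne h2))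
  exact ⟨x, y, by simp at h; grind⟩

theorem exists_std [Finite F] (h2 : (2 : F) ≠ 0) {a : M2 F} {m : F} (hm : m ≠ 0)
    (h : a * a = m • 1) (hs : ¬ Scal a) : ∃ P : SL2, a * P.1 = P.1 * !![0, m; 1, 0] := by
  obtain ⟨p, q, r, s, rfl⟩ := ent a
  simp only [mm, scal_iff] at h hs
  obtain rfl : s = -p := by grind
  suffices ∃ x y, r * x ^ 2 - 2 * p * x * y - q * y ^ 2 = 1 by
    obtain ⟨x, y, e⟩ := this
    refine ⟨⟨!![x, p * x + q * y; y, r * x - p * y], ?_⟩, ?_⟩ <;> simp only [mm] <;> grind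
  by_cases hr : r = 0
  · exact ⟨-(1 + q) / (2 * p), 1, by grind⟩
  · obtain ⟨x, y, e⟩ := exists_norm h2 hm r
    exact ⟨(x + p * y) / r, y, by grind⟩

theorem exists_conj [Finite F] (h2 : (2 : F) ≠ 0) {a b : M2 F} {m : F} (hm : m ≠ 0)
    (ha : a * a = m • 1) (hs : ¬ Scal a) (hb : b * b = m • 1) (hs' : ¬ Scal b) :
    ∃ P : SL2, P.1 * a = b * P.1 := by
  obtain ⟨P, hP⟩ := exists_std h2 hm ha hs
  obtain ⟨Q, hQ⟩ := exists_std h2 hm hb hs'
  refine ⟨Q * P⁻¹, mul_cancel_det' (a := P.1) (by simp) ?_⟩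
  have : (Q * P⁻¹).1 * P.1 = Q.1 := by
    rw [← Matrix.SpecialLinearGroup.coe_mul, inv_mul_cancel_right]
  rw [mul_assoc, hP, ← mul_assoc, this, mul_assoc, this, hQ]

/-- unipotent elements -/
def Unip (X : SL2) : Prop := X.1 0 0 + X.1 1 1 = 2

theorem exists_unip [Finite F] {a : M2 F} {m : F} (hm : m ≠ 0)
    (h : a ^ ringChar F = (m ^ ringChar F) • 1) : ∃ X : SL2, Unip X ∧ a = m • X.1 := by
  have := Fact.mk (CharP.char_is_prime F (ringChar F))
  have hc : CharP (M2 F) (ringChar F) := inferInstance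
  have h1 : (a - m • 1) ^ ringChar F = 0 := by
    rw [sub_pow_char_of_commute _ (by simp [Commute, SemiconjBy]), h, _root_.smul_pow, one_pow, sub_self]
  have h3 : (a - m • 1).det = 0 := by
    have := congrArg det h1
    rw [det_pow, det_zero] at this
    exact eq_zero_of_pow_eq_zero this
  have h4 : (a - m • 1).trace = 0 := (isNilpotent_trace_of_isNilpotent ⟨_, h1⟩).eq_zero
  obtain ⟨p, q, r, s, rfl⟩ := ent a
  simp [det_fin_two, trace_fin_two] at h3 h4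
  refine ⟨⟨m⁻¹ • !![p, q; r, s], ?_⟩, ?_, ?_⟩ <;> simp only [Unip, mm] <;> grind

theorem scal_of_unip (h2 : (2 : F) ≠ 0) {a : M2 F} {X : SL2} {l m : F} (ha : a.det ≠ 0)
    (hX : Unip X) (h1 : X ≠ 1) (h : a * X.1 = l • (X.1 * a)) (h3 : a * a = m • 1) : Scal a := by
  have h1 : X.1 ≠ 1 := fun e => h1 (Subtype.ext e)
  have hd := X.2
  unfold Unip at hX
  generalize X.1 = Y at *
  obtain ⟨p, q, r, s, rfl⟩ := ent a
  obtain ⟨x, y, z, u, rfl⟩ := ent Y
  simp only [mm, scal_iff, Ne] at *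
  have : l = 1 := by
    have : (p * s - q * r) * 2 * (l - 1) = 0 := by grind
    grind
  subst this
  grind

/-- the elements not exchanging the two blocks -/
def H0 : Subgroup (HK F) where
  carrier := {k | k.s = false}
  one_mem' := rfl
  mul_mem' := by simp +contextual
  inv_mem' := by simp

/-- the product of the two factors and the scalars -/
def LL : Subgroup (HK F) where
  carrier := {k | k.s = false ∧ ∃ l : F, l ^ 4 = 1 ∧ k.a.det = l ^ 2}
  one_mem' := ⟨rfl, 1, by simp⟩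
  mul_mem' := by
    rintro x y ⟨h1, l, h2, h3⟩ ⟨h4, m, h5, h6⟩
    exact ⟨by simp [h1, h4], l * m, by grind, by simp [h1, h3, h6, mul_pow]⟩
  inv_mem' := by
    rintro x ⟨h1, l, h2, h3⟩
    have := x.h
    exact ⟨h1, l, h2, by simp only [HK.inv_a, h1, cond, det_smul2, det_adj]; grind⟩

/-- the diagonal torus -/
def Tor : Subgroup (HK F) where
  carrier := {k | ∃ a b c d h, k = dg a b c d h}
  one_mem' := ⟨1, 1, 1, 1, by simp, by ext1 <;> simp [mm]⟩
  mul_mem' := by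
    rintro _ _ ⟨a, b, c, d, h, rfl⟩ ⟨a', b', c', d', h', rfl⟩
    exact ⟨a * a', b * b', c * c', d * d', by grind, by ext1 <;> simp [mm]⟩
  inv_mem' := by
    rintro _ ⟨a, b, c, d, h, rfl⟩
    refine ⟨c * d * b, c * d * a, a * b * d, a * b * c, by grind, ?_⟩
    ext1 <;> simp [HK.inv_a, HK.inv_b, mm]

theorem mem_H0 {k : HK F} : k ∈ H0 ↔ k.s = false := Iff.rfl
theorem mem_LL {k : HK F} : k ∈ LL ↔ k.s = false ∧ ∃ l : F, l ^ 4 = 1 ∧ k.a.det = l ^ 2 := Iff.rfl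
theorem mem_Tor {k : HK F} : k ∈ Tor ↔ ∃ a b c d h, k = dg a b c d h := Iff.rfl

instance : (H0 : Subgroup (HK F)).Normal := ⟨fun x hx g => by
  rw [mem_H0] at *; cases h : g.s <;> simp [h, hx]⟩

instance : (LL : Subgroup (HK F)).Normal := ⟨fun x ⟨h1, l, h2, h3⟩ g => by
  have := x.h
  have := g.h
  refine ⟨by cases h : g.s <;> simp [h, h1], l, h2, ?_⟩
  cases h : g.s <;> simp [h, h1, HK.inv_a, HK.inv_b, det_adj] <;> grind⟩

theorem i1_LL (X : SL2) : i1 X ∈ LL := ⟨rfl, 1, by simp⟩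
theorem i2_LL (X : SL2) : i2 X ∈ LL := ⟨rfl, 1, by simp⟩
theorem LL_le : (LL : Subgroup (HK F)) ≤ H0 := fun _ h => h.1
theorem Tor_le : (Tor : Subgroup (HK F)) ≤ H0 := by rintro _ ⟨a, b, c, d, h, rfl⟩; rfl
theorem t0_Tor : (t0 : HK F) ∈ Tor := ⟨-1, -1, 1, 1, by simp, by ext1 <;> simp [mm]⟩
theorem t2_Tor : (t2 : HK F) ∈ Tor := ⟨1, -1, 1, -1, by simp, by ext1 <;> simp [mm]⟩
theorem jj_eq : (jj : HK F) = i1 jS * i2 jS := by ext1 <;> simp
theorem jj_LL : (jj : HK F) ∈ LL := jj_eq (F := F) ▸ mul_mem (i1_LL _) (i2_LL _)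

theorem Tor_comm {x y : HK F} (hx : x ∈ Tor) (hy : y ∈ Tor) : Commute x y := by
  obtain ⟨a, b, c, d, h, rfl⟩ := hx
  obtain ⟨a', b', c', d', h', rfl⟩ := hy
  ext1 <;> simp [mm, mul_comm]

/-- closed under multiplication by scalars -/
def Sat (N : Subgroup (HK F)) : Prop := ∀ x y, Sc x y → y ∈ N → x ∈ N

theorem sat_H0 : Sat (H0 : Subgroup (HK F)) := fun _ _ ⟨_, _, _, h⟩ hy => h.trans hy

theorem sat_LL : Sat (LL : Subgroup (HK F)) := fun _ _ ⟨l, h1, h2, h⟩ ⟨h3, m, h4, h5⟩ =>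
  ⟨h.trans h3, l * m, by have := sc_pow h1 h2; grind, by rw [h1, det_smul2, h5]; ring⟩

theorem sat_Tor : Sat (Tor : Subgroup (HK F)) := by
  rintro x _ ⟨l, h1, h2, h⟩ ⟨a, b, c, d, h3, rfl⟩
  have := sc_pow h1 h2
  exact ⟨l * a, l * b, l * c, l * d, by grind, by ext1 <;> simp [h1, h2, h, mm]⟩

theorem sc_of_LL {k : HK F} (h : k ∈ LL) : ∃ X Y : SL2, Sc k (i1 X * i2 Y) := by
  obtain ⟨h1, l, h2, h3⟩ := h
  have := k.h
  have l0 : l ≠ 0 := by rintro rfl; simp at h2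
  obtain ⟨X, hX⟩ := exists_sl (a := l⁻¹ • k.a) (by rw [det_smul2]; grind)
  obtain ⟨Y, hY⟩ := exists_sl (a := l⁻¹ • k.b) (by rw [det_smul2]; grind)
  exact ⟨X, Y, l, by simp [l0, hX], by simp [l0, hY], by simp [h1]⟩

theorem pow_s (k : HK F) {n : ℕ} (hn : Odd n) : (k ^ n).s = k.s := by
  obtain ⟨m, rfl⟩ := hn
  have : (k ^ 2) ^ m ∈ H0 := pow_mem (by simp [mem_H0, pow_two]) m
  rw [pow_succ, pow_mul, HK.mul_s, mem_H0.1 this, Bool.false_xor]

theorem pow_ab {k : HK F} (h : k.s = false) (n : ℕ) : (k ^ n).a = k.a ^ n ∧ (k ^ n).b = k.b ^ n := by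
  induction n with
  | zero => simp
  | succ n ih => simp [pow_succ, ih, mem_H0.1 (pow_mem (mem_H0.2 h) n)]

theorem odd_char [Finite F] (h2 : (2 : F) ≠ 0) : Odd (ringChar F) :=
  (CharP.char_is_prime F (ringChar F)).odd_of_ne_two (char_ne h2)

theorem sc_unip [Finite F] (h2 : (2 : F) ≠ 0) {k : HK F} (h : Sc (k ^ ringChar F) 1) :
    ∃ X Y : SL2, Unip X ∧ Unip Y ∧ Sc k (i1 X * i2 Y) := by
  have := Fact.mk (CharP.char_is_prime F (ringChar F))
  obtain ⟨l, h1, h3, h4⟩ := h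
  have l0 : l ≠ 0 := by have := sc_pow h1 h3; rintro rfl; simp at this
  rw [pow_s k (odd_char h2)] at h4
  obtain ⟨m, rfl⟩ := surjective_frobenius F (ringChar F) l
  have m0 : m ≠ 0 := by rintro rfl; simp at l0
  obtain ⟨X, hX, e1⟩ := exists_unip m0 ((pow_ab h4 _).1.symm.trans h1)
  obtain ⟨Y, hY, e2⟩ := exists_unip m0 ((pow_ab h4 _).2.symm.trans h3)
  exact ⟨X, Y, hX, hY, m, by simpa using e1, by simpa using e2, h4⟩

end Cfsg.Agent.L4Q
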