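import Cfsg.Agent.L4Q.Root

/-! # Commutators of root subgroups -/

set_option autoImplicit false
set_option linter.unusedSectionVars false

namespace Cfsg.Agent.L4Q

open Matrix Cfsg.Agent.RootSub Subgroup Cfsg.Agent.PLocal.Amb Cfsg.Agent.Lyons Equiv

variable {F : Type*} [Field F] {G : Type*} [Group G] [Finite G]

local notation "SL2" => Matrix.SpecialLinearGroup (Fin 2) F

theorem unip_inv (h2 : (2 : F) ≠ 0) {X : SL2} (hX : Unip X) {l : F} (e : rm * X.1 * rm * X.1 = l • 1) :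
    (∃ a, xx a = X) ∨ ∃ a, yy a = X := by
  have hd := X.2
  unfold Unip at hX
  obtain ⟨p, q, r, s, h⟩ := ent X.1
  simp only [h, mm] at hd hX e
  by_cases hr : r = 0
  · exact Or.inl ⟨q, Subtype.ext (by simp only [h, mm]; grind)⟩
  · exact Or.inr ⟨r, Subtype.ext (by simp only [h, mm]; grind)⟩

theorem not_scal_xx : ¬ Scal (xx (1 : F)).1 := by simp [scal_iff]

theorem kf {x y v : G} {A B : Subgroup G} (hxy : x * y * x = y * x * y) (yv : Commute y v)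
    (hc : x * v * x⁻¹ * v⁻¹ ∈ A) (hy : ∀ c ∈ A, y * c * y⁻¹ * c⁻¹ ∈ B) (hv : v ∈ B)
    (hw : x * y * x * v * (x * y * x)⁻¹ ∈ A) (AB : ∀ a ∈ A, a ∈ B → a = 1)
    (cm : ∀ a ∈ A, ∀ b ∈ B, Commute a b) :
    x * v * x⁻¹ * v⁻¹ = x * y * x * v * (x * y * x)⁻¹ := by
  have e : x * y * x * v * (x * y * x)⁻¹ * (x * v * x⁻¹ * v⁻¹)⁻¹ =
      y * (x * v * x⁻¹ * v⁻¹) * y⁻¹ * (x * v * x⁻¹ * v⁻¹)⁻¹ * v := by
    rw [mul_assoc _ (x * v * x⁻¹ * v⁻¹)⁻¹ v, (cm _ hc v hv).inv_left.eq, hxy]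
    conv_lhs => rw [show y * x * y * v * (y * x * y)⁻¹ = y * (x * (y * v * y⁻¹) * x⁻¹ * v⁻¹) *
      (v * y⁻¹) by group, cj_eq yv, yv.symm.inv_right.eq]
    group
  exact (mul_inv_eq_one.1 (AB _ (mul_mem hw (inv_mem hc)) (e ▸ mul_mem (hy _ hc) hv))).symm

namespace Su

variable {φ : HK F →* G} (h : Su φ) [Finite F]
include h

theorem iso_xx {s : G} (hs : IsConj (φ t0) s) (c : Commute s (φ t0)) (c1 : Commute s (φ (i1 (xx 1)))) :
    s = φ t0 := by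
  obtain ⟨k, rfl⟩ := h.cent s c
  exact h.eq_of_H0 (IsConj.refl _) hs (h.H0_t (h.comm_i1 c1 not_scal_xx).1) (xx_p (φ.comp i1) 1)
    (h.xx_ne one_ne_zero) (h.comm _) c1.symm

theorem mem_oc {D : Subgroup G} {t x : G} (ht : t ∈ D) (o : orderOf t = 2)
    (hi : ∀ d ∈ D, Commute t (d * t * d⁻¹) → d * t * d⁻¹ = t) (hx : x ∈ D) (hp : x ^ ringChar F = 1)
    (e : t * x * t⁻¹ = x⁻¹) : x ∈ oc D := by
  have := zs ht o hi hx
  rw [e, ← _root_.mul_inv_rev, inv_mem_iff] at this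
  exact LyMc.mem_of_sq_mem ((odd_char h.two).of_dvd_nat (orderOf_dvd_of_pow_eq_one hp)) this

theorem oc_i2 {D : Subgroup G} (hD : ∀ Y, φ (i2 Y) ∈ D) {Y : SL2} (hY : φ (i2 Y) ∈ oc D) : Y = 1 := by
  have := Fintype.ofFinite F
  have : ((oc D).comap (φ.comp i2)).Normal := ⟨fun x hx g => by
    simpa using conj_mem_of_mem_normalizer (le_norm_oc D (hD g)) hx⟩
  have e := FW.odd_normal_eq_bot (Nat.odd_iff.2 (FiniteField.odd_card_of_char_ne_two (char_ne h.two)))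
    ((oc D).comap (φ.comp i2)) ((odd_oc D).of_dvd_nat (card_comap_dvd_of_injective _ _
      ((injective_iff_map_eq_one _).2 fun X e => h.i1_inj (by simpa [← ws_i1] using e))))
  exact mem_bot.1 (e ▸ hY)

end Su

namespace Fr

variable {φ : HK F →* G} {V : G → Perm (Fin 4) → Prop} (h : Fr φ V) [Finite F]
include h

theorem pel_inv {e : G} (hp : e ^ ringChar F = 1) (c : Commute e (φ t0))
    (i : φ L4Q.t2 * e * (φ L4Q.t2)⁻¹ = e⁻¹) : ∃ x y, (x ∈ rt φ V 0 1 ∨ x ∈ rt φ V 1 0) ∧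
      (y ∈ rt φ V 2 3 ∨ y ∈ rt φ V 3 2) ∧ e = x * y := by
  obtain ⟨k, rfl⟩ := h.cent e c
  obtain ⟨X, Y, hX, hY, e⟩ := h.unip hp
  rw [e, eq_inv_iff_mul_eq_one, inv_eq_of_mul_eq_one_right (h.sq_of h.conj_t2), ← map_mul, ← map_mul,
    ← map_mul, h.one_iff] at i
  obtain ⟨l, a, b, -⟩ := i
  refine ⟨φ (i1 X), φ (i2 Y), ?_, ?_, e.trans (map_mul ..)⟩
  · exact (unip_inv h.two hX (by simpa using a)).imp (fun ⟨a, e⟩ => h.r01.2 ⟨a, e ▸ rfl⟩)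
      fun ⟨a, e⟩ => h.r10.2 ⟨a, e ▸ rfl⟩
  · exact (unip_inv h.two hY (by simpa using b)).imp (fun ⟨a, e⟩ => h.r23.2 ⟨a, e ▸ rfl⟩)
      fun ⟨a, e⟩ => h.r32.2 ⟨a, e ▸ rfl⟩

theorem tor_sq {k : HK F} (hk : k ∈ Tor) (cJ : Commute (φ k) (φ jj)) {a b : Fin 4} (ab : ¬ Bl a b)
    (c : ∀ y ∈ rt φ V a b, Commute (φ k) y) : φ k * φ k = 1 := by
  obtain ⟨π, rfl, rfl⟩ := ex2 (i := a) (j := b) (by rintro rfl; exact ab rfl)
  obtain ⟨g, hg⟩ := h.ex π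
  obtain ⟨k', hk', e⟩ := h.conjT (h.inv hg) hk
  have c1 : Commute (φ k') (φ (i1 (xx 1))) := by
    simpa [e, mul_assoc] using cj_comm (c _ ((h.rt_iff hg).2 ⟨1, rfl⟩)) g⁻¹
  have c2 := e ▸ cj_comm cJ g⁻¹
  have v := h.mul (h.mul (h.inv hg) h.vJ) (h.inv (h.inv hg))
  have c3 : Commute (φ k') (φ ws) ∨ Commute (φ k') (φ (jj * ws)) := by
    have : π⁻¹ * (swap 0 1 * swap 2 3) * π⁻¹⁻¹ = swap 0 2 * swap 1 3 ∨
      π⁻¹ * (swap 0 1 * swap 2 3) * π⁻¹⁻¹ = swap 0 1 * swap 2 3 * (swap 0 2 * swap 1 3) := by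
      clear v hg c; revert π; decide
    refine this.imp (fun e => ?_) fun e => ?_
    · obtain ⟨τ, hτ, e⟩ := h.quo h.w (h.cast v e)
      rw [e] at c2
      simpa using c2.mul_right ((Tor_comm hk' hτ).map φ).inv_right
    · obtain ⟨τ, hτ, e⟩ := h.quo (h.mul h.vJ h.w) (h.cast v e)
      rw [e] at c2
      simpa using c2.mul_right ((Tor_comm hk' hτ).map φ).inv_right
  have : φ k' * φ k' = 1 := by
    have c1 := (h.comm_i1 c1 not_scal_xx).2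
    obtain ⟨p, q, r, s, e, rfl⟩ := hk'
    rw [h.sq_iff]
    rcases c3 with c | c <;> obtain ⟨l, c4, c5, -⟩ := h.comm_iff.1 c <;> refine ⟨p * p, ?_⟩ <;>
      simp only [HK.mul_a, HK.mul_b, HK.mul_s, dg_a, dg_b, dg_s, ws_a, ws_b, ws_s, jj_a, jj_b, jj_s,
        cond, mm, HK.one_a, HK.one_b, HK.one_s, Bool.xor_false, Bool.false_xor] at * <;> grind
  rwa [e, conj_mul, conj_eq_one_iff] at this

theorem iso_rt {d : G} (hd : d ∈ 𝐂[rt φ V 0 1]) (c : Commute (φ t0) (d * φ t0 * d⁻¹)) :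
    d * φ t0 * d⁻¹ = φ t0 := by
  have : Commute (φ (i1 (xx 1))) d := mem_centralizer_iff.1 hd _ (h.r01.2 ⟨1, rfl⟩)
  exact h.iso_xx (isConj_cj d _) c.symm (cj_eq this.symm ▸ cj_comm (h.comm _).symm d)

theorem t_cent : φ t0 ∈ 𝐂[rt φ V 0 1] :=
  mem_centralizer_iff.2 fun _ hx => h.t_comm (by decide) (by decide) hx

theorem i2_cent (Y : SL2) : φ (i2 Y) ∈ 𝐂[rt φ V 0 1] := mem_centralizer_iff.2 fun _ hx => by
  obtain ⟨a, rfl⟩ := h.r01.1 hx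
  exact (i_comm _ _).map φ

theorem gamma {a b : Fin 4} (ab : ¬ Bl a b) (c : Cm φ V 0 1 a b) {x y : G}
    (px : x ^ ringChar F = 1) (py : y ^ ringChar F = 1) (ix : φ t0 * x * (φ t0)⁻¹ = x⁻¹)
    (iy : φ t0 * y * (φ t0)⁻¹ = y⁻¹) (x1 : ∀ z ∈ rt φ V 0 1, Commute z x)
    (y1 : ∀ z ∈ rt φ V 0 1, Commute z y) (x2 : ∀ z ∈ rt φ V a b, Commute z x)
    (y2 : ∀ z ∈ rt φ V a b, Commute z y) : x * y * x⁻¹ * y⁻¹ ∈ rt φ V 0 1 := by
  have m := fun x => h.mem_oc (x := x) h.t_cent h.ord fun _ => h.iso_rt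
  refine gam (Γ := oc 𝐂[rt φ V 0 1] ⊓ 𝐂[rt φ V a b]) (odd_of_le inf_le_left (odd_oc _)) ?_
    ⟨m x (mem_centralizer_iff.2 x1) px ix, mem_centralizer_iff.2 x2⟩
    ⟨m y (mem_centralizer_iff.2 y1) py iy, mem_centralizer_iff.2 y2⟩ ix iy
  rintro e ⟨e1, e2⟩ e3
  suffices e ∈ rt φ V 0 1 from ⟨this, fun z hz => mem_centralizer_iff.1 (oc_le _ hz.1) e this⟩
  obtain ⟨k, rfl⟩ := h.cent e e3
  have o := odd_orderOf (odd_oc _) e1
  have hs := h.odd_H0 o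
  have c1 := (h.comm_i1 (mem_centralizer_iff.1 (oc_le _ e1) _ (h.r01.2 ⟨1, rfl⟩) : Commute _ _).symm
    not_scal_xx).2
  have c2 : ∀ Y : SL2, k.b * Y.1 = Y.1 * k.b := fun Y => by
    have := k.h
    obtain ⟨Z, hZ⟩ := exists_sl (a := k.b * Y.1 * (k.a.det • adj k.b)) (by
      simp only [det_mul, det_smul2, det_adj, Y.2]; grind)
    have e4 : k * i2 Y * k⁻¹ = i2 Z := mul_inv_eq_iff_eq_mul.2 (by
      ext1 <;> simp [hs, hZ, mul_assoc, adj_mul, smul_smul, this])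
    have e5 := h.oc_i2 h.i2_cent (Y := Z * Y⁻¹) (by
      rw [map_mul, ← e4]
      simpa [mul_assoc] using mul_mem e1 (conj_mem_of_mem_normalizer (le_norm_oc _ (h.i2_cent Y))
        (inv_mem e1)))
    simpa [hs, ← mul_inv_eq_one.1 e5] using congrArg HK.b (mul_inv_eq_iff_eq_mul.1 e4)
  have c3 := scalar_of_comm k.db (l := 1) (m := 1) (by simpa using c2 (xx 1)) (by simpa using c2 (yy 1))
  obtain ⟨p, q, r, s, ea⟩ := ent k.a
  have hk := k.h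
  generalize k.b 0 0 = d at c3
  simp only [ea, c3, mm] at c1 hk
  have e6 : k = dg p p d d (by grind) * i1 (xx (q / p)) := by
    ext1 <;> simp only [ea, c3, hs, HK.mul_a, HK.mul_b, HK.mul_s, dg_a, dg_b, dg_s, i1_a, i1_b, i1_s, cond,
      mm] <;> grind
  have u := h.r01.2 ⟨q / p, rfl⟩
  have e7 := h.tor_sq (k := dg p p d d (by grind)) ⟨_, _, _, _, _, rfl⟩
    (Commute.map (by ext1 <;> simp [mm]) φ) ab fun y hy => by
      have : Commute y (φ k) := mem_centralizer_iff.1 e2 y hy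
      simpa [e6] using this.symm.mul_left (c _ u y hy).inv_left
  refine LyMc.mem_of_sq_mem o ?_
  rw [e6, map_mul, (Commute.map (by ext1 <;> simp [mm, mul_comm]) φ : Commute (φ (i1 (xx (q / p))))
    (φ (dg p p d d (by grind)))).mul_mul_mul_comm, e7, one_mul]
  exact mul_mem u u

theorem disj {i j k l : Fin 4} (e : i ≠ j ∧ i.1 ^^^ j.1 ≠ k.1 ^^^ l.1 ∧ k ≠ l) {x : G}
    (h1 : x ∈ rt φ V i j) (h2 : x ∈ rt φ V k l) : x = 1 := by
  obtain ⟨π, rfl, rfl⟩ := ex2 e.1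
  obtain ⟨g, hg⟩ := h.ex π
  obtain ⟨k, rfl⟩ := π.surjective k
  obtain ⟨l, rfl⟩ := π.surjective l
  rw [← h.rt_perm hg] at h1 h2
  exact h.eq_one ((h.perm hg).rt_p (by decide) h1) ((h.perm hg).t_comm (by decide) (by decide) h1)
    ((h.perm hg).t_inv (by clear h1 h2 hg; revert π k l; decide) h2)

theorem up (a b c d : Fin 3) (H : Cm φ V a.castSucc b.castSucc c.castSucc d.castSucc) {i j k : Fin 4}
    (e : i ≠ j ∧ i ≠ k ∧ j ≠ k) : Cm φ V (![i, j, k] a) (![i, j, k] b) (![i, j, k] c) (![i, j, k] d) := by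
  obtain ⟨π, rfl, rfl, rfl⟩ := ex3 e.1 e.2.1 e.2.2
  have : ∀ a : Fin 3, ![π 0, π 1, π 2] a = π a.castSucc := fun a => by fin_cases a <;> rfl
  simp only [this]
  exact h.cm_perm π H

theorem notM : ¬ Cm φ V 0 1 1 2 := fun H => by
  have M : ∀ {i j k}, i ≠ j ∧ i ≠ k ∧ j ≠ k → Cm φ V i j j k := h.up 0 1 1 2 H
  have key : ∀ (ψ : HK F →* G) W, Fr ψ W → (∀ {i j k}, i ≠ j ∧ i ≠ k ∧ j ≠ k → Cm ψ W i j j k) →
      (∀ x ∈ rt ψ W 1 2, ∀ y ∈ rt ψ W 1 3, x * y * x⁻¹ * y⁻¹ ∈ rt ψ W 0 1) ∧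
      ∀ x ∈ rt ψ W 2 0, ∀ y ∈ rt ψ W 3 0, x * y * x⁻¹ * y⁻¹ ∈ rt ψ W 0 1 := fun ψ W h M =>
    ⟨fun x hx y hy => h.gamma (a := 2) (b := 0) (by decide) (M (by decide)).symm
      (h.rt_p (by decide) hx) (h.rt_p (by decide) hy) (h.t_inv (by decide) hx) (h.t_inv (by decide) hy)
      (fun z hz => M (by decide) z hz x hx) (fun z hz => M (by decide) z hz y hy)
      (fun z hz => (M (by decide) x hx z hz).symm) fun z hz => h.cm_far (by decide) z hz y hy,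
    fun x hx y hy => h.gamma (a := 1) (b := 2) (by decide) (M (by decide))
      (h.rt_p (by decide) hx) (h.rt_p (by decide) hy) (h.t_inv (by decide) hx) (h.t_inv (by decide) hy)
      (fun z hz => (M (by decide) x hx z hz).symm) (fun z hz => (M (by decide) y hy z hz).symm)
      (fun z hz => M (by decide) z hz x hx) fun z hz => h.cm_far (by decide) z hz y hy⟩
  have key2 : ∀ π : Perm (Fin 4), (∀ x ∈ rt φ V (π 1) (π 2), ∀ y ∈ rt φ V (π 1) (π 3),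
      x * y * x⁻¹ * y⁻¹ ∈ rt φ V (π 0) (π 1)) ∧ ∀ x ∈ rt φ V (π 2) (π 0), ∀ y ∈ rt φ V (π 3) (π 0),
      x * y * x⁻¹ * y⁻¹ ∈ rt φ V (π 0) (π 1) := fun π => by
    obtain ⟨g, hg⟩ := h.ex π
    simpa only [h.rt_perm hg] using key _ _ (h.perm hg) fun e => by
      simpa only [Cm, h.rt_perm hg] using M (by simpa using e)
  obtain ⟨v, hv, v1⟩ := h.rt_ne (i := 1) (j := 2) (by decide)
  have hx := h.r01.2 ⟨1, rfl⟩
  have hy := h.r10.2 ⟨-1, rfl⟩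
  have hu : _ ∈ rt φ V 0 2 := h.rt_conj h.n1 hv
  have en : φ (i1 jS) = φ (i1 (xx 1)) * φ (i1 (yy (-1))) * φ (i1 (xx 1)) := by
    simp only [← map_mul]; congr 2; exact Subtype.ext (by simp [mm])
  rw [en] at hu
  generalize φ (i1 (xx 1)) = x at hx hu
  generalize φ (i1 (yy (-1))) = y at hy hu
  have hc : _ ∈ rt φ V 3 1 := (key2 (swap 0 2 * swap 0 3)).1 y hy v hv
  have hd : _ ∈ rt φ V 1 2 := (key2 (swap 0 2 * swap 0 1)).2 x hx _ hc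
  have xv := M (by decide) x hx v hv
  have e : x * y * x * v * (x * y * x)⁻¹ * (y * v * y⁻¹ * v⁻¹)⁻¹ =
      x * (y * v * y⁻¹ * v⁻¹) * x⁻¹ * (y * v * y⁻¹ * v⁻¹)⁻¹ * v := by
    rw [mul_assoc _ (y * v * y⁻¹ * v⁻¹)⁻¹ v, (M (by decide) _ hc v hv).inv_left.eq]
    conv_lhs => rw [show x * y * x * v * (x * y * x)⁻¹ = x * (y * (x * v * x⁻¹) * y⁻¹ * v⁻¹) *
      (v * x⁻¹) by group, cj_eq xv, xv.symm.inv_right.eq]
    group
  obtain ⟨g, hg⟩ := h.ex (swap 1 2)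
  have h' := h.perm hg
  have e1 : x * y * x * v * (x * y * x)⁻¹ = y * v * y⁻¹ * v⁻¹ := mul_inv_eq_one.1 (by
    have m := e ▸ mul_mem hd hv
    exact h.eq_one (h.rt_p (by decide) m) ((h'.t_comm (i := 0) (j := 1) (by decide) (by decide)
      (h.rt_perm hg _ _ ▸ hu)).mul_left (h'.t_comm (i := 3) (j := 2) (by decide) (by decide)
      (h.rt_perm hg _ _ ▸ hc)).inv_left) (h'.t_inv (i := 2) (j := 1) (by decide) (h.rt_perm hg _ _ ▸ m)))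
  obtain ⟨a, ea⟩ := h'.r01.1 ((h.rt_perm hg 0 1).ge hu)
  obtain ⟨b, eb⟩ := h'.r32.1 ((h.rt_perm hg 3 2).ge hc)
  obtain ⟨l, e2, -⟩ := (h'.eq _ _).1 (ea.trans (e1.trans eb.symm))
  obtain rfl : a = 0 := by simp only [i1_a, i2_a, mm] at e2; grind
  exact v1 (conj_eq_one_iff.1 (ea.symm.trans (by simp [xx_zero])))

end Fr

end Cfsg.Agent.L4Q
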