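import Cfsg.Agent.L4Q.Frame
import Cfsg.Agent.FW.Mat
import Cfsg.Agent.LyMc.Gen

/-! # Root subgroups -/

set_option autoImplicit false
set_option linter.unusedSectionVars false

namespace Cfsg.Agent.L4Q

open Matrix Cfsg.Agent.RootSub Subgroup Cfsg.Agent.PLocal.Amb Cfsg.Agent.Lyons Equiv

variable {F : Type*} [Field F] {G : Type*} [Group G] [Finite G]

local notation "SL2" => Matrix.SpecialLinearGroup (Fin 2) F

/-- the root subgroups -/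
def rt (φ : HK F →* G) (V : G → Perm (Fin 4) → Prop) (i j : Fin 4) : Subgroup G where
  carrier := {x | ∀ g π, V g π → π 0 = i → π 1 = j → ∃ a, g * φ (i1 (xx a)) * g⁻¹ = x}
  one_mem' := fun g _ _ _ _ => ⟨0, by simp [xx_zero]⟩
  mul_mem' := fun hx hy g π a b c => by
    obtain ⟨u, rfl⟩ := hx g π a b c
    obtain ⟨v, rfl⟩ := hy g π a b c
    exact ⟨u + v, by simp [← xx_mul]⟩
  inv_mem' := fun hx g π a b c => by
    obtain ⟨u, rfl⟩ := hx g π a b c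
    exact ⟨-u, by simp [← xx_inv, mul_assoc]⟩

/-- two root subgroups commute -/
def Cm (φ : HK F →* G) (V : G → Perm (Fin 4) → Prop) (i j k l : Fin 4) : Prop :=
  ∀ x ∈ rt φ V i j, ∀ y ∈ rt φ V k l, Commute x y

/-- in the same block of `{0, 1}, {2, 3}` -/
abbrev Bl (i j : Fin 4) : Prop := i.1 / 2 = j.1 / 2

theorem ex2 : ∀ {i j : Fin 4}, i ≠ j → ∃ π : Perm (Fin 4), π 0 = i ∧ π 1 = j := by decide
theorem ex3 : ∀ {i j k : Fin 4}, i ≠ j → i ≠ k → j ≠ k →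
    ∃ π : Perm (Fin 4), π 0 = i ∧ π 1 = j ∧ π 2 = k := by decide

theorem gam {Γ N : Subgroup G} {t x y : G} (ho : Odd (Nat.card Γ)) (hc : ∀ c ∈ Γ, Commute c t → c ∈ N ∧ ∀ z ∈ Γ, Commute c z)
    (hx : x ∈ Γ) (hy : y ∈ Γ) (ix : t * x * t⁻¹ = x⁻¹) (iy : t * y * t⁻¹ = y⁻¹) :
    x * y * x⁻¹ * y⁻¹ ∈ N := by
  have hm : y * x * (x * y) ∈ Γ := mul_mem (mul_mem hy hx) (mul_mem hx hy)
  obtain ⟨r, hr⟩ := odd_orderOf ho hm
  have e1 : t * (y * x * (x * y)) * t⁻¹ = (y * x * (x * y))⁻¹ := by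
    simp only [← conj_mul, ix, iy]; group
  have e2 := Inv.conj_pow_of_inverts e1 (r + 1)
  have e3 : (y * x * (x * y)) ^ (r + 1) * (y * x * (x * y)) ^ (r + 1) = y * x * (x * y) := by
    rw [← pow_add, show r + 1 + (r + 1) = 2 * r + 1 + 1 by ring, pow_succ, ← hr, pow_orderOf_eq_one,
      one_mul]
  have hi := pow_mem hm (r + 1)
  generalize (y * x * (x * y)) ^ (r + 1) = i at e2 e3 hi
  have e4 : x⁻¹ * y⁻¹ * i = x * y * i⁻¹ := by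
    rw [eq_mul_inv_iff_mul_eq, mul_assoc, e3]; group
  obtain ⟨c1, c2⟩ := hc (x * y * i⁻¹) (mul_mem (mul_mem hx hy) (inv_mem hi)) (comm_of_cj (by
    rw [← conj_mul, ← conj_mul, ← conj_inv, ix, iy, e2, inv_inv, e4])).symm
  convert mul_mem c1 c1 using 1
  calc _ = x * y * i⁻¹ * (i * (x⁻¹ * y⁻¹ * i) * i⁻¹) := by group
    _ = _ := by rw [e4, cj_eq (c2 i hi).symm]

theorem tor_act {k : HK F} (hk : k ∈ Tor ∨ (i2 jS)⁻¹ * k ∈ Tor) : ∃ c : F, c ≠ 0 ∧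
    ∀ a, k * i1 (xx a) * k⁻¹ = i1 (xx (c * a)) ∧ k * i1 (yy a) * k⁻¹ = i1 (yy (a / c)) := by
  obtain ⟨x, y, z, u, e, h1, h2⟩ : ∃ x y z u, x * y * (z * u) = 1 ∧ k.a = !![x, 0; 0, y] ∧ k.s = false := by
    rcases hk with ⟨x, y, z, u, e, rfl⟩ | ⟨x, y, z, u, e, hk⟩
    · exact ⟨x, y, z, u, e, rfl, rfl⟩
    · rw [inv_mul_eq_iff_eq_mul] at hk
      exact ⟨x, y, z, u, e, by simp [hk], by simp [hk]⟩
  refine ⟨x / y, by grind, fun a => ⟨?_, ?_⟩⟩ <;> rw [mul_inv_eq_iff_eq_mul] <;> ext1 <;>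
    simp only [HK.mul_a, HK.mul_b, HK.mul_s, h1, h2, cond, i1_a, i1_b, i1_s, mul_one, one_mul] <;>
    simp only [mm] <;> grind

namespace Fr

variable {φ : HK F →* G} {V : G → Perm (Fin 4) → Prop} (h : Fr φ V) [Finite F]
include h

theorem vT {k : HK F} (hk : k ∈ Tor) : V (φ k) 1 := (h.tor _).2 ⟨k, hk, rfl⟩

theorem inv {g : G} {π : Perm (Fin 4)} (hg : V g π) : V g⁻¹ π⁻¹ := by
  obtain ⟨b, hb⟩ := h.ex π⁻¹
  have := h.mul hg hb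
  rw [mul_inv_cancel, h.tor] at this
  simpa using h.mul hb ((h.tor _).2 (inv_mem this))

theorem cast {g : G} {π σ : Perm (Fin 4)} (hg : V g π) (e : π = σ) : V g σ := e ▸ hg

theorem quo {g g' : G} {π : Perm (Fin 4)} (hg : V g π) (hg' : V g' π) :
    ∃ k ∈ Tor, g' = g * φ k := by
  obtain ⟨k, hk, e⟩ := (h.tor _).1 (h.cast (h.mul (h.inv hg) hg') (inv_mul_cancel π))
  exact ⟨k, hk, by simp [e]⟩

theorem vJ : V (φ jj) (swap 0 1 * swap 2 3) := by rw [jj_eq, map_mul]; exact h.mul h.n1 h.n2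

theorem conjT {g : G} {π : Perm (Fin 4)} (hg : V g π) {k : HK F} (hk : k ∈ Tor) :
    ∃ k' ∈ Tor, φ k' = g * φ k * g⁻¹ :=
  (h.tor _).1 (h.cast (h.mul (h.mul hg (h.vT hk)) (h.inv hg)) (by simp))

theorem act {g : G} {π : Perm (Fin 4)} (hg : V g π) (h0 : π 0 = 0) (h1 : π 1 = 1) : ∃ c : F, c ≠ 0 ∧
    ∀ a, g * φ (i1 (xx a)) * g⁻¹ = φ (i1 (xx (c * a))) ∧
      g * φ (i1 (yy a)) * g⁻¹ = φ (i1 (yy (a / c))) := by
  obtain ⟨k, rfl, hk⟩ : ∃ k, φ k = g ∧ (k ∈ Tor ∨ (i2 jS)⁻¹ * k ∈ Tor) := by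
    obtain rfl | rfl : π = 1 ∨ π = swap 2 3 := by clear hg; revert π; decide
    · obtain ⟨k, hk, e⟩ := (h.tor _).1 hg
      exact ⟨k, e, Or.inl hk⟩
    · obtain ⟨k, hk, rfl⟩ := h.quo h.n2 hg
      exact ⟨_, map_mul φ _ _, Or.inr (by simpa using hk)⟩
  obtain ⟨c, c0, e⟩ := tor_act hk
  exact ⟨c, c0, fun a => by simp only [← (e a).1, ← (e a).2, map_mul, map_inv, and_self]⟩

theorem rt_iff {g x : G} {π : Perm (Fin 4)} (hg : V g π) :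
    x ∈ rt φ V (π 0) (π 1) ↔ ∃ a, g * φ (i1 (xx a)) * g⁻¹ = x := by
  refine ⟨fun hx => hx g π hg rfl rfl, ?_⟩
  rintro ⟨a, rfl⟩ g' σ hg' h0 h1
  obtain ⟨c, -, e⟩ := h.act (h.mul (h.inv hg') hg) (by simp [← h0]) (by simp [← h1])
  exact ⟨c * a, by rw [← (e a).1]; group⟩

theorem rt_conj {g x : G} {π : Perm (Fin 4)} (hg : V g π) {i j : Fin 4} (hx : x ∈ rt φ V i j) :
    g * x * g⁻¹ ∈ rt φ V (π i) (π j) := fun g' σ hg' h0 h1 => by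
  obtain ⟨a, rfl⟩ := hx _ _ (h.mul (h.inv hg) hg') (by simp [h0]) (by simp [h1])
  exact ⟨a, by group⟩

theorem rt_conj' {g x : G} {π : Perm (Fin 4)} (hg : V g π) {i j : Fin 4}
    (hx : x ∈ rt φ V (π i) (π j)) : ∃ y ∈ rt φ V i j, g * y * g⁻¹ = x :=
  ⟨g⁻¹ * x * g, by simpa using h.rt_conj (h.inv hg) hx, by group⟩

theorem r01 {x : G} : x ∈ rt φ V 0 1 ↔ ∃ a, φ (i1 (xx a)) = x := by
  simpa using h.rt_iff (h.vT (one_mem _)) (x := x)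

theorem r10 {x : G} : x ∈ rt φ V 1 0 ↔ ∃ a, φ (i1 (yy a)) = x := by
  have e : ∀ a, φ (i1 jS) * φ (i1 (xx a)) * (φ (i1 jS))⁻¹ = φ (i1 (yy (-a))) := fun a => by
    rw [← map_inv, ← map_mul, ← map_mul]
    exact congrArg φ (mul_inv_eq_iff_eq_mul.2 (by ext1 <;> simp [mm]))
  refine (h.rt_iff h.n1 (x := x)).trans ?_
  simp only [e]
  exact (Equiv.neg F).exists_congr fun _ => Iff.rfl

theorem r23 {x : G} : x ∈ rt φ V 2 3 ↔ ∃ a, φ (i2 (xx a)) = x := by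
  refine (h.rt_iff h.w (x := x)).trans ?_
  simp [← ws_i1]

theorem r32 {x : G} : x ∈ rt φ V 3 2 ↔ ∃ a, φ (i2 (yy a)) = x := by
  refine ⟨fun hx => ?_, ?_⟩
  · obtain ⟨y, hy, rfl⟩ := h.rt_conj' h.w (i := 1) (j := 0) hx
    obtain ⟨a, rfl⟩ := h.r10.1 hy
    exact ⟨a, by simp [← ws_i1]⟩
  · rintro ⟨a, rfl⟩
    rw [← ws_i1, map_mul, map_mul, map_inv]
    exact h.rt_conj h.w (h.r10.2 ⟨a, rfl⟩)

theorem perm {x : G} {π : Perm (Fin 4)} (hx : V x π) :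
    Fr ((MulAut.conj x).toMonoidHom.comp φ) fun g σ => V g (π * σ * π⁻¹) := by
  have c : ∀ {g σ}, V g σ → V (x * g * x⁻¹) (π * σ * π⁻¹) := fun hg => h.mul (h.mul hx hg) (h.inv hx)
  refine ⟨h.conj x, fun a b => h.cast (h.mul a b) (by group), fun σ => h.ex _, fun g => ?_, c h.n1,
    c h.n2, c h.w, fun g hg => ?_, ((isConj_cj x _).symm.trans h.wt).trans (isConj_cj x _)⟩
  · rw [mul_one, mul_inv_cancel, h.tor]
    refine ⟨?_, ?_⟩ <;> rintro ⟨k, hk, rfl⟩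
    · obtain ⟨k', a, b⟩ := h.conjT (h.inv hx) hk
      exact ⟨k', a, by simp [b, mul_assoc]⟩
    · exact h.conjT hx hk
  · obtain ⟨a, b⟩ := h.t2 _ (h.cast (h.mul (h.mul (h.inv hx) hg) hx) (by group))
    simp only [MonoidHom.comp_apply, MulEquiv.coe_toMonoidHom, MulAut.conj_apply]
    constructor
    · rw [← a]; group
    · conv_rhs => rw [← b]
      group

theorem rt_perm {x : G} {π : Perm (Fin 4)} (hx : V x π) (i j : Fin 4) :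
    rt ((MulAut.conj x).toMonoidHom.comp φ) (fun g σ => V g (π * σ * π⁻¹)) i j = rt φ V (π i) (π j) := by
  ext y
  refine ⟨fun hy g σ hg h0 h1 => ?_, fun hy g σ hg h0 h1 => ?_⟩
  · obtain ⟨a, e⟩ := hy (g * x⁻¹) (π⁻¹ * σ) (h.cast (h.mul hg (h.inv hx)) (by group)) (by simp [h0])
      (by simp [h1])
    exact ⟨a, by simpa [mul_assoc] using e⟩
  · obtain ⟨a, e⟩ := hy _ _ (h.mul hg hx) (by simp [h0]) (by simp [h1])
    exact ⟨a, by simpa [mul_assoc] using e⟩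

theorem cm_perm (π : Perm (Fin 4)) {i j k l : Fin 4} (c : Cm φ V i j k l) :
    Cm φ V (π i) (π j) (π k) (π l) := fun x hx y hy => by
  obtain ⟨g, hg⟩ := h.ex π
  obtain ⟨x, hx', rfl⟩ := h.rt_conj' hg hx
  obtain ⟨y, hy', rfl⟩ := h.rt_conj' hg hy
  exact cj_comm (c x hx' y hy') g

omit h in
theorem _root_.Cfsg.Agent.L4Q.Cm.symm {i j k l : Fin 4} (c : Cm φ V i j k l) : Cm φ V k l i j :=
  fun x hx y hy => (c y hy x hx).symm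

theorem cm_self {i j : Fin 4} (e : i ≠ j) : Cm φ V i j i j := by
  obtain ⟨π, rfl, rfl⟩ := ex2 e
  refine h.cm_perm π fun x hx y hy => ?_
  obtain ⟨a, rfl⟩ := h.r01.1 hx
  obtain ⟨b, rfl⟩ := h.r01.1 hy
  exact (Commute.map (by rw [Commute, SemiconjBy, xx_mul, xx_mul, add_comm]) i1).map φ

theorem cm_far {i j k l : Fin 4} (e : i ≠ j ∧ i ≠ k ∧ j ≠ k ∧ l ≠ i ∧ l ≠ j ∧ l ≠ k) :
    Cm φ V i j k l := by
  obtain ⟨π, rfl, rfl, rfl⟩ := ex3 e.1 e.2.1 e.2.2.1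
  obtain rfl : l = π 3 := by revert π l; decide
  refine h.cm_perm π fun x hx y hy => ?_
  obtain ⟨a, rfl⟩ := h.r01.1 hx
  obtain ⟨b, rfl⟩ := h.r23.1 hy
  exact (i_comm _ _).map φ

theorem rt_p {i j : Fin 4} (e : i ≠ j) {x : G} (hx : x ∈ rt φ V i j) : x ^ ringChar F = 1 := by
  obtain ⟨π, rfl, rfl⟩ := ex2 e
  obtain ⟨g, hg⟩ := h.ex π
  obtain ⟨a, rfl⟩ := (h.rt_iff hg).1 hx
  simpa using Su.xx_p (φ.comp i1) a

theorem odd_p {x : G} (hx : x ^ ringChar F = 1) : Odd (orderOf x) :=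
  (odd_char h.two).of_dvd_nat (orderOf_dvd_of_pow_eq_one hx)

theorem rt_ne {i j : Fin 4} (e : i ≠ j) : ∃ x ∈ rt φ V i j, x ≠ 1 := by
  obtain ⟨π, rfl, rfl⟩ := ex2 e
  obtain ⟨g, hg⟩ := h.ex π
  exact ⟨_, (h.rt_iff hg).2 ⟨1, rfl⟩, by simpa using h.xx_ne one_ne_zero⟩

/-- the torus is transitive on the nonidentity elements of a root subgroup -/
theorem irr {i j : Fin 4} (e : i ≠ j) {x y : G} (hx : x ∈ rt φ V i j) (hy : y ∈ rt φ V i j)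
    (x1 : x ≠ 1) (y1 : y ≠ 1) : ∃ k ∈ Tor, φ k * x * (φ k)⁻¹ = y := by
  obtain ⟨π, rfl, rfl⟩ := ex2 e
  obtain ⟨g, hg⟩ := h.ex π
  obtain ⟨a, rfl⟩ := (h.rt_iff hg).1 hx
  obtain ⟨b, rfl⟩ := (h.rt_iff hg).1 hy
  have a0 : a ≠ 0 := by rintro rfl; simp [xx_zero] at x1
  have b0 : b ≠ 0 := by rintro rfl; simp [xx_zero] at y1
  obtain ⟨k, hk, e⟩ := h.conjT hg (k := dg (b / a) 1 1 (a / b) (by grind)) ⟨_, _, _, _, _, rfl⟩
  refine ⟨k, hk, ?_⟩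
  rw [e, conj_inv, conj_mul, conj_mul, ← map_inv, ← map_mul, ← map_mul]
  congr 3
  exact mul_inv_eq_iff_eq_mul.2 (by ext1 <;> simp [mm, a0])

theorem cm_of {i j k l : Fin 4} (e : i ≠ j) {x : G} (hx : x ∈ rt φ V i j) (x1 : x ≠ 1)
    (c : ∀ y ∈ rt φ V k l, Commute x y) : Cm φ V i j k l := fun z hz y hy => by
  by_cases z1 : z = 1
  · simp [z1]
  obtain ⟨τ, hτ, rfl⟩ := h.irr e hx hz x1 z1
  obtain ⟨y, hy', rfl⟩ := h.rt_conj' (h.vT hτ) (i := k) (j := l) hy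
  exact cj_comm (c y hy') _

theorem memH {g : G} {π : Perm (Fin 4)} (hg : V g π) (b : Bl (π 0) (π 1)) : Commute g (φ t0) := by
  obtain ⟨k, hk⟩ : ∃ k, V (φ k) π := by
    obtain rfl | rfl | rfl | rfl | rfl | rfl | rfl | rfl : π = 1 ∨ π = swap 0 1 ∨ π = swap 2 3 ∨
      π = swap 0 1 * swap 2 3 ∨ π = swap 0 2 * swap 1 3 ∨ π = swap 0 1 * (swap 0 2 * swap 1 3) ∨
      π = swap 2 3 * (swap 0 2 * swap 1 3) ∨ π = swap 0 1 * swap 2 3 * (swap 0 2 * swap 1 3) := by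
      clear hg; revert π; decide
    exacts [⟨_, h.vT (one_mem _)⟩, ⟨_, h.n1⟩, ⟨_, h.n2⟩, ⟨_, h.vJ⟩, ⟨_, h.w⟩,
      ⟨_, map_mul φ _ _ ▸ h.mul h.n1 h.w⟩, ⟨_, map_mul φ _ _ ▸ h.mul h.n2 h.w⟩,
      ⟨_, map_mul φ _ _ ▸ h.mul h.vJ h.w⟩]
  obtain ⟨τ, -, rfl⟩ := h.quo hk hg
  exact (h.comm k).mul_left (h.comm τ)

theorem to_t2 {g : G} {π : Perm (Fin 4)} (hg : V g π) (b : Bl (swap 1 2 (π 0)) (swap 1 2 (π 1))) :
    g * φ t0 * g⁻¹ = φ L4Q.t2 := by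
  obtain ⟨x, hx⟩ := h.ex (swap 1 2)
  rw [← (h.t2 x hx).1]
  conv_rhs => rw [← cj_eq (h.memH (h.mul (h.inv hx) hg) b)]
  group

theorem t_inv {i j : Fin 4} (b : ¬ Bl i j) {x : G} (hx : x ∈ rt φ V i j) :
    φ t0 * x * (φ t0)⁻¹ = x⁻¹ := by
  obtain ⟨π, b', rfl, rfl⟩ : ∃ π : Perm (Fin 4), Bl (π 0) (π 1) ∧ π 0 = i ∧ π 2 = j := by
    clear hx; revert i j; decide
  obtain ⟨g, hg⟩ := h.ex π
  obtain ⟨y, hy⟩ := h.ex (swap 1 2)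
  obtain ⟨a, rfl⟩ := (h.rt_iff (h.mul hg hy)).1 hx
  have : φ L4Q.t2 * φ (i1 (xx a)) * (φ L4Q.t2)⁻¹ = (φ (i1 (xx a)))⁻¹ := by
    rw [← map_inv, ← map_inv, ← map_inv, xx_inv, ← map_mul, ← map_mul]
    exact congrArg φ (mul_inv_eq_iff_eq_mul.2 (by ext1 <;> simp [mm]))
  rw [conj_inv, ← this, ← cj_eq (h.memH hg b'), ← (h.t2 y hy).2]
  group

theorem t_comm {i j : Fin 4} (e : i ≠ j) (b : Bl i j) {x : G} (hx : x ∈ rt φ V i j) :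
    Commute x (φ t0) := by
  obtain ⟨π, rfl, rfl⟩ := ex2 e
  obtain ⟨g, hg⟩ := h.ex π
  obtain ⟨a, rfl⟩ := (h.rt_iff hg).1 hx
  exact ((h.memH hg b).mul_left (h.comm _)).mul_left (h.memH hg b).inv_left

theorem eq_one {x s : G} (hp : x ^ ringChar F = 1) (c : Commute x s) (e : s * x * s⁻¹ = x⁻¹) : x = 1 :=
  Inv.eq_one_of_mul_self_of_odd (by rw [cj_eq c.symm] at e; exact mul_eq_one_iff_eq_inv.2 e) (h.odd_p hp)

end Fr

end Cfsg.Agent.L4Q
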