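import Cfsg.Agent.L4Q.Rel
import Cfsg.Agent.L4Q.Link
import Cfsg.Agent.CT.SLn

/-! # The Steinberg relations -/

set_option autoImplicit false
set_option linter.unusedSectionVars false

namespace Cfsg.Agent.L4Q

open Matrix Cfsg.Agent.RootSub Subgroup Cfsg.Agent.PLocal.Amb Cfsg.Agent.Lyons Equiv Cfsg.Agent.CT.L

variable {F : Type*} [Field F] {G : Type*} [Group G] [Finite G]

local notation "SL2" => Matrix.SpecialLinearGroup (Fin 2) F

def wa (a : F) : SL2 := xx a * yy (-a⁻¹) * xx a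
def hd (a : F) : SL2 := wa a * jS⁻¹

theorem wa_coe {a : F} (h : a ≠ 0) : (wa a).1 = !![0, a; -a⁻¹, 0] := by simp [wa, h]
theorem wa_eq (a : F) : wa a = hd a * jS := by simp [hd]
theorem hd_coe {a : F} (h : a ≠ 0) : (hd a).1 = !![a, 0; 0, a⁻¹] :=
  mul_cancel_det' (a := jm) (by simp [det_jm]) (by
    rw [← jS_coe, ← Matrix.SpecialLinearGroup.coe_mul, ← wa_eq, wa_coe h]; simp [mm])
theorem wa_eq' {a : F} (h : a ≠ 0) : wa a = jS * hd a⁻¹ :=
  Subtype.ext (by simp [wa_coe h, hd_coe (inv_ne_zero h), mm])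
theorem wa_jS {a : F} (h : a ≠ 0) : wa a * jS = hd (-a) :=
  Subtype.ext (by simp [wa_coe h, hd_coe (neg_ne_zero.2 h), mm, inv_neg])
theorem wa_br {a : F} (h : a ≠ 0) : wa a = yy (-a⁻¹) * xx a * yy (-a⁻¹) :=
  Subtype.ext (by simp [wa_coe h, h])
theorem hd_one : hd (1 : F) = 1 := Subtype.ext (by simp [hd_coe, mm])
theorem hd_tor {a : F} (h : a ≠ 0) : i1 (hd a) ∈ Tor := by simp [mem_Tor', hd_coe h]

/-- the action of a diagonal matrix -/
def Dg (f : SL2 →* G) (g : G) (c : F) : Prop :=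
  ∀ b, g * f (xx b) * g⁻¹ = f (xx (c * b)) ∧ g * f (yy b) * g⁻¹ = f (yy (b / c))

/-- the commutator formulas -/
def Kx (e : SL2 →* G) (v : G) : Prop :=
  ∀ a, a ≠ 0 → e (xx a) * v * (e (xx a))⁻¹ * v⁻¹ = e (wa a) * v * (e (wa a))⁻¹
def Ky (e : SL2 →* G) (v : G) : Prop :=
  ∀ a, a ≠ 0 → e (yy a) * v * (e (yy a))⁻¹ * v⁻¹ = e (wa (-a⁻¹)) * v * (e (wa (-a⁻¹)))⁻¹

/-- the root elements of `SL₃` -/
def x3 (e f : SL2 →* G) : Fin 3 → Fin 3 → F → G :=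
  ![![fun _ => 1, fun a => e (xx a), fun a => e jS * f (xx a) * (e jS)⁻¹],
    ![fun a => e (yy a), fun _ => 1, fun a => f (xx a)],
    ![fun a => e jS * f (yy a) * (e jS)⁻¹, fun a => f (yy a), fun _ => 1]]

theorem cm_inv {x y z : G} (h : x * y * x⁻¹ * y⁻¹ = z⁻¹) : y * x * y⁻¹ * x⁻¹ = z := by
  rw [← inv_inv z, ← h]; group

theorem edge_of {e f : SL2 →* G} (i : Function.Injective f)
    (cm : ∀ i j k l : Fin 3, i ≠ j → k ≠ l → i ≠ l → j ≠ k → ∀ a b, Commute (x3 e f i j a) (x3 e f k l b))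
    (a1 : ∀ a, a ≠ 0 → ∃ c, c ≠ 0 ∧ Dg f (e (hd a)) c) (a2 : ∀ a, a ≠ 0 → ∃ c, c ≠ 0 ∧ Dg e (f (hd a)) c)
    (a3 : ∃ c : F, c ≠ 0 ∧ ∀ a, f jS * e (xx a) * (f jS)⁻¹ = x3 e f 0 2 (c * a) ∧
      f jS * e (yy a) * (f jS)⁻¹ = x3 e f 2 0 (a / c))
    (k1 : ∀ b, Kx e (f (xx b))) (k2 : ∀ b, Kx e (x3 e f 2 0 b)) (k3 : ∀ b, Ky e (x3 e f 0 2 b))
    (k4 : ∀ b, Kx f (e (xx b))) (k5 : ∀ b, Kx f (x3 e f 2 0 b)) (k6 : ∀ b, Ky f (e (yy b)))
    (k7 : ∀ b, Ky f (x3 e f 0 2 b)) : Edge e f := by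
  have w1 : ∀ (e : SL2 →* G) a v, a ≠ 0 → e (wa a) * v * (e (wa a))⁻¹ =
      e jS * (e (hd a⁻¹) * v * (e (hd a⁻¹))⁻¹) * (e jS)⁻¹ := fun e a v h => by
    rw [wa_eq' h, map_mul]; group
  have w2 : ∀ (e : SL2 →* G) a v, a ≠ 0 → e (wa a) * (e jS * v * (e jS)⁻¹) * (e (wa a))⁻¹ =
      e (hd (-a)) * v * (e (hd (-a)))⁻¹ := fun e a v h => by
    rw [← wa_jS h, map_mul]; group
  have E : ∀ a b, a ≠ 0 → b ≠ 0 → e jS * (e (hd a⁻¹) * f (xx b) * (e (hd a⁻¹))⁻¹) * (e jS)⁻¹ =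
      f jS * (f (hd b⁻¹) * e (xx (-a)) * (f (hd b⁻¹))⁻¹) * (f jS)⁻¹ := fun a b ha hb => by
    rw [← w1 _ _ _ ha, ← w1 _ _ _ hb, ← k1 b a ha, ← xx_inv, map_inv, ← conj_inv, ← k4 a b hb]; group
  obtain ⟨c, -, a3⟩ := a3
  obtain rfl : c = -1 := by
    have := E 1 1 one_ne_zero one_ne_zero
    simp only [inv_one, hd_one, map_one, one_mul, mul_one, (a3 _).1] at this
    have := xx_injective (i (mul_left_cancel (mul_right_cancel this)))
    grind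
  have A : ∀ a, a ≠ 0 → Dg f (e (hd a⁻¹)) a := fun a ha => by
    obtain ⟨c, -, h⟩ := a1 _ (inv_ne_zero ha)
    have := E a 1 ha one_ne_zero
    simp only [inv_one, hd_one, map_one, one_mul, mul_one, (a3 _).1, (h _).1] at this
    have := xx_injective (i (mul_left_cancel (mul_right_cancel this)))
    rwa [show a = c by grind] at h ⊢
  have B : ∀ a, a ≠ 0 → Dg e (f (hd a⁻¹)) a := fun a ha => by
    obtain ⟨c, -, h⟩ := a2 _ (inv_ne_zero ha)
    have := E 1 a one_ne_zero ha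
    simp only [inv_one, hd_one, map_one, one_mul, mul_one, (a3 _).1, (h _).1] at this
    have := xx_injective (i (mul_left_cancel (mul_right_cancel this)))
    rwa [show a = c by grind] at h ⊢
  have c1 : ∀ a, x3 e f 0 2 a = f jS * e (xx (-a)) * (f jS)⁻¹ := fun a => by simp [(a3 _).1]
  have c2 : ∀ a, x3 e f 2 0 a = f jS * e (yy (-a)) * (f jS)⁻¹ := fun a => by simp [(a3 _).2]
  have z : ∀ i j, x3 e f i j 0 = 1 := fun i j => by
    fin_cases i <;> fin_cases j <;> simp [x3, xx_zero, yy_zero]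
  refine ⟨x3 e f, ⟨fun i j _ a b => ?_, cm, fun i j l h1 h2 h3 a b => ?_⟩, fun _ => ⟨rfl, rfl, rfl, rfl⟩⟩
  · fin_cases i <;> fin_cases j <;> simp [x3, ← xx_mul, ← yy_mul]
  by_cases ha : a = 0
  · simp [ha, z]
  by_cases hb : b = 0
  · simp [hb, z]
  have na := neg_ne_zero.2 (inv_ne_zero ha)
  have nb := neg_ne_zero.2 (inv_ne_zero hb)
  fin_cases i <;> fin_cases j <;> fin_cases l <;> first | contradiction | skip
  · exact (k1 b a ha).trans ((w1 _ _ _ ha).trans (by rw [(A a ha b).1]; rfl))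
  · refine cm_inv ((k7 a b hb).trans ?_)
    change _ = (e (xx _))⁻¹
    rw [c1, w2 _ _ _ nb, neg_neg, (B b hb _).1, ← map_inv, xx_inv]; congr 2; ring
  · exact (k3 b a ha).trans ((w2 _ _ _ na).trans (by rw [neg_neg, (A a ha b).1]; rfl))
  · refine (k5 b a ha).trans ?_
    rw [c2, w2 _ _ _ ha, ← inv_inv (-a), (B _ (by simpa using ha) _).2]; congr 2; simp [mul_comm]
  · refine cm_inv ((k2 a b hb).trans ((w2 _ _ _ hb).trans ?_))
    change _ = (f (yy _))⁻¹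
    rw [← inv_inv (-b), (A _ (by simpa using hb) _).2, ← map_inv, yy_inv]; congr 2; field_simp
  · refine (k6 b a ha).trans ((w1 _ _ _ na).trans ?_)
    rw [(B _ na _).2, (a3 _).2]; congr 1; field_simp

/-- the commutation relations of type `A₃` -/
structure RC (φ : HK F →* G) (V : G → Perm (Fin 4) → Prop) : Prop extends Fr φ V where
  R : ∀ {i j k}, i ≠ j ∧ i ≠ k ∧ j ≠ k → Cm φ V i j i k
  C : ∀ {i j k}, i ≠ j ∧ i ≠ k ∧ j ≠ k → Cm φ V i j k j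

namespace Fr

variable {φ : HK F →* G} {V : G → Perm (Fin 4) → Prop} (h : Fr φ V) [Finite F]
include h

theorem dn {i j k l : Fin 4} (π : Perm (Fin 4)) (H : Cm φ V (π i) (π j) (π k) (π l)) :
    Cm φ V i j k l := by simpa using h.cm_perm π⁻¹ H

theorem notM' {i j k : Fin 4} (e : i ≠ j ∧ i ≠ k ∧ j ≠ k) : ¬ Cm φ V i j j k := fun H => by
  obtain ⟨π, rfl, rfl, rfl⟩ := ex3 e.1 e.2.1 e.2.2
  exact h.notM (h.dn π H)

theorem not_cm : ¬ Cm φ V 1 0 0 1 := fun H => by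
  have := (h.comm_i1 (H _ (h.r10.2 ⟨1, rfl⟩) _ (h.r01.2 ⟨1, rfl⟩)) not_scal_xx).2
  simp at this

theorem rc {a b : Fin 4} (ab : ¬ Bl a b) (h1 : Cm φ V a b 0 1) (h2 : Cm φ V a b 2 3) : RC φ V := by
  have R : ∀ {i j k}, i ≠ j ∧ i ≠ k ∧ j ≠ k → Cm φ V i j i k → Cm φ V 0 1 0 2 := fun e H => by
    obtain ⟨π, rfl, rfl, rfl⟩ := ex3 e.1 e.2.1 e.2.2
    exact h.dn π H
  have C : ∀ {i j k}, i ≠ j ∧ i ≠ k ∧ j ≠ k → Cm φ V i j k j → Cm φ V 0 1 2 1 := fun e H => by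
    obtain ⟨π, rfl, rfl, rfl⟩ := ex3 e.1 e.2.1 e.2.2
    exact h.dn π H
  suffices Cm φ V 0 1 0 2 ∧ Cm φ V 0 1 2 1 from ⟨h, h.up 0 1 0 2 this.1, h.up 0 1 2 1 this.2⟩
  fin_cases a <;> fin_cases b <;> first
    | exact (ab rfl).elim
    | exact (h.notM' (by decide) h1).elim
    | exact (h.notM' (by decide) h2).elim
    | exact (h.notM' (by decide) h1.symm).elim
    | exact (h.notM' (by decide) h2.symm).elim
    | exact ⟨R (by decide) h1, C (by decide) h2⟩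
    | exact ⟨R (by decide) h2, C (by decide) h1⟩

end Fr

namespace RC

variable {φ : HK F →* G} {V : G → Perm (Fin 4) → Prop} (h : RC φ V) [Finite F]
include h

theorem perm' {x : G} {π : Perm (Fin 4)} (hx : V x π) :
    RC ((MulAut.conj x).toMonoidHom.comp φ) fun g σ => V g (π * σ * π⁻¹) :=
  ⟨h.perm hx, fun e => by simpa only [Cm, h.rt_perm hx] using h.R (by simpa using e),
    fun e => by simpa only [Cm, h.rt_perm hx] using h.C (by simpa using e)⟩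

theorem cmt0 {u v : G} (hu' : u ∈ rt φ V 0 2) (hv : v ∈ rt φ V 2 1) : u * v * u⁻¹ * v⁻¹ ∈ rt φ V 0 1 := by
  obtain ⟨u, hu, rfl⟩ : ∃ w ∈ rt φ V 0 2, w * w = u := by
    obtain ⟨r, hr⟩ := h.odd_p (h.rt_p (by decide) hu')
    exact ⟨u ^ (r + 1), pow_mem hu' _, by rw [← pow_add, show r + 1 + (r + 1) = 2 * r + 1 + 1 by ring,
      pow_succ, ← hr, pow_orderOf_eq_one, one_mul]⟩
  obtain ⟨g, hg⟩ := h.ex (swap 0 3)
  obtain ⟨g', hg'⟩ := h.ex (swap 1 2)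
  have e2 := (h.t2 g' hg').1
  have cu : Commute u (φ t2) := e2 ▸ (h.perm hg').t_comm (i := 0) (j := 1) (by decide) (by decide)
    ((h.rt_perm hg' _ _).ge hu)
  have iv : φ t2 * v * (φ t2)⁻¹ = v⁻¹ := e2 ▸ (h.perm hg').t_inv (i := 1) (j := 2) (by decide)
    ((h.rt_perm hg' _ _).ge hv)
  have vp := h.rt_p (by decide) hv
  have key : ∀ {a b}, Cm φ V a b 0 2 → Cm φ V a b 2 1 → ∀ z ∈ rt φ V a b,
      Commute z (u * v * u⁻¹) ∧ Commute z (u⁻¹ * v⁻¹ * u⁻¹⁻¹) := fun c1 c2 z hz =>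
    ⟨((c1 z hz u hu).mul_right (c2 z hz v hv)).mul_right (c1 z hz u hu).inv_right,
      ((c1 z hz u hu).inv_right.mul_right (c2 z hz v hv).inv_right).mul_right
        (c1 z hz u hu).inv_right.inv_right⟩
  have k1 := key (h.cm_far (i := 3) (j := 1) (by decide)) (h.C (by decide))
  have k2 := key (a := 0) (b := 1) (h.R (by decide)) (h.C (by decide))
  have k3 := key (a := 0) (b := 3) (h.R (by decide)) (h.cm_far (by decide))
  have i1 : φ t2 * (u * v * u⁻¹) * (φ t2)⁻¹ = (u * v * u⁻¹)⁻¹ := by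
    rw [← conj_mul, ← conj_mul, iv, cj_eq cu.symm, cj_eq cu.symm.inv_right, conj_inv]
  have i2 : φ t2 * (u⁻¹ * v⁻¹ * u⁻¹⁻¹) * (φ t2)⁻¹ = (u⁻¹ * v⁻¹ * u⁻¹⁻¹)⁻¹ := by
    rw [← conj_mul, ← conj_mul, ← conj_inv (a := v), iv, cj_eq cu.symm.inv_right,
      cj_eq cu.symm.inv_right.inv_right, conj_inv]
  have i3 : φ t0 * (u * v * u⁻¹) * (φ t0)⁻¹ = u⁻¹ * v⁻¹ * u⁻¹⁻¹ := by
    rw [← conj_mul, ← conj_mul, ← conj_inv (a := u), h.t_inv (by decide) hu, h.t_inv (by decide) hv]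
  have p1 : (u * v * u⁻¹) ^ ringChar F = 1 := by simp [vp]
  have p2 : (u⁻¹ * v⁻¹ * u⁻¹⁻¹) ^ ringChar F = 1 := by rw [conj_pow]; simp [vp]
  have e3 : (MulAut.conj g).toMonoidHom.comp φ t0 = φ t2 := h.to_t2 hg (by decide)
  have hc : _ ∈ rt φ V 3 1 := (h.rt_perm hg 0 1).le ((h.perm hg).gamma (a := 3) (b := 1) (by decide)
    (by simp only [Cm, h.rt_perm hg]; exact h.C (i := 3) (j := 1) (k := 0) (by decide)) p1 p2
    (e3 ▸ i1) (e3 ▸ i2) (fun z hz => (k1 z ((h.rt_perm hg 0 1).le hz)).1)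
    (fun z hz => (k1 z ((h.rt_perm hg 0 1).le hz)).2) (fun z hz => (k2 z ((h.rt_perm hg 3 1).le hz)).1)
    fun z hz => (k2 z ((h.rt_perm hg 3 1).le hz)).2)
  have e4 : u * u * v * (u * u)⁻¹ * v⁻¹ = u * (u * v * u⁻¹ * (u⁻¹ * v⁻¹ * u⁻¹⁻¹)) * u⁻¹ := by group
  generalize u * v * u⁻¹ = a at *
  generalize u⁻¹ * v⁻¹ * u⁻¹⁻¹ = b at *
  have ab : Commute a b := by_contra fun n => h.notM' (by decide) (h.cm_of (by decide) hc
    (fun e => n (by rwa [mul_inv_eq_one, mul_inv_eq_iff_eq_mul] at e)) fun z hz =>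
    ((((k3 z hz).1.mul_right (k3 z hz).2).mul_right (k3 z hz).1.inv_right).mul_right
      (k3 z hz).2.inv_right).symm).symm
  obtain ⟨x, y, hx, hy, e⟩ := h.pel_inv (e := a * b) (by rw [ab.mul_pow, p1, p2, one_mul])
    (comm_of_cj (by
      have i4 : φ t0 * b * (φ t0)⁻¹ = a := by
        rw [← i3, show ∀ t : G, t * (t * a * t⁻¹) * t⁻¹ = t * t * a * (t * t)⁻¹ from fun _ => by group, h.tt]
        simp
      rw [← conj_mul, i3, i4, ab.eq])).symm (by rw [← conj_mul, i1, i2, ab.eq, _root_.mul_inv_rev])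
  have c : ∀ {i j}, (∀ z ∈ rt φ V i j, Commute z a ∧ Commute z b) → ∀ z ∈ rt φ V i j,
      Commute z (x * y) := fun k z hz => e ▸ (k z hz).1.mul_right (k z hz).2
  have hx : x ∈ rt φ V 0 1 := hx.elim id fun hx => by
    by_cases x1 : x = 1
    · simp [x1]
    refine (h.not_cm (h.cm_of (by decide) hx x1 fun z hz => ?_)).elim
    simpa using ((c k2 z hz).mul_right (hy.elim (h.cm_far (by decide) z hz y)
      (h.cm_far (by decide) z hz y)).inv_right).symm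
  have y1 : y = 1 := by_contra fun y1 => by
    rcases hy with hy | hy
    · refine h.notM' (k := 1) (by decide) (h.cm_of (by decide) hy y1 fun z hz => ?_)
      simpa using ((h.C (by decide) z hz x hx).inv_right.mul_right (c k1 z hz)).symm
    · refine h.notM' (i := 0) (by decide) (h.cm_of (by decide) hy y1 fun z hz => ?_).symm
      simpa using ((h.R (by decide) z hz x hx).inv_right.mul_right (c k3 z hz)).symm
  rw [e4, e, y1, mul_one, cj_eq (h.R (by decide) u hu x hx)]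
  exact hx

theorem cmt {i j k : Fin 4} (e : i ≠ j ∧ i ≠ k ∧ j ≠ k) {u v : G} (hu : u ∈ rt φ V i k)
    (hv : v ∈ rt φ V k j) : u * v * u⁻¹ * v⁻¹ ∈ rt φ V i j := by
  obtain ⟨π, rfl, rfl, rfl⟩ := ex3 e.1 e.2.1 e.2.2
  obtain ⟨g, hg⟩ := h.ex π
  rw [← h.rt_perm hg] at *
  exact (h.perm' hg).cmt0 hu hv

theorem cmt' {i j k : Fin 4} (e : i ≠ j ∧ i ≠ k ∧ j ≠ k) {u v : G} (hu : u ∈ rt φ V i k)
    (hv : v ∈ rt φ V k j) : v * u * v⁻¹ * u⁻¹ ∈ rt φ V i j := by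
  simpa [mul_assoc] using inv_mem (h.cmt e hu hv)

theorem v_wa {a : F} (ha : a ≠ 0) : V (φ (i1 (wa a))) (swap 0 1) := by
  rw [wa_eq, map_mul, map_mul]; simpa using h.mul (h.vT (hd_tor ha)) h.n1

theorem kx {k : Fin 4} (hk : k = 2 ∨ k = 3) {a : F} (ha : a ≠ 0) {v : G}
    (hv : v ∈ rt φ V 1 k ∨ v ∈ rt φ V k 0) : φ (i1 (xx a)) * v * (φ (i1 (xx a)))⁻¹ * v⁻¹ =
      φ (i1 (wa a)) * v * (φ (i1 (wa a)))⁻¹ := by
  have hx := h.r01.2 ⟨a, rfl⟩
  have hy := h.r10.2 ⟨-a⁻¹, rfl⟩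
  have e : φ (i1 (wa a)) = φ (i1 (xx a)) * φ (i1 (yy (-a⁻¹))) * φ (i1 (xx a)) := by simp [wa]
  have e' := e.symm.trans (by rw [wa_br ha, map_mul, map_mul, map_mul, map_mul])
  rcases hk with rfl | rfl <;> rcases hv with hv | hv <;> have := h.rt_conj (h.v_wa ha) hv <;>
    rw [e] at this ⊢
  all_goals first
    | exact kf e' (h.R (by decide) _ hy _ hv) (h.cmt (by decide) hx hv)
        (fun _ => h.cmt (by decide) hy) hv this (fun _ => h.disj (by decide)) (h.C (by decide))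
    | exact kf e' (h.C (by decide) _ hy _ hv) (h.cmt' (by decide) hv hx)
        (fun _ hc => h.cmt' (by decide) hc hy) hv this (fun _ => h.disj (by decide)) (h.R (by decide))

theorem ky {k : Fin 4} (hk : k = 2 ∨ k = 3) {a : F} (ha : a ≠ 0) {v : G}
    (hv : v ∈ rt φ V 0 k ∨ v ∈ rt φ V k 1) : φ (i1 (yy a)) * v * (φ (i1 (yy a)))⁻¹ * v⁻¹ =
      φ (i1 (wa (-a⁻¹))) * v * (φ (i1 (wa (-a⁻¹))))⁻¹ := by
  have ha' := neg_ne_zero.2 (inv_ne_zero ha)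
  have hx := h.r01.2 ⟨-a⁻¹, rfl⟩
  have hy := h.r10.2 ⟨a, rfl⟩
  have e : φ (i1 (wa (-a⁻¹))) = φ (i1 (yy a)) * φ (i1 (xx (-a⁻¹))) * φ (i1 (yy a)) := by
    simp [wa_br ha', inv_neg]
  have e' := e.symm.trans (by simp only [wa, inv_neg, inv_inv, neg_neg, map_mul]; rfl)
  rcases hk with rfl | rfl <;> rcases hv with hv | hv <;> have := h.rt_conj (h.v_wa ha') hv <;>
    rw [e] at this ⊢
  all_goals first
    | exact kf e' (h.R (by decide) _ hx _ hv) (h.cmt (by decide) hy hv)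
        (fun _ => h.cmt (by decide) hx) hv this (fun _ => h.disj (by decide)) (h.C (by decide))
    | exact kf e' (h.C (by decide) _ hx _ hv) (h.cmt' (by decide) hv hy)
        (fun _ hc => h.cmt' (by decide) hc hx) hv this (fun _ => h.disj (by decide)) (h.R (by decide))

theorem cm_all {i j k l : Fin 4} (e : i ≠ j ∧ k ≠ l ∧ i ≠ l ∧ j ≠ k) : Cm φ V i j k l := by
  by_cases a : i = k <;> by_cases b : j = l
  · exact a ▸ b ▸ h.cm_self e.1
  · exact a ▸ h.R ⟨e.1, e.2.2.1, b⟩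
  · exact b ▸ h.C ⟨e.1, a, e.2.2.2⟩
  · exact h.cm_far ⟨e.1, a, e.2.2.2, e.2.2.1.symm, Ne.symm b, e.2.1.symm⟩

theorem edge {ρ : G} (hρ : V ρ (swap 0 1 * swap 1 2 * swap 2 3)) :
    Edge (φ.comp i1) (((MulAut.conj ρ).toMonoidHom.comp φ).comp i1) := by
  have h' := h.perm' hρ
  have ie : ∀ {ψ : HK F →* G}, Su ψ → Function.Injective (ψ.comp i1) := fun h =>
    (injective_iff_map_eq_one _).2 fun _ => h.i1_inj
  have m : ∀ i j : Fin 3, ∀ a, i ≠ j → x3 (φ.comp i1) (((MulAut.conj ρ).toMonoidHom.comp φ).comp i1) i j a ∈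
      rt φ V i.castSucc j.castSucc := fun i j a e => by
    have m1 := (h.rt_perm hρ 0 1).le (h'.r01.2 ⟨a, rfl⟩)
    have m2 := (h.rt_perm hρ 1 0).le (h'.r10.2 ⟨a, rfl⟩)
    fin_cases i <;> fin_cases j <;> first | contradiction | skip
    exacts [h.r01.2 ⟨a, rfl⟩, h.rt_conj h.n1 m1, h.r10.2 ⟨a, rfl⟩, m1, h.rt_conj h.n1 m2, m2]
  refine edge_of (ie h'.toSu) (fun i j k l a b c d x y => h.cm_all (by simp [*]) _
    (m i j x a) _ (m k l y b)) (fun a ha => ?_) (fun a ha => ?_) ?_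
    (fun b a ha => h.kx (Or.inl rfl) ha (Or.inl (m 1 2 b (by decide))))
    (fun b a ha => h.kx (Or.inl rfl) ha (Or.inr (m 2 0 b (by decide))))
    (fun b a ha => h.ky (Or.inl rfl) ha (Or.inl (m 0 2 b (by decide))))
    (fun b a ha => h'.kx (Or.inr rfl) ha (Or.inr ((h.rt_perm hρ 3 0).ge (m 0 1 b (by decide)))))
    (fun b a ha => h'.kx (Or.inr rfl) ha (Or.inl ((h.rt_perm hρ 1 3).ge (m 2 0 b (by decide)))))
    (fun b a ha => h'.ky (Or.inr rfl) ha (Or.inl ((h.rt_perm hρ 0 3).ge (m 1 0 b (by decide)))))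
    fun b a ha => h'.ky (Or.inr rfl) ha (Or.inr ((h.rt_perm hρ 3 1).ge (m 0 2 b (by decide))))
  · exact h'.act (π := 1) (h.cast (h.vT (hd_tor ha)) (by decide)) rfl rfl
  · exact h.act (π := 1) (h.cast (h'.vT (hd_tor ha)) (by decide)) rfl rfl
  · obtain ⟨c, c0, e⟩ := h.act (h.mul (h.inv (h.mul h.n1 hρ)) h'.n1) (by decide) (by decide)
    refine ⟨c, c0, fun a => ⟨?_, ?_⟩⟩
    · change _ = _ * (ρ * φ (i1 (xx (c * a))) * ρ⁻¹) * _
      rw [← (e a).1]; simp [mul_assoc]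
    · change _ = _ * (ρ * φ (i1 (yy (a / c))) * ρ⁻¹) * _
      rw [← (e a).2]; simp [mul_assoc]

theorem exists_hom : ∃ Φ : SpecialLinearGroup (Fin 4) F →* G, ∀ X, Φ (psi (i1 X)) = φ (i1 X) := by
  obtain ⟨ρ, hρ⟩ := h.ex (swap 0 1 * swap 1 2 * swap 2 3)
  let f : ℕ → SL2 →* G := fun i => (MulAut.conj (ρ ^ i)).toMonoidHom.comp (φ.comp i1)
  have E : ∀ i, Edge (f i) (f (i + 1)) := fun i => by
    obtain ⟨x, R, e⟩ := h.edge hρ
    refine ⟨_, stSL_map R (MulAut.conj (ρ ^ i)).toMonoidHom, fun a => ?_⟩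
    simp only [← (e a).1, ← (e a).2.1, ← (e a).2.2.1, ← (e a).2.2.2]
    simp [f, pow_succ, mul_assoc]
  obtain ⟨Φ, hΦ⟩ := ((on_path (n := 3) (fun i _ => E i) (fun i j a b X Y => by
    obtain ⟨rfl, rfl⟩ : i = 0 ∧ j = 2 := by omega
    obtain ⟨τ, hτ, e⟩ := h.quo h.w (h.cast (h.mul hρ hρ) (by decide))
    obtain ⟨Z, e'⟩ := swap_i1 (k := ws * τ) (by simp [mem_H0.1 (Tor_le hτ)]) Y
    have := (i_comm X Z).map φ
    rw [← e', map_mul, map_mul, map_inv, map_mul, ← e] at this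
    simpa [f, pow_two, mul_assoc] using this) 1 0 le_rfl).stSL
      (f := (Fin.val : Fin 4 → ℕ)) Fin.val_injective fun k => by simp; omega).exists_hom (by simp)
  refine ⟨Φ, fun X => DFunLike.congr_fun (sl2_hom_ext (φ := Φ.comp (psi.comp i1)) (ψ := φ.comp i1)
    (fun a => ?_) fun a => ?_) X⟩
  · have : psi (i1 (xx a)) = KSG.tvE 0 1 a := Subtype.ext (by
      rw [psi_coe, KSG.tvE_coe (by decide)]; ext i j; fin_cases i <;> fin_cases j <;> simp [mat])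
    simpa [this, f] using (hΦ 0 1 (by decide) a).trans (congrFun (pathX_up _ _ 0) a)
  · have : psi (i1 (yy a)) = KSG.tvE 1 0 a := Subtype.ext (by
      rw [psi_coe, KSG.tvE_coe (by decide)]; ext i j; fin_cases i <;> fin_cases j <;> simp [mat])
    simpa [this, f] using (hΦ 1 0 (by decide) a).trans (congrFun (pathX_dn _ _ 0) a)

end RC

end Cfsg.Agent.L4Q
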